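import Cfsg.Agent.Lib.ThUnique.KGroup

/-!
The common centraliser is the simple group of order 168, so the second letter exists.
-/

set_option autoImplicit false
set_option linter.style.haveILetI false
set_option maxRecDepth 8000

namespace CfsgLib.ThUnique

open Cfsg.Spor CfsgLib.CosetEnum CfsgLib.ThPres CfsgLib.ThRep

attribute [local irreducible] keyRun wordMat certL ctWords csWords

universe u

namespace Small.Coding

variable {K : Type*} [Group K] {M : Coded} (C : Coding K M)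

include C in
theorem cube_iff (g : K) : M.cube (C.enc g) = true ↔ g * g * g = 1 := by
  rw [Coded.cube, ← C.map_mul, ← C.map_mul, ← C.map_one, beq_iff_eq]
  exact C.inj.eq_iff

theorem mem_bset {a q y : K} (h2 : y * y = 1) (h1 : y ≠ 1) (ha : a * y * (a * y) * (a * y) = 1)
    (hq : q * y * (q * y) * (q * y) = 1) : C.enc y ∈ M.bset (C.enc a) (C.enc q) := by
  rw [Coded.bset, List.mem_filter, Bool.and_eq_true, ← C.map_mul, ← C.map_mul, C.cube_iff, C.cube_iff]
  exact ⟨C.inv_mem y h2 h1, ha, hq⟩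

theorem tri_true {a c x : K} (h1 : a ≠ c) (h2 : a ≠ x) (h3 : a * c = c * a) (h4 : a * x = x * a)
    (h5 : c * x ≠ x * c) : M.tri (C.enc a) (C.enc c) (C.enc x) = true := by
  simp only [Coded.tri, ← C.map_mul, Bool.and_eq_true, bne_iff_ne, beq_iff_eq, ne_eq, C.inj.eq_iff]
  exact ⟨⟨⟨⟨h1, h2⟩, h3⟩, h4⟩, h5⟩

theorem word_enc (l : List K) (wd : List ℕ) :
    M.word (l.map C.enc) wd = C.enc ((wd.map fun i => l.getD i 1).prod) := by
  suffices h : ∀ r : K, wd.foldl (fun r i => M.mul r ((l.map C.enc).getD i M.one)) (C.enc r) =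
      C.enc (r * (wd.map fun i => l.getD i 1).prod) by
    rw [Coded.word, ← C.map_one]
    simpa [C.map_one] using h 1
  induction wd with
  | nil => simp
  | cons i wd ih =>
    intro r
    rw [List.foldl_cons, ← C.map_one, List.getD_map, ← C.map_mul, C.map_one, ih, List.map_cons,
      List.prod_cons, mul_assoc]

/-- transport along an isomorphism -/
def comp {H : Type*} [Group H] (φ : H ≃* K) : Coding H M where
  enc g := C.enc (φ g)
  inj := C.inj.comp φ.injective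
  map_mul g h := by rw [φ.map_mul, C.map_mul]
  map_one := by rw [φ.map_one, C.map_one]
  inv_mem g h1 h2 := C.inv_mem _ (by rw [← φ.map_mul, h1, φ.map_one]) fun e => h2 (φ.injective (by rw [e, φ.map_one]))

end Small.Coding

variable {G : Type u} [Group G] {z : G}

namespace Setting

variable {S : Setting z} {w : G}

theorem cX_facts : S.L 2 * S.X * (S.L 2 * S.X) = z ∧ S.L 2 * S.X ≠ S.X * S.L 2 ∧ z ≠ S.X ∧
    S.X ≠ 1 := by
  have hX := S.X_c.1
  have n2 : S.L 2 * S.X ≠ S.X * S.L 2 := fun e => S.z_ne (by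
    rw [← e, mul_assoc, S.X_sq, mul_one] at hX
    exact mul_right_cancel (hX.symm.trans (one_mul _).symm))
  refine ⟨?_, n2, fun e => n2 ?_, fun e => n2 (by rw [e, one_mul, mul_one])⟩
  · rw [show S.L 2 * S.X * (S.L 2 * S.X) = S.L 2 * (S.X * S.L 2 * S.X) by group, hX, ← mul_assoc,
      S.c_comm, mul_assoc, S.c_sq, mul_one]
  · rw [← e]; exact S.c_comm

theorem dih (S : Setting z) : Nonempty (↥(Subgroup.centralizer ({(⟨z, S.z_K⟩ : S.K)} : Set S.K)) ≃*
    DihedralGroup 4) := by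
  have hmem : ∀ g : S.K, g ∈ Subgroup.centralizer ({(⟨z, S.z_K⟩ : S.K)} : Set S.K) ↔
      Commute (g : G) z := fun g => by
    rw [Subgroup.mem_centralizer_singleton_iff]
    exact ⟨fun e => congrArg Subtype.val e, fun e => Subtype.ext e⟩
  set H := Subgroup.centralizer ({(⟨z, S.z_K⟩ : S.K)} : Set S.K) with hH
  obtain ⟨h4, -, -, -⟩ := cX_facts (S := S)
  let c' : H := ⟨⟨S.L 2, S.c_K⟩, (hmem _).2 S.c_comm⟩
  let x' : H := ⟨⟨S.X, S.X_K⟩, (hmem _).2 S.X_z⟩
  let π : H →* G := (S.K.subtype).comp H.subtype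
  have hπ : Function.Injective π := fun a b e => Subtype.ext (Subtype.ext e)
  have hin : ∀ l ∈ dWords, inC l = true := fun l hl => by
    have := d_checks
    simp only [List.all_eq_true, Bool.and_eq_true] at this
    exact (this l hl).1.1.1
  have hlet : ∀ l ∈ dWords, ∃ h ∈ Subgroup.closure {c', x'}, π h = prodW S.L l := by
    have hc : c' ∈ Subgroup.closure {c', x'} := Subgroup.subset_closure (Or.inl rfl)
    have hx : x' ∈ Subgroup.closure {c', x'} := Subgroup.subset_closure (Or.inr rfl)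
    have hz : c' * x' * (c' * x') ∈ Subgroup.closure {c', x'} := mul_mem (mul_mem hc hx) (mul_mem hc hx)
    have ez : π (c' * x' * (c' * x')) = S.L 0 := by rw [S.L_zero]; exact h4
    intro l hl
    simp only [dWords, List.mem_cons, List.not_mem_nil, or_false] at hl
    rcases hl with rfl | rfl | rfl | rfl | rfl | rfl | rfl | rfl
    · exact ⟨1, one_mem _, by rw [map_one]; simp⟩
    · exact ⟨_, hz, by rw [ez]; simp⟩
    · exact ⟨_, hc, by simp [c', π]⟩
    · exact ⟨_, mul_mem hz hc, by rw [map_mul, ez]; simp [c', π]⟩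
    · exact ⟨_, hx, by simp [x', π, X, mul_assoc]⟩
    · exact ⟨_, mul_mem hz hx, by rw [map_mul, ez]; simp [x', π, X, mul_assoc]⟩
    · exact ⟨_, mul_mem hc hx, by simp [c', x', π, X, mul_assoc]⟩
    · exact ⟨_, mul_mem hz (mul_mem hc hx), by rw [map_mul, ez]; simp [c', x', π, X, mul_assoc]⟩
  have hall : ∀ g : H, ∃ l ∈ dWords, π g = prodW S.L l := fun g =>
    S.st_word g.1.2 ((hmem _).1 g.2)
  have hgen : Subgroup.closure {c', x'} = ⊤ := by
    refine eq_top_iff.2 fun g _ => ?_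
    obtain ⟨l, hl, e⟩ := hall g
    obtain ⟨h, hh, e'⟩ := hlet l hl
    rwa [hπ (e.trans e'.symm)]
  let f : Fin dWords.length → H := fun i => Classical.choose (hlet _ (List.getElem_mem i.2))
  have hf : ∀ i, π (f i) = prodW S.L dWords[i.1] := fun i =>
    (Classical.choose_spec (hlet _ (List.getElem_mem i.2))).2
  have hbij : Function.Bijective f := by
    refine ⟨fun i j e => ?_, fun g => ?_⟩
    · have := S.st_ne (List.getElem_mem i.2) (List.getElem_mem j.2) (by rw [← hf, ← hf, e])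
      exact Fin.ext ((List.Nodup.getElem_inj_iff (by decide)).1 this)
    · obtain ⟨l, hl, e⟩ := hall g
      obtain ⟨n, hn, rfl⟩ := List.getElem_of_mem hl
      exact ⟨⟨n, hn⟩, hπ ((hf _).trans e.symm)⟩
  have hcard : Nat.card H = 8 := by
    rw [← Nat.card_eq_of_bijective f hbij, Nat.card_fin]; rfl
  haveI : Finite H := Finite.of_surjective f hbij.2
  refine CfsgLib.Fusion.Split.exists_dihedral_equiv hcard (x := c') (y := x')
    (hπ (by rw [map_mul, map_one]; exact S.c_sq)) (hπ (by rw [map_mul, map_one]; exact S.X_sq)) hgen ?_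
  refine hπ ?_
  rw [map_pow, map_one, map_mul]
  show (S.L 2 * S.X) ^ 4 = 1
  rw [show (4 : ℕ) = 2 * 2 from rfl, pow_mul, pow_two (S.L 2 * S.X), h4, pow_two, S.z_sq]

/-- the elements fixed in sign -/
theorem no_sym (hw : SwapData S w) {n : ℕ} (φ : S.K ≃* Equiv.Perm (Fin n))
    (h : ∀ a : Equiv.Perm (Fin n), a * a = 1 → a ≠ 1 → Equiv.Perm.sign a = 1 →
      ∀ c : Equiv.Perm (Fin n), c * c = 1 → Equiv.Perm.sign c = 1 → a * c = c * a →
      ∀ x : Equiv.Perm (Fin n), x * x = 1 → Equiv.Perm.sign x = 1 → a * x = x * a → c * x = x * c) :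
    False := by
  obtain ⟨h4, n2, -, -⟩ := cX_facts (S := S)
  obtain ⟨hd, -⟩ := S.kc
  set zK : S.K := ⟨z, S.z_K⟩
  set cK : S.K := ⟨S.L 2, S.c_K⟩
  set xK : S.K := ⟨S.X, S.X_K⟩
  set wK : S.K := ⟨w, w_K hw⟩
  set vK : S.K := ⟨S.L 3 * w * S.L 3, S.d_conj_K (w_K hw)⟩
  let σ : S.K →* ℤˣ := Equiv.Perm.sign.comp φ.toMonoidHom
  have sz : σ zK = 1 := by
    rw [show zK = cK * xK * (cK * xK) from Subtype.ext h4.symm, map_mul, Int.units_mul_self]
  have hconj : ∀ {p q : S.K}, p * zK * p = q → p * p = 1 → σ q = 1 := fun {p q} e hp => by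
    rw [← e, map_mul, map_mul, sz, mul_one, ← map_mul, hp, map_one]
  have sc : σ cK = 1 := hconj (p := wK) (Subtype.ext hw.a_eq) (Subtype.ext hw.sq)
  have sx : σ xK = 1 := by
    refine hconj (p := vK) (Subtype.ext ?_) (Subtype.ext ?_)
    · show S.L 3 * w * S.L 3 * z * (S.L 3 * w * S.L 3) = S.L 3 * S.L 2 * S.L 3
      rw [show S.L 3 * w * S.L 3 * z * (S.L 3 * w * S.L 3) = S.L 3 * (w * (S.L 3 * z * S.L 3) * w) * S.L 3 by
        group, sand_of_comm hd (S.zg_comm (by decide)), hw.a_eq]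
    · show S.L 3 * w * S.L 3 * (S.L 3 * w * S.L 3) = 1
      rw [show S.L 3 * w * S.L 3 * (S.L 3 * w * S.L 3) = S.L 3 * (w * (S.L 3 * S.L 3) * w) * S.L 3 by group,
        hd, mul_one, hw.sq, mul_one, hd]
  have h2 : ∀ {g : S.K}, (g : G) * g = 1 → φ g * φ g = 1 := fun {g} e => by
    rw [← map_mul, show g * g = 1 from Subtype.ext e, map_one]
  have hcom : ∀ {g g' : S.K}, (g : G) * g' = g' * g → φ g * φ g' = φ g' * φ g := fun {g g'} e => by
    rw [← map_mul, ← map_mul, show g * g' = g' * g from Subtype.ext e]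
  have hz1 : φ zK ≠ 1 := fun e => S.z_ne (congrArg Subtype.val (φ.map_eq_one_iff.1 e))
  have := h (φ zK) (h2 S.z_sq) hz1 sz (φ cK) (h2 S.c_sq) sc (hcom S.c_comm.symm) (φ xK) (h2 S.X_sq) sx
    (hcom S.X_z.eq.symm)
  rw [← map_mul, ← map_mul] at this
  exact n2 (congrArg Subtype.val (φ.injective this))

/-- no element centralises too much -/
theorem no_top [Finite G] (hw : SwapData S w)
    (h : Subgroup.centralizer ({(⟨z, S.z_K⟩ : S.K)} : Set S.K) ⊔ Cfsg.oddCore S.K = ⊤) : False := by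
  haveI hn : (Cfsg.oddCore S.K).Normal := CfsgLib.Transfer.pPrimeCore_normal 2 _
  obtain ⟨a, ha, o, ho, e⟩ := Subgroup.mem_sup_of_normal_right.1
    (h ▸ Subgroup.mem_top (⟨w, w_K hw⟩ : S.K))
  set zK : S.K := ⟨z, S.z_K⟩
  set wK : S.K := ⟨w, w_K hw⟩
  set cK : S.K := ⟨S.L 2, S.c_K⟩
  have hz2 : zK * zK = 1 := Subtype.ext S.z_sq
  have hw2 : wK⁻¹ = wK := inv2 (Subtype.ext hw.sq)
  have hc : o * zK * o⁻¹ = a⁻¹ * cK * a := by
    have : wK * zK * wK⁻¹ = cK := by rw [hw2]; exact Subtype.ext hw.a_eq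
    rw [← e] at this
    rw [← this]; group
  have haz : Commute a zK := Subgroup.mem_centralizer_singleton_iff.1 ha
  have hcz : Commute (a⁻¹ * cK * a) zK :=
    ((haz.inv_left).mul_left (show Commute cK zK from Subtype.ext S.c_comm)).mul_left haz
  have hmem : a⁻¹ * cK * a * zK ∈ Cfsg.oddCore S.K := by
    rw [← hc, show o * zK * o⁻¹ * zK = o * (zK * o⁻¹ * zK⁻¹) * (zK * zK) by group, hz2, mul_one]
    exact mul_mem ho (hn.conj_mem _ (inv_mem ho) _)
  have hsq : (a⁻¹ * cK * a * zK) ^ 2 = 1 := by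
    rw [hcz.mul_pow, pow_two, pow_two, hz2, mul_one,
      show a⁻¹ * cK * a * (a⁻¹ * cK * a) = a⁻¹ * (cK * cK) * a by group,
      show cK * cK = 1 from Subtype.ext S.c_sq]
    group
  have hodd := CfsgLib.Transfer.pPrimeCore_coprime (G := S.K) 2
  have h1 : a⁻¹ * cK * a * zK = 1 := by
    have d1 : orderOf (⟨_, hmem⟩ : Cfsg.oddCore S.K) ∣ 2 :=
      orderOf_dvd_iff_pow_eq_one.2 (Subtype.ext hsq)
    have := Nat.eq_one_of_dvd_coprimes hodd (orderOf_dvd_natCard _) d1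
    exact congrArg Subtype.val (orderOf_eq_one_iff.1 this)
  have hcz' : cK = zK := by
    have h1' : a⁻¹ * cK * a = zK := by rw [eq_inv_of_mul_eq_one_left h1, inv2 hz2]
    calc cK = a * (a⁻¹ * cK * a) * a⁻¹ := by group
      _ = a * zK * a⁻¹ := by rw [h1']
      _ = zK := by rw [haz.eq, mul_inv_cancel_right]
  exact S.c_ne.1 (congrArg Subtype.val hcz')

/-- the candidates as members -/
theorem four_list (hw : SwapData S w) : ∃ y y0 : G,
    Cand4 S w y w (w * (z * S.L 2)) ∧ Cand4 S w y0 (w * (z * S.L 2)) w ∧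
    Cand4 S w (y * (w * (z * S.L 2))) w (w * (z * S.L 2)) ∧ Cand4 S w (y0 * w) (w * (z * S.L 2)) w ∧
    z * y0 * z = y ∧ z * (y0 * w) * z = y * (w * (z * S.L 2)) ∧
    [y, y * (w * (z * S.L 2)), y0, y0 * w].Nodup := by
  obtain ⟨y, y0, hy, hy0, e⟩ := exists_four hw
  obtain ⟨hy', n1⟩ := cand4_mul hw (Or.inl ⟨rfl, rfl⟩) hy
  obtain ⟨hy0', n2⟩ := cand4_mul hw (Or.inr ⟨rfl, rfl⟩) hy0
  obtain ⟨-, -, -, nwv⟩ := ne_facts hw
  have ne : ∀ {p q : G}, p * (z * S.L 2) * p = w → q * (z * S.L 2) * q = w * (z * S.L 2) → p ≠ q :=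
    fun {p q} hp hq e => nwv (hp.symm.trans (by rw [e]; exact hq))
  refine ⟨y, y0, hy, hy0, hy', hy0', e, ?_, ?_⟩
  · rw [show z * (y0 * w) * z = (z * y0 * z) * (z * w * z) by
      rw [show z * y0 * z * (z * w * z) = z * y0 * (z * z) * w * z by group, S.z_sq]; group,
      e, (u_facts hw).2.2.1]
  · simp only [List.nodup_cons, List.mem_cons, List.not_mem_nil, or_false, not_or, List.nodup_nil,
      and_true, not_false_eq_true]
    exact ⟨⟨n1.symm, ne hy.2.2.2.1 hy0.2.2.2.1, ne hy.2.2.2.1 hy0'.2.2.2.1⟩,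
      ⟨ne hy'.2.2.2.1 hy0.2.2.2.1, ne hy'.2.2.2.1 hy0'.2.2.2.1⟩, n2.symm⟩

theorem d_e_commute {b : G} (he : Commute b (S.L 4)) (hzd : Commute b (z * S.L 3)) :
    Commute b (S.L 3) := by
  obtain ⟨hd, he2, hde, -⟩ := S.kc
  have hzd2 : (z * S.L 3) * S.L 4 * (z * S.L 3) = S.L 3 * S.L 4 * S.L 3 := by
    have c4 : Commute (S.L 4) z := S.zg_comm (by decide)
    have c3 : Commute (S.L 3) z := S.zg_comm (by decide)
    rw [show z * S.L 3 * S.L 4 * (z * S.L 3) = z * (S.L 3 * S.L 4) * z * S.L 3 by group,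
      sand_of_comm S.z_sq (c3.mul_left c4).symm]
  have h1 : Commute b (S.L 3 * S.L 4 * S.L 3) := by
    rw [← hzd2]; exact (hzd.mul_right he).mul_right hzd
  have h2 := (he.mul_right h1).mul_right he
  have h3 : S.L 4 * (S.L 3 * S.L 4 * S.L 3) * S.L 4 = S.L 3 := by
    calc S.L 4 * (S.L 3 * S.L 4 * S.L 3) * S.L 4
        = (S.L 3)⁻¹ * (S.L 3 * S.L 4 * S.L 3 * S.L 4 * S.L 3 * S.L 4) := by group
      _ = _ := by rw [hde, mul_one, inv2 hd]
  rwa [h3] at h2

/-- the conjugate by d -/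
theorem conj_d {q : G} (hq : q ∈ S.K) (h2 : q * q = 1) (h1 : q ≠ 1) :
    (S.L 3 * q * S.L 3 ∈ S.K) ∧ S.L 3 * q * S.L 3 * (S.L 3 * q * S.L 3) = 1 ∧ S.L 3 * q * S.L 3 ≠ 1 ∧
    ∀ m : G, m * q * (m * q) * (m * q) = 1 →
      S.L 3 * m * S.L 3 * (S.L 3 * q * S.L 3) * (S.L 3 * m * S.L 3 * (S.L 3 * q * S.L 3)) *
        (S.L 3 * m * S.L 3 * (S.L 3 * q * S.L 3)) = 1 := by
  have hd := S.kc.1
  refine ⟨S.d_conj_K hq, ?_, fun e => h1 ?_, fun m hm => ?_⟩
  · rw [show S.L 3 * q * S.L 3 * (S.L 3 * q * S.L 3) = S.L 3 * (q * (S.L 3 * S.L 3) * q) * S.L 3 by group,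
      hd, mul_one, h2, mul_one, hd]
  · calc q = S.L 3 * S.L 3 * q * (S.L 3 * S.L 3) := by rw [hd]; group
      _ = S.L 3 * (S.L 3 * q * S.L 3) * S.L 3 := by group
      _ = 1 := by rw [e, mul_one, hd]
  · have e : S.L 3 * m * S.L 3 * (S.L 3 * q * S.L 3) = S.L 3 * (m * q) * (S.L 3)⁻¹ := by
      rw [inv2 hd, show S.L 3 * m * S.L 3 * (S.L 3 * q * S.L 3) = S.L 3 * m * (S.L 3 * S.L 3) * q * S.L 3
        by group, hd]
      group
    rw [e]; exact cube_conj _ hm

/-- the case of order 168 -/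
theorem bee_of_line (hw : SwapData S w) (C : Small.Coding S.K Small.line) :
    ∃ b : G, BeeData S w b := by
  obtain ⟨y, y0, hy, hy0, hy', hy0', ey, ey', hnd⟩ := four_list hw
  obtain ⟨-, n2, nzX, nX⟩ := cX_facts (S := S)
  obtain ⟨hd, -⟩ := S.kc
  set zK : S.K := ⟨z, S.z_K⟩
  set cK : S.K := ⟨S.L 2, S.c_K⟩
  set xK : S.K := ⟨S.X, S.X_K⟩
  have nK : ∀ {p : S.K}, (p : G) ≠ 1 → p ≠ 1 := fun h e => h (congrArg Subtype.val e)
  have hfact := Small.line_facts
  simp only [Small.Coded.lineFacts, List.all_eq_true, Bool.or_eq_true, Bool.not_eq_true'] at hfact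
  have hz := C.inv_mem zK (Subtype.ext S.z_sq) (nK S.z_ne)
  have hc := C.inv_mem cK (Subtype.ext S.c_sq) (nK S.c_ne.2)
  have hx := C.inv_mem xK (Subtype.ext S.X_sq) (nK nX)
  have htri : Small.line.tri (C.enc zK) (C.enc cK) (C.enc xK) = true :=
    C.tri_true (fun e => S.c_ne.1 (congrArg Subtype.val e).symm) (fun e => nzX (congrArg Subtype.val e))
      (Subtype.ext S.c_comm.symm) (Subtype.ext S.X_z.eq.symm) (fun e => n2 (congrArg Subtype.val e))
  rcases hfact _ hz _ hc _ hx with h | h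
  · rw [htri] at h; exact Bool.noConfusion h
  simp only [Bool.and_eq_true, Nat.ble_eq, List.any_eq_true, List.all_eq_true, Bool.or_eq_true,
    Bool.not_eq_true', beq_iff_eq] at h
  obtain ⟨hlen, p, hp, hpx, huniq⟩ := h
  -- the four candidates exhaust the list
  let F : List S.K := [⟨y, hy.1⟩, ⟨_, hy'.1⟩, ⟨y0, hy0.1⟩, ⟨_, hy0'.1⟩]
  have hFnd : (F.map C.enc).Nodup := by
    refine List.Nodup.map C.inj (List.Nodup.of_map Subtype.val ?_)
    exact hnd
  have hFsub : ∀ n ∈ F.map C.enc, n ∈ Small.line.bset (C.enc zK) (C.enc cK) := by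
    intro n hn
    obtain ⟨q, hq, rfl⟩ := List.mem_map.1 hn
    have key : ∃ V V', ((V = w ∧ V' = w * (z * S.L 2)) ∨ (V = w * (z * S.L 2) ∧ V' = w)) ∧
        Cand4 S w (q : G) V V' := by
      simp only [F, List.mem_cons, List.not_mem_nil, or_false] at hq
      rcases hq with rfl | rfl | rfl | rfl
      exacts [⟨_, _, Or.inl ⟨rfl, rfl⟩, hy⟩, ⟨_, _, Or.inl ⟨rfl, rfl⟩, hy'⟩,
        ⟨_, _, Or.inr ⟨rfl, rfl⟩, hy0⟩, ⟨_, _, Or.inr ⟨rfl, rfl⟩, hy0'⟩]
    obtain ⟨V, V', hV, hq4⟩ := key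
    exact C.mem_bset (Subtype.ext hq4.2.2.1) (nK (cand4_ne hw hV hq4))
      (Subtype.ext (cand4_cube hw hV hq4).1) (Subtype.ext (cand4_cube hw hV hq4).2)
  have hperm := (hFnd.subperm hFsub).perm_of_length_le hlen
  have hex : ∀ n ∈ Small.line.bset (C.enc zK) (C.enc cK), ∃ q ∈ F, C.enc q = n := fun n hn =>
    List.mem_map.1 (hperm.symm.subset hn)
  obtain ⟨p0, hp0F, hp0e⟩ := hex p hp
  subst hp0e
  have hpX : (S.X * p0) * (S.X * p0) * (S.X * (p0 : G)) = 1 := by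
    rw [← C.map_mul, C.cube_iff] at hpx
    exact congrArg Subtype.val hpx
  have hp0 : ∃ V V', ((V = w ∧ V' = w * (z * S.L 2)) ∨ (V = w * (z * S.L 2) ∧ V' = w)) ∧
      Cand4 S w (p0 : G) V V' := by
    simp only [F, List.mem_cons, List.not_mem_nil, or_false] at hp0F
    rcases hp0F with rfl | rfl | rfl | rfl
    exacts [⟨_, _, Or.inl ⟨rfl, rfl⟩, hy⟩, ⟨_, _, Or.inl ⟨rfl, rfl⟩, hy'⟩,
      ⟨_, _, Or.inr ⟨rfl, rfl⟩, hy0⟩, ⟨_, _, Or.inr ⟨rfl, rfl⟩, hy0'⟩]
  obtain ⟨V, V', hV, h4⟩ := hp0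
  obtain ⟨cz, cc⟩ := cand4_cube hw hV h4
  have hne : (p0 : G) ≠ 1 := cand4_ne hw hV h4
  obtain ⟨qK, q2, q1, qc⟩ := conj_d h4.1 h4.2.2.1 hne
  have dz : S.L 3 * z * S.L 3 = z := sand_of_comm hd (S.zg_comm (by decide))
  have dX : S.L 3 * S.X * S.L 3 = S.L 2 := by
    rw [X, show S.L 3 * (S.L 3 * S.L 2 * S.L 3) * S.L 3 =
      (S.L 3 * S.L 3) * S.L 2 * (S.L 3 * S.L 3) by group, hd, one_mul, mul_one]
  have qz := qc z cz
  rw [dz] at qz
  have qcc := qc S.X hpX
  rw [dX] at qcc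
  have qx := qc (S.L 2) cc
  set q : S.K := ⟨_, qK⟩ with hq
  have hqb : C.enc q ∈ Small.line.bset (C.enc zK) (C.enc cK) :=
    C.mem_bset (Subtype.ext q2) (nK q1) (Subtype.ext qz) (Subtype.ext qcc)
  have hqX : Small.line.cube (Small.line.mul (C.enc xK) (C.enc q)) = true := by
    rw [← C.map_mul, C.cube_iff]; exact Subtype.ext qx
  have hdp : Commute (p0 : G) (S.L 3) := by
    rcases huniq _ hqb with h | ⟨h, -⟩
    · rw [hqX] at h; exact Bool.noConfusion h
    rcases h with h | h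
    · exact (comm_of_sand hd (congrArg Subtype.val (C.inj h))).symm
    · rw [← C.map_mul, ← C.map_mul] at h
      have e : S.L 3 * (p0 : G) * S.L 3 = z * p0 * z := congrArg Subtype.val (C.inj h)
      have hzd : Commute (S.L 3) z := S.zg_comm (by decide)
      refine d_e_commute h4.2.1 (comm_of_sand ?_ ?_).symm
      · rw [show z * S.L 3 * (z * S.L 3) = z * (S.L 3 * z * S.L 3) by group, dz, S.z_sq]
      · calc z * S.L 3 * (p0 : G) * (z * S.L 3) = z * (S.L 3 * (p0 : G) * (S.L 3 * z)) := by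
              rw [hzd.eq]; group
          _ = z * (S.L 3 * (p0 : G) * S.L 3) * z := by group
          _ = z * z * p0 * (z * z) := by rw [e]; group
          _ = p0 := by rw [S.z_sq, one_mul, mul_one]
  -- choose the right one of the two
  have main : ∀ b : S.K, C.enc b ∈ Small.line.bset (C.enc zK) (C.enc cK) →
      Small.line.cube (Small.line.mul (C.enc xK) (C.enc b)) = true →
      Cand4 S w (b : G) w (w * (z * S.L 2)) → Commute (b : G) (S.L 3) → ∃ b, BeeData S w b := by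
    intro b hb hbx hb4 hbd
    obtain ⟨hs, ht⟩ := S.mem_K.1 b.2
    obtain ⟨hz', hc'⟩ := cand4_cube hw (Or.inl ⟨rfl, rfl⟩) hb4
    refine ⟨b, hb4.2.2.1, hs, ht, hbd, hb4.2.1, hz', hc', hb4.2.2.2.1, ?_⟩
    rcases huniq _ hb with h | ⟨-, h7⟩
    · rw [hbx] at h; exact Bool.noConfusion h
    simp only [Small.Coded.seven, ← C.map_mul, ← C.map_one, beq_iff_eq] at h7
    have := congrArg Subtype.val (C.inj h7)
    simp only [Subgroup.coe_mul, Subgroup.coe_one] at this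
    simpa only [pow_succ, pow_zero, one_mul, X, cK, xK] using this
  rcases hV with ⟨e1, e2⟩ | ⟨e1, e2⟩ <;> rw [e1, e2] at h4
  · exact main p0 hp hpx h4 hdp
  · have hz4 : Cand4 S w (z * p0 * z) w (w * (z * S.L 2)) := by
      simp only [F, List.mem_cons, List.not_mem_nil, or_false] at hp0F
      rcases hp0F with rfl | rfl | rfl | rfl
      · exact absurd (hy.2.2.2.1.symm.trans h4.2.2.2.1) (ne_facts hw).2.2.2
      · exact absurd (hy'.2.2.2.1.symm.trans h4.2.2.2.1) (ne_facts hw).2.2.2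
      · rw [ey]; exact hy
      · rw [ey']; exact hy'
    have hzd : Commute (S.L 3) z := S.zg_comm (by decide)
    refine main ⟨_, hz4.1⟩ ?_ ?_ hz4 ((hzd.symm.mul_left hdp).mul_left hzd.symm)
    · exact C.mem_bset (Subtype.ext hz4.2.2.1) (nK (cand4_ne hw (Or.inl ⟨rfl, rfl⟩) hz4))
        (Subtype.ext (cand4_cube hw (Or.inl ⟨rfl, rfl⟩) hz4).1)
        (Subtype.ext (cand4_cube hw (Or.inl ⟨rfl, rfl⟩) hz4).2)
    · rw [← C.map_mul, C.cube_iff]
      refine Subtype.ext ?_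
      show S.X * (z * p0 * z) * (S.X * (z * p0 * z)) * (S.X * (z * p0 * z)) = 1
      have e : S.X * (z * p0 * z) = z * (S.X * p0) * z⁻¹ := by
        rw [inv2 S.z_sq, ← mul_assoc, ← mul_assoc, S.X_z.eq]; group
      rw [e]; exact cube_conj z hpX

/-- no element of order five is fixed by the letter d -/
theorem five_d (hw : SwapData S w) {f : G} (hf : f ∈ S.K) (hfd : Commute f (S.L 3)) (h5 : f ^ 5 = 1) :
    f = 1 := by
  obtain ⟨hd, he2, hde, -, hdt, het, -, -, -, -, h8⟩ := S.kc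
  obtain ⟨ws, wt⟩ := S.mem_K.1 (w_K hw)
  obtain ⟨-, Xt⟩ := S.mem_K.1 S.X_K
  have hq1 : inC ([0] ++ q1W ++ [9, 4]) = true := by decide
  have ec1 : w * prodW S.L ([2] ++ qW ++ [9]) * w = S.X * S.L 4 * S.X := by
    have e := S.eq_of_th (l := [0] ++ q1W ++ [9, 4]) (m := [3, 2, 3, 4, 3, 2, 3]) hq1 (by decide)
      (eqM_th m_check3)
    have e' : S.X * S.L 4 * S.X = prodW S.L [3, 2, 3, 4, 3, 2, 3] := by simp [X, mul_assoc]
    rw [e', ← e]
    simp only [prodW_append, prodW_cons, prodW_nil, mul_one]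
    calc w * (S.L 2 * prodW S.L qW * S.L 9) * w
        = w * S.L 2 * (w * w) * prodW S.L qW * (w * w) * S.L 9 * w := by rw [hw.sq]; group
      _ = (w * S.L 2 * w) * (w * prodW S.L qW * w) * (w * S.L 9 * w) := by group
      _ = _ := by rw [swap_comm hw.sq hw.a_eq, hw.q_eq, hw.u_eq, S.L_zero]
  set H := prodW S.L [3, 4, 10, 3, 4] with hH
  have e1 : H * prodW S.L ([2] ++ qW ++ [9]) * H⁻¹ = S.L 2 := by
    have e := S.eq_of_th (l := [3, 4, 10, 3, 4] ++ ([2] ++ qW ++ [9])) (m := [2] ++ [3, 4, 10, 3, 4])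
      (by decide) (by decide) (eqM_th m_check1)
    rw [prodW_append, ← hH] at e
    rw [e, prodW_append, prodW_single, ← hH, mul_inv_cancel_right]
  have e2 : H * S.L 7 * H⁻¹ = (S.L 7)⁻¹ := by
    have e := S.eq_of_th (l := [3, 4, 10, 3, 4] ++ [7]) (m := [8] ++ [3, 4, 10, 3, 4])
      (by decide) (by decide) (eqM_th m_check2)
    rw [prodW_append, prodW_append, ← hH, prodW_single, prodW_single, h8] at e
    rw [e, mul_inv_cancel_right]
  set m := w * H * w * S.X with hm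
  have hme : m * S.L 4 * m⁻¹ = z := by
    rw [hm, show w * H * w * S.X * S.L 4 * (w * H * w * S.X)⁻¹ =
      w * (H * (w * (S.X * S.L 4 * S.X⁻¹) * w⁻¹) * H⁻¹) * w⁻¹ by group, inv2 S.X_sq, inv2 hw.sq, ← ec1,
      swap_comm hw.sq (x := w * prodW S.L ([2] ++ qW ++ [9]) * w) rfl, e1, swap_comm hw.sq hw.a_eq]
  have hmt : m * S.L 7 * m⁻¹ = (S.L 7)⁻¹ := by
    rw [hm, show w * H * w * S.X * S.L 7 * (w * H * w * S.X)⁻¹ =
      w * (H * (w * (S.X * S.L 7 * S.X⁻¹) * w⁻¹) * H⁻¹) * w⁻¹ by group, inv2 S.X_sq, inv2 hw.sq,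
      sand_of_comm S.X_sq Xt, sand_of_comm hw.sq wt, e2, sand_of_comm hw.sq wt.inv_right]
  set n := m * (S.L 3 * S.L 4) with hn
  have hnd : n * S.L 3 * n⁻¹ = z := by
    have e : S.L 3 * S.L 4 * S.L 3 * (S.L 3 * S.L 4)⁻¹ = S.L 4 := by
      rw [mul_inv_rev, inv2 hd, inv2 he2]
      calc S.L 3 * S.L 4 * S.L 3 * (S.L 4 * S.L 3)
          = (S.L 3 * S.L 4 * S.L 3 * S.L 4 * S.L 3 * S.L 4) * (S.L 4)⁻¹ := by group
        _ = _ := by rw [hde, one_mul, inv2 he2]
    rw [hn, show m * (S.L 3 * S.L 4) * S.L 3 * (m * (S.L 3 * S.L 4))⁻¹ =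
      m * (S.L 3 * S.L 4 * S.L 3 * (S.L 3 * S.L 4)⁻¹) * m⁻¹ by group, e, hme]
  have hnt : n * S.L 7 * n⁻¹ = (S.L 7)⁻¹ := by
    rw [hn, show m * (S.L 3 * S.L 4) * S.L 7 * (m * (S.L 3 * S.L 4))⁻¹ =
      m * (S.L 3 * S.L 4 * S.L 7 * (S.L 3 * S.L 4)⁻¹) * m⁻¹ by group, (hdt.mul_left het).eq,
      mul_inv_cancel_right, hmt]
  have cz : Commute (n * f * n⁻¹) z := by have := conj_comm n hfd; rwa [hnd] at this
  have ct : Commute (n * f * n⁻¹) (S.L 7) := by
    have := conj_comm n (S.mem_K.1 hf).2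
    rw [hnt] at this
    simpa using this.inv_right
  obtain ⟨v, hv⟩ := S.lift cz
  have v7 : (v : Th) * tg 7 = tg 7 * v := by
    have := S.th_of_comm (v := v) (w := cW [7]) (by rw [hv]; exact ct)
    rwa [cW1 (by decide)] at this
  have v5 : v ^ 5 = 1 := S.inj (by rw [map_pow, hv, conj_pow, h5, mul_one, mul_inv_cancel, map_one])
  have v1 : v = 1 := Subtype.ext (five_t v.2 (congrArg Subtype.val v5) v7)
  rw [v1, map_one, eq_comm, conj_eq_one_iff] at hv
  exact hv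

/-- the case of order 360 is impossible -/
theorem no_six (hw : SwapData S w) (C : Small.Coding S.K Small.six) : False := by
  obtain ⟨y, y0, hy, -, -, -, -, -, -⟩ := four_list hw
  obtain ⟨-, n2, nzX, nX⟩ := cX_facts (S := S)
  obtain ⟨hd, -⟩ := S.kc
  set zK : S.K := ⟨z, S.z_K⟩
  set cK : S.K := ⟨S.L 2, S.c_K⟩
  set xK : S.K := ⟨S.X, S.X_K⟩
  have nK : ∀ {p : S.K}, (p : G) ≠ 1 → p ≠ 1 := fun h e => h (congrArg Subtype.val e)
  have hfact := Small.six_facts
  simp only [Small.Coded.sixFactsAt, List.all_eq_true, Bool.or_eq_true, Bool.not_eq_true',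
    List.any_eq_true, Bool.and_eq_true, bne_iff_ne, beq_iff_eq] at hfact
  have hz := C.inv_mem zK (Subtype.ext S.z_sq) (nK S.z_ne)
  have hc := C.inv_mem cK (Subtype.ext S.c_sq) (nK S.c_ne.2)
  have hx := C.inv_mem xK (Subtype.ext S.X_sq) (nK nX)
  have htri : Small.six.tri (C.enc zK) (C.enc cK) (C.enc xK) = true :=
    C.tri_true (fun e => S.c_ne.1 (congrArg Subtype.val e).symm) (fun e => nzX (congrArg Subtype.val e))
      (Subtype.ext S.c_comm.symm) (Subtype.ext S.X_z.eq.symm) (fun e => n2 (congrArg Subtype.val e))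
  rcases hfact _ hz _ hc _ hx with h | h
  · rw [htri] at h; exact Bool.noConfusion h
  obtain ⟨cz, cc⟩ := cand4_cube hw (Or.inl ⟨rfl, rfl⟩) hy
  have hne := cand4_ne hw (Or.inl ⟨rfl, rfl⟩) hy
  obtain ⟨qK, q2, q1, qc⟩ := conj_d hy.1 hy.2.2.1 hne
  have dz : S.L 3 * z * S.L 3 = z := sand_of_comm hd (S.zg_comm (by decide))
  have qz := qc z cz
  rw [dz] at qz
  have qx := qc (S.L 2) cc
  set yK : S.K := ⟨y, hy.1⟩
  set qy : S.K := ⟨S.L 3 * y * S.L 3, qK⟩ with hqy
  obtain ⟨wd, -, hwd⟩ := h _ (C.mem_bset (a := zK) (q := cK) (y := yK) (Subtype.ext hy.2.2.1) (nK hne)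
    (Subtype.ext cz) (Subtype.ext cc)) _ (C.mem_bset (a := zK) (q := xK) (y := qy) (Subtype.ext q2)
    (nK q1) (Subtype.ext qz) (Subtype.ext qx))
  rw [show [C.enc zK, C.enc cK, C.enc xK, C.enc yK, C.enc qy] = [zK, cK, xK, yK, qy].map C.enc from rfl,
    show [C.enc zK, C.enc xK, C.enc cK, C.enc qy, C.enc yK] = [zK, xK, cK, qy, yK].map C.enc from rfl,
    C.word_enc, C.word_enc, ← C.map_one] at hwd
  set f := (wd.map fun i => [zK, cK, xK, yK, qy].getD i 1).prod with hf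
  -- conjugation by d exchanges the two tuples
  have hconj : ((wd.map fun i => [zK, xK, cK, qy, yK].getD i 1).prod : S.K).1 = S.L 3 * f.1 * S.L 3 := by
    have hmap : ∀ i, (([zK, xK, cK, qy, yK].getD i 1 : S.K) : G) =
        S.L 3 * (([zK, cK, xK, yK, qy].getD i 1 : S.K) : G) * (S.L 3)⁻¹ := by
      intro i
      have hc3 : S.L 3 * S.X * S.L 3 = S.L 2 := by
        rw [X, show S.L 3 * (S.L 3 * S.L 2 * S.L 3) * S.L 3 =
          (S.L 3 * S.L 3) * S.L 2 * (S.L 3 * S.L 3) by group, hd, one_mul, mul_one]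
      rcases i with _ | _ | _ | _ | _ | i <;>
        simp only [List.getD_cons_zero, List.getD_cons_succ, List.getD_nil, Subgroup.coe_one, zK, cK, xK,
          yK, qy, inv2 hd]
      · exact dz.symm
      · rfl
      · exact hc3.symm
      · exact (swap_comm hd rfl).symm
      · rw [mul_one, hd]
    rw [hf]
    clear hwd hf f
    induction wd with
    | nil => simp [hd]
    | cons i l ih =>
      simp only [List.map_cons, List.prod_cons, Subgroup.coe_mul, ih, hmap, inv2 hd]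
      rw [show ∀ p q : G, S.L 3 * p * S.L 3 * (S.L 3 * q * S.L 3) = S.L 3 * (p * q) * S.L 3 from
        fun p q => by
          rw [show S.L 3 * p * S.L 3 * (S.L 3 * q * S.L 3) = S.L 3 * p * (S.L 3 * S.L 3) * q * S.L 3
            by group, hd]
          group]
  rcases hwd with h | ⟨⟨h1, he⟩, h5⟩
  · refine h ?_
    have key : ∀ {p : S.K}, (C.enc p == C.enc 1) = true ↔ (p : G) = 1 := fun {p} => by
      rw [beq_iff_eq, C.inj.eq_iff]
      exact ⟨fun e => by rw [e]; rfl, fun e => Subtype.ext e⟩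
    rw [Bool.eq_iff_iff, key, key, hconj]
    constructor
    · intro e; rw [e, mul_one, hd]
    · intro e
      calc (f : G) = S.L 3 * S.L 3 * f.1 * (S.L 3 * S.L 3) := by rw [hd]; group
        _ = S.L 3 * (S.L 3 * f.1 * S.L 3) * S.L 3 := by group
        _ = 1 := by rw [e, mul_one, hd]
  · have hfd : Commute (f : G) (S.L 3) :=
      (comm_of_sand hd ((hconj.symm.trans (congrArg Subtype.val (C.inj he)).symm))).symm
    simp only [Small.Coded.five, ← C.map_mul, ← C.map_one, beq_iff_eq] at h5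
    have h5' := congrArg Subtype.val (C.inj h5)
    simp only [Subgroup.coe_mul, Subgroup.coe_one] at h5'
    have := five_d hw f.2 hfd (by simpa only [pow_succ, pow_zero, one_mul] using h5')
    exact h1 (by rw [show f = 1 from Subtype.ext this])

/-- the element playing the part of the second letter -/
theorem exists_bee [Finite G] (S : Setting z) : ∃ w b : G, SwapData S w ∧ BeeData S w b := by
  obtain ⟨w, hw⟩ := S.exists_swap
  have hz : orderOf (⟨z, S.z_K⟩ : S.K) = 2 :=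
    orderOf_eq_prime (by rw [pow_two]; exact Subtype.ext S.z_sq) fun e => S.z_ne (congrArg Subtype.val e)
  rcases Cfsg.Agent.S3035.result (⟨z, S.z_K⟩ : S.K) hz (dih S) with h | h | h | h | h
  · exact (no_top hw h).elim
  · obtain ⟨φ⟩ := h
    exact (no_sym hw φ fun a h1 h2 h3 c h4 h5 h6 x h7 h8 h9 =>
      Small.sym_four a c x h1 h4 h7 h2 h3 h5 h8 h6 h9).elim
  · obtain ⟨φ⟩ := h
    exact (no_sym hw φ Small.sym_five).elim
  · obtain ⟨φ⟩ := h
    obtain ⟨b, hb⟩ := bee_of_line hw (Small.lineCoding.comp φ)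
    exact ⟨w, b, hw, hb⟩
  · obtain ⟨φ⟩ := h
    exact (no_six hw (Small.sixCoding.comp φ)).elim

end Setting

end CfsgLib.ThUnique
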