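import Cfsg.Agent.Lib.CosetEnum.Basic

/-!
Data for the candidates of the exchanging automorphism.
-/

set_option autoImplicit false
set_option maxRecDepth 20000

namespace CfsgLib.ThUnique

/-- generators -/
def ctGen : List (List ℕ) := [[0],
  [2],
  [4],
  [7],
  [3, 2, 3, 4, 3, 2, 3],
  [3, 2, 3, 5, 4, 3, 2, 3, 6, 6, 4, 3, 2, 3, 6, 4, 3, 2, 3, 5, 4, 5]]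

/-- their conjugates by u -/
def ctGenU : List (List ℕ) := [[0],
  [2],
  [4],
  [8],
  [3, 2, 3, 2, 4, 3, 2, 3],
  [0, 3, 2, 3, 5, 4, 3, 2, 3, 6, 6, 4, 3, 2, 3, 6, 4, 3, 2, 3, 5, 4, 5]]

/-- the listed elements in the generators -/
def ctGenWord : List (List ℕ) := [[],
  [0],
  [1],
  [2],
  [3],
  [3, 3],
  [0, 1],
  [0, 2],
  [0, 3],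
  [0, 3, 3],
  [1, 2],
  [1, 3],
  [1, 3, 3],
  [2, 3],
  [2, 3, 3],
  [0, 1, 2],
  [0, 1, 3],
  [0, 1, 3, 3],
  [0, 2, 3],
  [0, 2, 3, 3],
  [1, 2, 3],
  [1, 2, 3, 3],
  [0, 1, 2, 3],
  [0, 1, 2, 3, 3],
  [4],
  [0, 4],
  [1, 4],
  [0, 1, 4],
  [4, 2],
  [3, 4],
  [3, 3, 4],
  [2, 4],
  [0, 3, 4],
  [0, 3, 3, 4],
  [1, 4, 2],
  [1, 3, 4],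
  [1, 3, 3, 4],
  [1, 2, 4],
  [0, 1, 3, 4],
  [0, 1, 3, 3, 4],
  [3, 4, 2],
  [3, 3, 4, 2],
  [2, 3, 4],
  [2, 3, 3, 4],
  [1, 3, 4, 2],
  [1, 3, 3, 4, 2],
  [1, 2, 3, 4],
  [1, 2, 3, 3, 4],
  [5],
  [2, 5, 4],
  [0, 4, 5],
  [0, 3, 3, 4, 5],
  [3, 4, 5],
  [4, 5],
  [3, 3, 4, 5, 2],
  [0, 5, 2],
  [0, 3, 3, 5, 2],
  [3, 5, 2],
  [5, 2],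
  [3, 3, 5, 2],
  [0, 3, 5, 2],
  [4, 2, 5],
  [2, 3, 4, 5],
  [1, 5],
  [3, 3, 4, 5],
  [0, 3, 4, 5],
  [0, 5],
  [4, 5, 2],
  [2, 3, 3, 5, 4],
  [2, 4, 5],
  [3, 4, 2, 5],
  [0, 1, 5],
  [0, 5, 4],
  [0, 3, 3, 5, 4],
  [3, 5, 4],
  [5, 4],
  [3, 3, 4, 2, 5],
  [0, 2, 5],
  [0, 2, 3, 3, 5],
  [2, 3, 5],
  [2, 5],
  [2, 3, 3, 5],
  [0, 2, 3, 5],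
  [2, 3, 5, 4],
  [3, 3, 5, 4],
  [0, 3, 5, 4],
  [0, 3, 3, 5],
  [3, 5],
  [3, 3, 5],
  [0, 3, 5],
  [3, 4, 5, 2],
  [1, 3, 3, 5],
  [0, 1, 3, 3, 5],
  [1, 3, 5],
  [0, 1, 3, 5],
  [2, 3, 3, 4, 5]]

/-- the listed elements conjugated by u -/
def ctImg : List (List ℕ) := [[],
  [0],
  [2],
  [4],
  [8],
  [8, 8],
  [0, 2],
  [0, 4],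
  [0, 8],
  [0, 8, 8],
  [2, 4],
  [2, 8],
  [2, 8, 8],
  [4, 8],
  [4, 8, 8],
  [0, 2, 4],
  [0, 2, 8],
  [0, 2, 8, 8],
  [0, 4, 8],
  [0, 4, 8, 8],
  [2, 4, 8],
  [2, 4, 8, 8],
  [0, 2, 4, 8],
  [0, 2, 4, 8, 8],
  [3, 2, 3, 2, 4, 3, 2, 3],
  [0, 3, 2, 3, 2, 4, 3, 2, 3],
  [2, 3, 2, 3, 2, 4, 3, 2, 3],
  [0, 2, 3, 2, 3, 2, 4, 3, 2, 3],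
  [3, 2, 3, 2, 4, 3, 2, 3, 4],
  [8, 3, 2, 3, 2, 4, 3, 2, 3],
  [8, 8, 3, 2, 3, 2, 4, 3, 2, 3],
  [4, 3, 2, 3, 2, 4, 3, 2, 3],
  [0, 8, 3, 2, 3, 2, 4, 3, 2, 3],
  [0, 8, 8, 3, 2, 3, 2, 4, 3, 2, 3],
  [2, 3, 2, 3, 2, 4, 3, 2, 3, 4],
  [2, 8, 3, 2, 3, 2, 4, 3, 2, 3],
  [2, 8, 8, 3, 2, 3, 2, 4, 3, 2, 3],
  [2, 4, 3, 2, 3, 2, 4, 3, 2, 3],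
  [0, 2, 8, 3, 2, 3, 2, 4, 3, 2, 3],
  [0, 2, 8, 8, 3, 2, 3, 2, 4, 3, 2, 3],
  [8, 3, 2, 3, 2, 4, 3, 2, 3, 4],
  [8, 8, 3, 2, 3, 2, 4, 3, 2, 3, 4],
  [4, 8, 3, 2, 3, 2, 4, 3, 2, 3],
  [4, 8, 8, 3, 2, 3, 2, 4, 3, 2, 3],
  [2, 8, 3, 2, 3, 2, 4, 3, 2, 3, 4],
  [2, 8, 8, 3, 2, 3, 2, 4, 3, 2, 3, 4],
  [2, 4, 8, 3, 2, 3, 2, 4, 3, 2, 3],
  [2, 4, 8, 8, 3, 2, 3, 2, 4, 3, 2, 3],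
  [0, 3, 2, 3, 5, 4, 3, 2, 3, 6, 6, 4, 3, 2, 3, 6, 4, 3, 2, 3, 5, 4, 5],
  [4, 0, 3, 2, 3, 5, 4, 3, 2, 3, 6, 6, 4, 3, 2, 3, 6, 4, 3, 2, 3, 5, 4, 5, 3, 2, 3, 2, 4, 3, 2, 3],
  [0, 3, 2, 3, 2, 4, 3, 2, 3, 0, 3, 2, 3, 5, 4, 3, 2, 3, 6, 6, 4, 3, 2, 3, 6, 4, 3, 2, 3, 5, 4, 5],
  [0, 8, 8, 3, 2, 3, 2, 4, 3, 2, 3, 0, 3, 2, 3, 5, 4, 3, 2, 3, 6, 6, 4, 3, 2, 3, 6, 4, 3, 2, 3, 5, 4, 5],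
  [8, 3, 2, 3, 2, 4, 3, 2, 3, 0, 3, 2, 3, 5, 4, 3, 2, 3, 6, 6, 4, 3, 2, 3, 6, 4, 3, 2, 3, 5, 4, 5],
  [3, 2, 3, 2, 4, 3, 2, 3, 0, 3, 2, 3, 5, 4, 3, 2, 3, 6, 6, 4, 3, 2, 3, 6, 4, 3, 2, 3, 5, 4, 5],
  [8, 8, 3, 2, 3, 2, 4, 3, 2, 3, 0, 3, 2, 3, 5, 4, 3, 2, 3, 6, 6, 4, 3, 2, 3, 6, 4, 3, 2, 3, 5, 4, 5, 4],
  [0, 0, 3, 2, 3, 5, 4, 3, 2, 3, 6, 6, 4, 3, 2, 3, 6, 4, 3, 2, 3, 5, 4, 5, 4],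
  [0, 8, 8, 0, 3, 2, 3, 5, 4, 3, 2, 3, 6, 6, 4, 3, 2, 3, 6, 4, 3, 2, 3, 5, 4, 5, 4],
  [8, 0, 3, 2, 3, 5, 4, 3, 2, 3, 6, 6, 4, 3, 2, 3, 6, 4, 3, 2, 3, 5, 4, 5, 4],
  [0, 3, 2, 3, 5, 4, 3, 2, 3, 6, 6, 4, 3, 2, 3, 6, 4, 3, 2, 3, 5, 4, 5, 4],
  [8, 8, 0, 3, 2, 3, 5, 4, 3, 2, 3, 6, 6, 4, 3, 2, 3, 6, 4, 3, 2, 3, 5, 4, 5, 4],
  [0, 8, 0, 3, 2, 3, 5, 4, 3, 2, 3, 6, 6, 4, 3, 2, 3, 6, 4, 3, 2, 3, 5, 4, 5, 4],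
  [3, 2, 3, 2, 4, 3, 2, 3, 4, 0, 3, 2, 3, 5, 4, 3, 2, 3, 6, 6, 4, 3, 2, 3, 6, 4, 3, 2, 3, 5, 4, 5],
  [4, 8, 3, 2, 3, 2, 4, 3, 2, 3, 0, 3, 2, 3, 5, 4, 3, 2, 3, 6, 6, 4, 3, 2, 3, 6, 4, 3, 2, 3, 5, 4, 5],
  [2, 0, 3, 2, 3, 5, 4, 3, 2, 3, 6, 6, 4, 3, 2, 3, 6, 4, 3, 2, 3, 5, 4, 5],
  [8, 8, 3, 2, 3, 2, 4, 3, 2, 3, 0, 3, 2, 3, 5, 4, 3, 2, 3, 6, 6, 4, 3, 2, 3, 6, 4, 3, 2, 3, 5, 4, 5],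
  [0, 8, 3, 2, 3, 2, 4, 3, 2, 3, 0, 3, 2, 3, 5, 4, 3, 2, 3, 6, 6, 4, 3, 2, 3, 6, 4, 3, 2, 3, 5, 4, 5],
  [0, 0, 3, 2, 3, 5, 4, 3, 2, 3, 6, 6, 4, 3, 2, 3, 6, 4, 3, 2, 3, 5, 4, 5],
  [3, 2, 3, 2, 4, 3, 2, 3, 0, 3, 2, 3, 5, 4, 3, 2, 3, 6, 6, 4, 3, 2, 3, 6, 4, 3, 2, 3, 5, 4, 5, 4],
  [4, 8, 8, 0, 3, 2, 3, 5, 4, 3, 2, 3, 6, 6, 4, 3, 2, 3, 6, 4, 3, 2, 3, 5, 4, 5, 3, 2, 3, 2, 4, 3, 2, 3],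
  [4, 3, 2, 3, 2, 4, 3, 2, 3, 0, 3, 2, 3, 5, 4, 3, 2, 3, 6, 6, 4, 3, 2, 3, 6, 4, 3, 2, 3, 5, 4, 5],
  [8, 3, 2, 3, 2, 4, 3, 2, 3, 4, 0, 3, 2, 3, 5, 4, 3, 2, 3, 6, 6, 4, 3, 2, 3, 6, 4, 3, 2, 3, 5, 4, 5],
  [0, 2, 0, 3, 2, 3, 5, 4, 3, 2, 3, 6, 6, 4, 3, 2, 3, 6, 4, 3, 2, 3, 5, 4, 5],
  [0, 0, 3, 2, 3, 5, 4, 3, 2, 3, 6, 6, 4, 3, 2, 3, 6, 4, 3, 2, 3, 5, 4, 5, 3, 2, 3, 2, 4, 3, 2, 3],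
  [0, 8, 8, 0, 3, 2, 3, 5, 4, 3, 2, 3, 6, 6, 4, 3, 2, 3, 6, 4, 3, 2, 3, 5, 4, 5, 3, 2, 3, 2, 4, 3, 2, 3],
  [8, 0, 3, 2, 3, 5, 4, 3, 2, 3, 6, 6, 4, 3, 2, 3, 6, 4, 3, 2, 3, 5, 4, 5, 3, 2, 3, 2, 4, 3, 2, 3],
  [0, 3, 2, 3, 5, 4, 3, 2, 3, 6, 6, 4, 3, 2, 3, 6, 4, 3, 2, 3, 5, 4, 5, 3, 2, 3, 2, 4, 3, 2, 3],
  [8, 8, 3, 2, 3, 2, 4, 3, 2, 3, 4, 0, 3, 2, 3, 5, 4, 3, 2, 3, 6, 6, 4, 3, 2, 3, 6, 4, 3, 2, 3, 5, 4, 5],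
  [0, 4, 0, 3, 2, 3, 5, 4, 3, 2, 3, 6, 6, 4, 3, 2, 3, 6, 4, 3, 2, 3, 5, 4, 5],
  [0, 4, 8, 8, 0, 3, 2, 3, 5, 4, 3, 2, 3, 6, 6, 4, 3, 2, 3, 6, 4, 3, 2, 3, 5, 4, 5],
  [4, 8, 0, 3, 2, 3, 5, 4, 3, 2, 3, 6, 6, 4, 3, 2, 3, 6, 4, 3, 2, 3, 5, 4, 5],
  [4, 0, 3, 2, 3, 5, 4, 3, 2, 3, 6, 6, 4, 3, 2, 3, 6, 4, 3, 2, 3, 5, 4, 5],
  [4, 8, 8, 0, 3, 2, 3, 5, 4, 3, 2, 3, 6, 6, 4, 3, 2, 3, 6, 4, 3, 2, 3, 5, 4, 5],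
  [0, 4, 8, 0, 3, 2, 3, 5, 4, 3, 2, 3, 6, 6, 4, 3, 2, 3, 6, 4, 3, 2, 3, 5, 4, 5],
  [4, 8, 0, 3, 2, 3, 5, 4, 3, 2, 3, 6, 6, 4, 3, 2, 3, 6, 4, 3, 2, 3, 5, 4, 5, 3, 2, 3, 2, 4, 3, 2, 3],
  [8, 8, 0, 3, 2, 3, 5, 4, 3, 2, 3, 6, 6, 4, 3, 2, 3, 6, 4, 3, 2, 3, 5, 4, 5, 3, 2, 3, 2, 4, 3, 2, 3],
  [0, 8, 0, 3, 2, 3, 5, 4, 3, 2, 3, 6, 6, 4, 3, 2, 3, 6, 4, 3, 2, 3, 5, 4, 5, 3, 2, 3, 2, 4, 3, 2, 3],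
  [0, 8, 8, 0, 3, 2, 3, 5, 4, 3, 2, 3, 6, 6, 4, 3, 2, 3, 6, 4, 3, 2, 3, 5, 4, 5],
  [8, 0, 3, 2, 3, 5, 4, 3, 2, 3, 6, 6, 4, 3, 2, 3, 6, 4, 3, 2, 3, 5, 4, 5],
  [8, 8, 0, 3, 2, 3, 5, 4, 3, 2, 3, 6, 6, 4, 3, 2, 3, 6, 4, 3, 2, 3, 5, 4, 5],
  [0, 8, 0, 3, 2, 3, 5, 4, 3, 2, 3, 6, 6, 4, 3, 2, 3, 6, 4, 3, 2, 3, 5, 4, 5],
  [8, 3, 2, 3, 2, 4, 3, 2, 3, 0, 3, 2, 3, 5, 4, 3, 2, 3, 6, 6, 4, 3, 2, 3, 6, 4, 3, 2, 3, 5, 4, 5, 4],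
  [2, 8, 8, 0, 3, 2, 3, 5, 4, 3, 2, 3, 6, 6, 4, 3, 2, 3, 6, 4, 3, 2, 3, 5, 4, 5],
  [0, 2, 8, 8, 0, 3, 2, 3, 5, 4, 3, 2, 3, 6, 6, 4, 3, 2, 3, 6, 4, 3, 2, 3, 5, 4, 5],
  [2, 8, 0, 3, 2, 3, 5, 4, 3, 2, 3, 6, 6, 4, 3, 2, 3, 6, 4, 3, 2, 3, 5, 4, 5],
  [0, 2, 8, 0, 3, 2, 3, 5, 4, 3, 2, 3, 6, 6, 4, 3, 2, 3, 6, 4, 3, 2, 3, 5, 4, 5],
  [4, 8, 8, 3, 2, 3, 2, 4, 3, 2, 3, 0, 3, 2, 3, 5, 4, 3, 2, 3, 6, 6, 4, 3, 2, 3, 6, 4, 3, 2, 3, 5, 4, 5]]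

/-- a part of the image of the fourth-order element -/
def pq : List ℕ := [3, 4, 3, 2, 3, 2, 4, 3]

/-- a part of an element fixed by the product -/
def ph : List ℕ := [0, 3, 2, 3, 5, 4, 3, 2, 3, 6, 6, 4, 3, 2, 3, 6, 4, 3, 2, 3, 5, 4, 5]

/-- the elements of the elementary group of order eight -/
def wList : List (List ℕ) := [[],
  [0],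
  [2],
  [0, 2],
  [3, 2, 3, 6, 4, 3, 2, 3, 6, 4, 3, 2, 3, 5, 4, 3, 2, 3, 6, 4, 5, 5],
  [3, 2, 3, 6, 6, 4, 3, 2, 3, 5, 4, 3, 2, 3, 6, 4, 3, 2, 3, 5, 4, 5],
  [2, 3, 2, 3, 6, 4, 3, 2, 3, 6, 4, 3, 2, 3, 5, 4, 3, 2, 3, 6, 4, 5, 5],
  [2, 3, 2, 3, 6, 6, 4, 3, 2, 3, 5, 4, 3, 2, 3, 6, 4, 3, 2, 3, 5, 4, 5]]

end CfsgLib.ThUnique
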