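import Cfsg.Agent.Lib.ThUnique.CheckDefs
import Cfsg.Agent.Lib.ThUnique.CandData

/-!
Kernel checks for the candidates of the exchanging automorphism.
-/

set_option autoImplicit false
set_option Elab.async false

namespace CfsgLib.ThUnique

open CfsgLib.CosetEnum CfsgLib.ThPres CfsgLib.ThRep

/-- the product of generators -/
noncomputable def genProd (gs : List (List ℕ)) (w : List ℕ) : List ℕ := w.flatMap fun i => gs.getD i []

/-- conjugation by u on the listed elements -/
noncomputable def imgOK6 : Bool :=
  Nat.beq ctGen.length 6 && Nat.beq ctGenU.length 6 && Nat.beq ctImg.length ctWords.length &&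
    Nat.beq ctGenWord.length ctWords.length &&
    ((List.range 6).all fun i => eqM ([10] ++ ctGen.getD i [] ++ [9]) (ctGenU.getD i [])) &&
    (List.range ctWords.length).all fun n => (ctGenWord.getD n []).all (fun i => Nat.blt i 6) &&
      eqP (genProd ctGen (ctGenWord.getD n [])) (ctWords.getD n []) &&
      (genProd ctGenU (ctGenWord.getD n []) == ctImg.getD n [])

/-- conjugation by u on one generator -/
noncomputable def imgGenAt (i : ℕ) : Bool := eqM ([10] ++ ctGen.getD i [] ++ [9]) (ctGenU.getD i [])

theorem img_gen0 : imgGenAt 0 = true := by decide +kernel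
theorem img_gen1 : imgGenAt 1 = true := by decide +kernel
theorem img_gen2 : imgGenAt 2 = true := by decide +kernel
theorem img_gen3 : imgGenAt 3 = true := by decide +kernel
theorem img_gen4 : imgGenAt 4 = true := by decide +kernel
theorem img_gen5 : imgGenAt 5 = true := by decide +kernel

theorem img_gen :
    ((List.range 6).all fun i => eqM ([10] ++ ctGen.getD i [] ++ [9]) (ctGenU.getD i [])) = true := by
  show (List.range 6).all imgGenAt = true
  simp [List.range_succ, img_gen0, img_gen1, img_gen2, img_gen3, img_gen4, img_gen5]

theorem img_ok : imgOK6 = true := by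
  unfold imgOK6
  rw [img_gen]
  decide +kernel

/-- equal keys -/
noncomputable def sameK (l m : List ℕ) : Bool := Nat.beq (keyRun l) (keyRun m)

/-- relation of the candidate for e -/
noncomputable def eRel (w : List ℕ) (s S : ℕ) : Bool :=
  sameK (iw11 w ++ [S] ++ w ++ [s]) ([S, S, S] ++ w ++ [s, s, s])

/-- the minus candidate -/
def eMinus : List ℕ := [2, 3, 2, 3, 6, 6, 4, 3, 2, 3, 5, 4, 3, 2, 3, 6, 4, 3, 2, 3, 5, 4, 5]

/-- candidates for e have no partner unless equal to e -/
noncomputable def eCandOK : Bool :=
  ctWords.all fun y => sameK y [] || !sameK (y ++ y) [] ||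
    ((!eRel y 6 5 || sameK y eMinus && (List.range ctWords.length).all fun n =>
        !sameK ([0, 2] ++ ctImg.getD n [] ++ ctWords.getD n []) [0, 2] ||
          !sameK (ctWords.getD n [] ++ y) ((ctImg.getD (ctWords.findIdx fun v => sameK v y) []) ++ ctWords.getD n [])) &&
      (!eRel y 5 6 || sameK y [4] || (List.range ctWords.length).all fun n =>
        !sameK ([0, 2] ++ ctImg.getD n [] ++ ctWords.getD n []) [0, 2] ||
          !sameK (ctWords.getD n [] ++ y) ((ctImg.getD (ctWords.findIdx fun v => sameK v y) []) ++ ctWords.getD n [])))

theorem e_cand : eCandOK = true := by decide +kernel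

/-- the image of the fourth-order element is determined -/
noncomputable def qCandAt (n : ℕ) : Bool :=
    !sameK ([0, 2] ++ ctImg.getD n [] ++ ctWords.getD n []) [0] ||
      !sameK ([0, 2] ++ ctImg.getD n [] ++ [4] ++ ctWords.getD n []) [4] ||
      sameK (ctWords.getD n []) pq ||
      neM ([9] ++ ctWords.getD n [] ++ [5, 9] ++ ctWords.getD n [] ++ [5, 9] ++ ctWords.getD n [] ++ [5]) [0]

/-- two positions -/
noncomputable def qCandOK (b : ℕ) : Bool :=
  (List.range 2).all fun i => qCandAt (2 * b + i)


theorem qCand_two {b : ℕ} (h0 : qCandAt (2 * b) = true) (h1 : qCandAt (2 * b + 1) = true) :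
    qCandOK b = true := by
  simp [qCandOK, List.range_succ, h0, h1]

theorem q_cand0 : qCandOK 0 = true := by decide +kernel
theorem q_cand1 : qCandOK 1 = true := by decide +kernel
theorem q_cand2 : qCandOK 2 = true := by decide +kernel
theorem q_cand3 : qCandOK 3 = true := by decide +kernel
theorem q_cand4 : qCandOK 4 = true := by decide +kernel
theorem q_cand5 : qCandOK 5 = true := by decide +kernel
theorem q_cand6 : qCandOK 6 = true := by decide +kernel
theorem q_cand7 : qCandOK 7 = true := by decide +kernel
theorem q_cand8 : qCandOK 8 = true := by decide +kernel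
theorem q_cand9 : qCandOK 9 = true := by decide +kernel
theorem q_cand10 : qCandOK 10 = true := by decide +kernel
theorem q_cand11 : qCandOK 11 = true := by decide +kernel
theorem q_cand12 : qCandOK 12 = true := by decide +kernel
theorem q_cand13 : qCandOK 13 = true := by decide +kernel
theorem q_cand14 : qCandOK 14 = true := by decide +kernel
theorem q_cand15 : qCandOK 15 = true := by decide +kernel
theorem q_cand16 : qCandOK 16 = true := by decide +kernel
theorem q_cand17 : qCandOK 17 = true := by decide +kernel
theorem q_cand18 : qCandOK 18 = true := by decide +kernel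
theorem q_cand19 : qCandOK 19 = true := by decide +kernel
theorem q_cand20a : qCandAt (2 * 20) = true := by decide +kernel
theorem q_cand20b : qCandAt (2 * 20 + 1) = true := by decide +kernel
theorem q_cand20 : qCandOK 20 = true := qCand_two q_cand20a q_cand20b
theorem q_cand21a : qCandAt (2 * 21) = true := by decide +kernel
theorem q_cand21b : qCandAt (2 * 21 + 1) = true := by decide +kernel
theorem q_cand21 : qCandOK 21 = true := qCand_two q_cand21a q_cand21b
theorem q_cand22a : qCandAt (2 * 22) = true := by decide +kernel
theorem q_cand22b : qCandAt (2 * 22 + 1) = true := by decide +kernel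
theorem q_cand22 : qCandOK 22 = true := qCand_two q_cand22a q_cand22b
theorem q_cand23a : qCandAt (2 * 23) = true := by decide +kernel
theorem q_cand23b : qCandAt (2 * 23 + 1) = true := by decide +kernel
theorem q_cand23 : qCandOK 23 = true := qCand_two q_cand23a q_cand23b
theorem q_cand24 : qCandOK 24 = true := by decide +kernel
theorem q_cand25 : qCandOK 25 = true := by decide +kernel
theorem q_cand26 : qCandOK 26 = true := by decide +kernel
theorem q_cand27 : qCandOK 27 = true := by decide +kernel
theorem q_cand28 : qCandOK 28 = true := by decide +kernel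
theorem q_cand29 : qCandOK 29 = true := by decide +kernel
theorem q_cand30 : qCandOK 30 = true := by decide +kernel
theorem q_cand31 : qCandOK 31 = true := by decide +kernel
theorem q_cand32 : qCandOK 32 = true := by decide +kernel
theorem q_cand33 : qCandOK 33 = true := by decide +kernel
theorem q_cand34 : qCandOK 34 = true := by decide +kernel
theorem q_cand35 : qCandOK 35 = true := by decide +kernel
theorem q_cand36 : qCandOK 36 = true := by decide +kernel
theorem q_cand37 : qCandOK 37 = true := by decide +kernel
theorem q_cand38 : qCandOK 38 = true := by decide +kernel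
theorem q_cand39 : qCandOK 39 = true := by decide +kernel
theorem q_cand40 : qCandOK 40 = true := by decide +kernel
theorem q_cand41 : qCandOK 41 = true := by decide +kernel
theorem q_cand42 : qCandOK 42 = true := by decide +kernel
theorem q_cand43 : qCandOK 43 = true := by decide +kernel
theorem q_cand44 : qCandOK 44 = true := by decide +kernel
theorem q_cand45 : qCandOK 45 = true := by decide +kernel
theorem q_cand46 : qCandOK 46 = true := by decide +kernel
theorem q_cand47 : qCandOK 47 = true := by decide +kernel

theorem q_cand : ∀ b < 48, qCandOK b = true := by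
  intro b hb
  interval_cases b
  exacts [q_cand0,
    q_cand1,
    q_cand2,
    q_cand3,
    q_cand4,
    q_cand5,
    q_cand6,
    q_cand7,
    q_cand8,
    q_cand9,
    q_cand10,
    q_cand11,
    q_cand12,
    q_cand13,
    q_cand14,
    q_cand15,
    q_cand16,
    q_cand17,
    q_cand18,
    q_cand19,
    q_cand20,
    q_cand21,
    q_cand22,
    q_cand23,
    q_cand24,
    q_cand25,
    q_cand26,
    q_cand27,
    q_cand28,
    q_cand29,
    q_cand30,
    q_cand31,
    q_cand32,
    q_cand33,
    q_cand34,
    q_cand35,
    q_cand36,
    q_cand37,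
    q_cand38,
    q_cand39,
    q_cand40,
    q_cand41,
    q_cand42,
    q_cand43,
    q_cand44,
    q_cand45,
    q_cand46,
    q_cand47]

/-- the image of u is determined -/
noncomputable def uCandAt (n : ℕ) : Bool :=
    !sameK ([0, 2] ++ ctImg.getD n [] ++ ctWords.getD n []) [0, 2] ||
      !sameK (ctWords.getD n [] ++ [4]) ([4] ++ ctWords.getD n []) ||
      !sameK ([0, 2, 2] ++ ctImg.getD n [] ++ pq)
        ([0, 2] ++ ctImg.getD 31 [] ++ ctWords.getD n []) ||
      sameK (ctWords.getD n []) [4] ||
      neM ([9] ++ ctWords.getD n [] ++ [5, 9] ++ ctWords.getD n [] ++ [5, 9] ++ ctWords.getD n [] ++ [5]) [0, 2]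

/-- two positions -/
noncomputable def uCandOK (b : ℕ) : Bool :=
  (List.range 2).all fun i => uCandAt (2 * b + i)


theorem u_cand0 : uCandOK 0 = true := by decide +kernel
theorem u_cand1 : uCandOK 1 = true := by decide +kernel
theorem u_cand2 : uCandOK 2 = true := by decide +kernel
theorem u_cand3 : uCandOK 3 = true := by decide +kernel
theorem u_cand4 : uCandOK 4 = true := by decide +kernel
theorem u_cand5 : uCandOK 5 = true := by decide +kernel
theorem u_cand6 : uCandOK 6 = true := by decide +kernel
theorem u_cand7 : uCandOK 7 = true := by decide +kernel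
theorem u_cand8 : uCandOK 8 = true := by decide +kernel
theorem u_cand9 : uCandOK 9 = true := by decide +kernel
theorem u_cand10 : uCandOK 10 = true := by decide +kernel
theorem u_cand11 : uCandOK 11 = true := by decide +kernel
theorem u_cand12 : uCandOK 12 = true := by decide +kernel
theorem u_cand13 : uCandOK 13 = true := by decide +kernel
theorem u_cand14 : uCandOK 14 = true := by decide +kernel
theorem u_cand15 : uCandOK 15 = true := by decide +kernel
theorem u_cand16 : uCandOK 16 = true := by decide +kernel
theorem u_cand17 : uCandOK 17 = true := by decide +kernel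
theorem u_cand18 : uCandOK 18 = true := by decide +kernel
theorem u_cand19 : uCandOK 19 = true := by decide +kernel
theorem u_cand20 : uCandOK 20 = true := by decide +kernel
theorem u_cand21 : uCandOK 21 = true := by decide +kernel
theorem u_cand22 : uCandOK 22 = true := by decide +kernel
theorem u_cand23 : uCandOK 23 = true := by decide +kernel
theorem u_cand24 : uCandOK 24 = true := by decide +kernel
theorem u_cand25 : uCandOK 25 = true := by decide +kernel
theorem u_cand26 : uCandOK 26 = true := by decide +kernel
theorem u_cand27 : uCandOK 27 = true := by decide +kernel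
theorem u_cand28 : uCandOK 28 = true := by decide +kernel
theorem u_cand29 : uCandOK 29 = true := by decide +kernel
theorem u_cand30 : uCandOK 30 = true := by decide +kernel
theorem u_cand31 : uCandOK 31 = true := by decide +kernel
theorem u_cand32 : uCandOK 32 = true := by decide +kernel
theorem u_cand33 : uCandOK 33 = true := by decide +kernel
theorem u_cand34 : uCandOK 34 = true := by decide +kernel
theorem u_cand35 : uCandOK 35 = true := by decide +kernel
theorem u_cand36 : uCandOK 36 = true := by decide +kernel
theorem u_cand37 : uCandOK 37 = true := by decide +kernel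
theorem u_cand38 : uCandOK 38 = true := by decide +kernel
theorem u_cand39 : uCandOK 39 = true := by decide +kernel
theorem u_cand40 : uCandOK 40 = true := by decide +kernel
theorem u_cand41 : uCandOK 41 = true := by decide +kernel
theorem u_cand42 : uCandOK 42 = true := by decide +kernel
theorem u_cand43 : uCandOK 43 = true := by decide +kernel
theorem u_cand44 : uCandOK 44 = true := by decide +kernel
theorem u_cand45 : uCandOK 45 = true := by decide +kernel
theorem u_cand46 : uCandOK 46 = true := by decide +kernel
theorem u_cand47 : uCandOK 47 = true := by decide +kernel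

theorem u_cand : ∀ b < 48, uCandOK b = true := by
  intro b hb
  interval_cases b
  exacts [u_cand0,
    u_cand1,
    u_cand2,
    u_cand3,
    u_cand4,
    u_cand5,
    u_cand6,
    u_cand7,
    u_cand8,
    u_cand9,
    u_cand10,
    u_cand11,
    u_cand12,
    u_cand13,
    u_cand14,
    u_cand15,
    u_cand16,
    u_cand17,
    u_cand18,
    u_cand19,
    u_cand20,
    u_cand21,
    u_cand22,
    u_cand23,
    u_cand24,
    u_cand25,
    u_cand26,
    u_cand27,
    u_cand28,
    u_cand29,
    u_cand30,
    u_cand31,
    u_cand32,
    u_cand33,
    u_cand34,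
    u_cand35,
    u_cand36,
    u_cand37,
    u_cand38,
    u_cand39,
    u_cand40,
    u_cand41,
    u_cand42,
    u_cand43,
    u_cand44,
    u_cand45,
    u_cand46,
    u_cand47]

/-- only one element is inverted by d -/
noncomputable def dInvOK : Bool :=
  ctWords.all fun w => sameK w [] || !sameK (w ++ w ++ w) [] || !sameK ([3] ++ w ++ [3] ++ w) []

theorem d_inv : dInvOK = true := by decide +kernel

/-- the elements commuting with a fixed element lie in the group of order eight -/
noncomputable def wOK : Bool :=
  ((List.range ctWords.length).all fun n =>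
    !sameK (ctImg.getD n [] ++ ph) (ph ++ ctWords.getD n []) ||
      wList.any fun v => sameK (ctWords.getD n []) v)

theorem w_ok : wOK = true := by decide +kernel

theorem part_words : eqM [4, 9, 3, 2, 3, 4, 3, 2, 3] ([9] ++ pq) &&
    eqM [4, 3, 2, 3, 9, 3, 2, 3] ([9] ++ ph) && eqM [10, 4, 9] [4] &&
    (ctWords.any fun w => sameK w [4]) && (ctWords.any fun w => sameK w pq) &&
    (wordsOK [pq, ph, eMinus]) = true := by decide +kernel

end CfsgLib.ThUnique
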