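import Cfsg.Agent.Lib.ThUnique.Classes
import Cfsg.Agent.Lib.ThUnique.CandChecks

/-!
The candidates for the images of e, u and the fourth-order element.
-/

set_option autoImplicit false
set_option linter.style.haveILetI false
set_option maxRecDepth 8000

namespace CfsgLib.ThUnique

open Cfsg.Spor CfsgLib.CosetEnum CfsgLib.ThPres CfsgLib.ThRep

attribute [local irreducible] ctWords ctImg ctGen ctGenU ctGenWord pq ph wList keyRun wordMat certL

/-- a listed element -/
noncomputable def ctE (n : ℕ) : Th := prodW tg (ctWords.getD n [])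

theorem ctE_def (n : ℕ) : prodW tg (ctWords.getD n []) = ctE n := rfl

theorem ct_word {n : ℕ} (hn : n < ctWords.length) :
    (∀ g ∈ ctWords.getD n [], g < 9) ∧ inC (ctWords.getD n []) = true := by
  have h := words_ok
  simp only [Bool.and_eq_true, wordsOK, List.all_eq_true, Nat.blt_eq] at h
  rw [List.getD_eq_getElem _ _ hn]
  exact ⟨(h.1 _ (List.getElem_mem _)).1.1, (h.1 _ (List.getElem_mem _)).1.2⟩

theorem ct_len : ctWords.length = 96 := by decide +kernel

theorem ct_index {g : Th} (hg : g ∈ centA) (hc : g * tg 2 = tg 2 * g) (ht : g * tg 7 = tg 7 * g) :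
    ∃ n < ctWords.length, g = ctE n := by
  obtain ⟨w, hw, e⟩ := mem_ct hg hc ht
  obtain ⟨n, hn, rfl⟩ := List.getElem_of_mem hw
  exact ⟨n, hn, by rw [e, ctE, List.getD_eq_getElem _ _ hn]⟩

theorem gen_prod (gen : ℕ → Th) (gs : List (List ℕ)) (w : List ℕ) :
    prodW gen (genProd gs w) = (w.map fun i => prodW gen (gs.getD i [])).prod :=
  prodW_flatMap gen _ w

theorem u_img {n : ℕ} (hn : n < ctWords.length) :
    (∀ g ∈ ctImg.getD n [], g < 9) ∧ (tg 9)⁻¹ * ctE n * tg 9 = prodW tg (ctImg.getD n []) := by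
  have h := img_ok
  simp only [imgOK6, Bool.and_eq_true, List.all_eq_true, List.mem_range, beq_iff_eq, Nat.blt_eq] at h
  obtain ⟨⟨⟨⟨⟨h6, hU6⟩, hl1⟩, hl2⟩, hg⟩, hw⟩ := h
  obtain ⟨⟨hlt, he⟩, hi⟩ := hw n hn
  refine ⟨?_, ?_⟩
  · rw [← hi]
    intro g hgm
    simp only [genProd, List.mem_flatMap] at hgm
    obtain ⟨i, hi', hgi⟩ := hgm
    have hb : (ctGenU.all fun w => w.all fun g => Nat.blt g 9) = true := gen_small
    simp only [List.all_eq_true, Nat.blt_eq] at hb
    have hiU : i < ctGenU.length := (Nat.eq_of_beq_eq_true hU6).symm ▸ hlt i hi'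
    rw [List.getD_eq_getElem _ _ hiU] at hgi
    exact hb _ (List.getElem_mem _) g hgi
  · rw [ctE, ← eqP_th he, ← hi, gen_prod, gen_prod]
    have key : ∀ l : List ℕ, (∀ i ∈ l, i < 6) →
        (tg 9)⁻¹ * (l.map fun i => prodW tg (ctGen.getD i [])).prod * tg 9 =
          (l.map fun i => prodW tg (ctGenU.getD i [])).prod := by
      intro l hl
      induction l with
      | nil => simp
      | cons i l ih =>
        rw [List.map_cons, List.prod_cons, List.map_cons, List.prod_cons,
          ← ih (fun c hc => hl c (List.mem_cons_of_mem _ hc))]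
        have e := eqM_th (hg i (hl i List.mem_cons_self))
        rw [prodW_append, prodW_append, prodW_single, prodW_single,
          show tg 10 = (tg 9)⁻¹ from eq_inv_of_mul_eq_one_right (tg_inv 9)] at e
        rw [← e]
        group
    exact key _ hlt
where
  gen_small : (ctGenU.all fun w => w.all fun g => Nat.blt g 9) = true := by decide +kernel

theorem same_false {l m : List ℕ} (hl : ∀ g ∈ l, g < 9) (hm : ∀ g ∈ m, g < 9)
    (h : sameK l m = false) : prodW tg l ≠ prodW tg m :=
  eqP_ne (by simpa using hl) (by simpa using hm) h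

theorem same_true {l m : List ℕ} (hl : ∀ g ∈ l, g < 9) (hm : ∀ g ∈ m, g < 9)
    (h : sameK l m = true) : prodW tg l = prodW tg m :=
  eqP_th (by simp only [eqP, Bool.and_eq_true, List.all_eq_true, Nat.blt_eq]; exact ⟨⟨hl, hm⟩, h⟩)

theorem lt9_append {l m : List ℕ} (hl : ∀ g ∈ l, g < 9) (hm : ∀ g ∈ m, g < 9) : ∀ g ∈ l ++ m, g < 9 :=
  fun g hg => (List.mem_append.1 hg).elim (hl g) (hm g)

theorem inv_u : tg 10 = (tg 9)⁻¹ := eq_inv_of_mul_eq_one_right (tg_inv 9)

theorem u_t : (tg 9) * tg 7 * (tg 9)⁻¹ = tg 8 ∧ tg 9 * tg 2 = tg 2 * tg 9 := by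
  have h : (eqM [9, 7, 10] [8] && eqM [9, 2] [2, 9]) = true := by decide +kernel
  simp only [Bool.and_eq_true] at h
  constructor
  · simpa [inv_u, mul_assoc] using eqM_th h.1
  · simpa using eqM_th h.2

theorem u_mem : tg 9 ∈ centA := centC_le (tg_mem_centC (by decide))

/-- an inverting element is u times a listed one -/
theorem split_u {v : Th} (hv : v ∈ centA) (hc : v * tg 2 = tg 2 * v) (ht : v * tg 7 = tg 8 * v) :
    ∃ n < ctWords.length, v = tg 9 * ctE n := by
  obtain ⟨h1, h2⟩ := u_t
  obtain ⟨n, hn, e⟩ := ct_index (g := (tg 9)⁻¹ * v) (mul_mem (inv_mem u_mem) hv)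
    (((Commute.inv_left (show Commute (tg 9) (tg 2) from h2)).mul_left hc).eq) (by
      rw [mul_assoc, ht, ← h1]; group)
  exact ⟨n, hn, by rw [← e, mul_inv_cancel_left]⟩

theorem u_sq' : tg 9 * tg 9 = tg 0 * tg 2 := by rw [u_sq]; simp

/-- a square of an element u times a listed one -/
theorem sq_split {n : ℕ} (hn : n < ctWords.length) :
    tg 9 * ctE n * (tg 9 * ctE n) = prodW tg ([0, 2] ++ ctImg.getD n [] ++ ctWords.getD n []) := by
  rw [prodW_append, prodW_append, ← (u_img hn).2, ← ctE]
  simp only [prodW_cons, prodW_nil, mul_one]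
  rw [← u_sq']
  group

theorem img_e : (tg 9)⁻¹ * tg 4 * tg 9 = tg 4 := by
  have h := part_words
  simp only [Bool.and_eq_true] at h
  have e := eqM_th h.1.1.1.2
  simpa [inv_u, mul_assoc] using e

theorem pq_lt : (∀ g ∈ pq, g < 9) ∧ (∀ g ∈ ph, g < 9) ∧ (∀ g ∈ eMinus, g < 9) := by
  have h := part_words
  simp only [Bool.and_eq_true, wordsOK, List.all_eq_true, Nat.blt_eq, decide_eq_true_eq] at h
  exact ⟨(h.2 pq (by simp)).1.1, (h.2 ph (by simp)).1.1, (h.2 eMinus (by simp)).1.1⟩

theorem two_zero {n : ℕ} (hn : n < ctWords.length) (m : List ℕ) (hm : ∀ g ∈ m, g < 9) :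
    sameK ([0, 2] ++ ctImg.getD n [] ++ ctWords.getD n []) m = true ↔
      tg 9 * ctE n * (tg 9 * ctE n) = prodW tg m := by
  have hl := lt9_append (lt9_append (by simp : ∀ g ∈ [0, 2], g < 9) (u_img hn).1) (ct_word hn).1
  rw [sq_split hn]
  refine ⟨same_true hl hm, fun e => ?_⟩
  by_contra h
  exact same_false hl hm (Bool.eq_false_iff.2 h) e

/-- the image of e: a candidate with a partner is e, and none for the inverse letter -/
theorem cand_e {y : Th} (hy : y ∈ centA) (hyc : y * tg 2 = tg 2 * y) (hyt : y * tg 7 = tg 7 * y)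
    (h2 : y * y = 1) (h1 : y ≠ 1) {s S : ℕ} (hs : (s = 5 ∧ S = 6) ∨ (s = 6 ∧ S = 5))
    (hrel : y⁻¹ * tg S * y * tg s = tg S * tg S * tg S * y * (tg s * tg s * tg s))
    {v : Th} (hv : v ∈ centA) (hvc : v * tg 2 = tg 2 * v) (hvt : v * tg 7 = tg 8 * v)
    (hv2 : v * v = tg 0 * tg 2) (hvy : v * y = y * v) : y = tg 4 ∧ s = 5 := by
  obtain ⟨i, hi, rfl⟩ := ct_index hy hyc hyt
  obtain ⟨n, hn, rfl⟩ := split_u hv hvc hvt
  obtain ⟨hw, hC⟩ := ct_word hi
  obtain ⟨hwn, -⟩ := ct_word hn
  have hiw : ∀ g ∈ iw11 (ctWords.getD i []), g < 9 := by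
    intro g hg
    simp only [iw11, List.mem_reverse, List.mem_map] at hg
    obtain ⟨c, hc', rfl⟩ := hg
    have := hw c hc'
    interval_cases c <;> decide
  have hsl : s < 9 ∧ S < 9 := by omega
  have hE : eRel (ctWords.getD i []) s S = true := by
    by_contra h
    refine same_false (lt9_append (lt9_append (lt9_append hiw (by simp; omega)) hw) (by simp; omega))
      (lt9_append (lt9_append (by simp; omega) hw) (by simp; omega)) (Bool.eq_false_iff.2 h) ?_
    simp only [prodW_append, prodW_iw11, prodW_cons, prodW_nil, mul_one, ctE_def]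
    simp only [mul_assoc] at hrel ⊢
    exact hrel
  have hsq : sameK ([0, 2] ++ ctImg.getD n [] ++ ctWords.getD n []) [0, 2] = true :=
    (two_zero hn _ (by simp)).2 (by rw [hv2]; simp)
  -- the index of y in the list is found by its key
  have hfind : ctWords.findIdx (fun v => sameK v (ctWords.getD i [])) < ctWords.length :=
    List.findIdx_lt_length.2 ⟨ctWords.getD i [], by rw [List.getD_eq_getElem _ _ hi]; exact List.getElem_mem _,
      Nat.beq_refl _⟩
  set j := ctWords.findIdx (fun v => sameK v (ctWords.getD i [])) with hj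
  have hji : ctE j = ctE i := by
    refine same_true (ct_word hfind).1 hw ?_
    rw [List.getD_eq_getElem _ _ hfind]
    exact List.findIdx_getElem (w := hfind)
  have hcomm : sameK (ctWords.getD n [] ++ ctWords.getD i []) (ctImg.getD j [] ++ ctWords.getD n []) = true := by
    by_contra h
    refine same_false (lt9_append hwn hw) (lt9_append (u_img hfind).1 hwn) (Bool.eq_false_iff.2 h) ?_
    rw [prodW_append, prodW_append, ← (u_img hfind).2, hji, ← ctE, ← ctE]
    calc ctE n * ctE i = (tg 9)⁻¹ * (tg 9 * ctE n * ctE i) := by group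
      _ = (tg 9)⁻¹ * (ctE i * (tg 9 * ctE n)) := by rw [hvy]
      _ = _ := by group
  have hnot : ∀ m, sameK (ctWords.getD i []) m = true → (∀ g ∈ m, g < 9) → ctE i = prodW tg m :=
    fun m h hm => same_true hw hm h
  have hc := e_cand
  simp only [eCandOK, List.all_eq_true, Bool.or_eq_true, Bool.and_eq_true, Bool.not_eq_true',
    List.mem_range] at hc
  have hy' := hc _ (show ctWords.getD i [] ∈ ctWords by
    rw [List.getD_eq_getElem _ _ hi]; exact List.getElem_mem _)
  rcases hy' with (h | h) | ⟨hA, hB⟩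
  · exact absurd ((hnot _ h (by simp)).trans (prodW_nil _)) h1
  · exact absurd h2 (by simpa [ctE, prodW_append] using same_false (lt9_append hw hw) (by simp) h)
  · rcases hs with ⟨rfl, rfl⟩ | ⟨rfl, rfl⟩
    · rcases hB with (h | h) | h
      · rw [hE] at h; exact Bool.noConfusion h
      · exact ⟨by simpa using hnot [4] h (by simp), rfl⟩
      · rcases h n hn with h' | h'
        · rw [hsq] at h'; exact Bool.noConfusion h'
        · rw [hcomm] at h'; exact Bool.noConfusion h'
    · rcases hA with h | ⟨-, h⟩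
      · rw [hE] at h; exact Bool.noConfusion h
      · rcases h n hn with h' | h'
        · rw [hsq] at h'; exact Bool.noConfusion h'
        · rw [hcomm] at h'; exact Bool.noConfusion h'

/-- the candidate for the inverse letter -/
theorem cand_minus {y : Th} (hy : y ∈ centA) (hyc : y * tg 2 = tg 2 * y) (hyt : y * tg 7 = tg 7 * y)
    (h2 : y * y = 1) (h1 : y ≠ 1)
    (hrel : y⁻¹ * tg 5 * y * tg 6 = tg 5 * tg 5 * tg 5 * y * (tg 6 * tg 6 * tg 6)) :
    y = prodW tg eMinus := by
  obtain ⟨i, hi, rfl⟩ := ct_index hy hyc hyt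
  obtain ⟨hw, -⟩ := ct_word hi
  have hiw : ∀ g ∈ iw11 (ctWords.getD i []), g < 9 := by
    intro g hg
    simp only [iw11, List.mem_reverse, List.mem_map] at hg
    obtain ⟨c, hc', rfl⟩ := hg
    have := hw c hc'
    interval_cases c <;> decide
  have hE : eRel (ctWords.getD i []) 6 5 = true := by
    by_contra h
    refine same_false (lt9_append (lt9_append (lt9_append hiw (by simp)) hw) (by simp))
      (lt9_append (lt9_append (by simp) hw) (by simp)) (Bool.eq_false_iff.2 h) ?_
    simp only [prodW_append, prodW_iw11, prodW_cons, prodW_nil, mul_one, ctE_def]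
    simp only [mul_assoc] at hrel ⊢
    exact hrel
  have hc := e_cand
  simp only [eCandOK, List.all_eq_true, Bool.or_eq_true, Bool.and_eq_true, Bool.not_eq_true',
    List.mem_range] at hc
  rcases hc _ (show ctWords.getD i [] ∈ ctWords by
    rw [List.getD_eq_getElem _ _ hi]; exact List.getElem_mem _) with (h | h) | ⟨hA, -⟩
  · exact absurd ((same_true hw (by simp) h).trans (prodW_nil _)) h1
  · exact absurd h2 (by simpa [ctE, prodW_append] using same_false (lt9_append hw hw) (by simp) h)
  · rcases hA with h | ⟨h, -⟩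
    · rw [hE] at h; exact Bool.noConfusion h
    · exact same_true hw pq_lt.2.2 h

theorem chunk2 {f : ℕ → Bool} {g : ℕ → Bool} (hf : ∀ b < 48, g b = true)
    (hg : ∀ b, g b = (List.range 2).all fun i => f (2 * b + i)) {n : ℕ} (hn : n < 96) : f n = true := by
  have h := hf (n / 2) (by omega)
  rw [hg] at h
  simp only [List.all_eq_true, List.mem_range] at h
  have := h (n % 2) (by omega)
  rwa [show 2 * (n / 2) + n % 2 = n by omega] at this

/-- the word of the image of the fourth-order element -/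
def q1W : List ℕ := [4, 9, 3, 2, 3, 4, 3, 2, 3]

theorem q1_eq : prodW tg q1W = tg 9 * prodW tg pq := by
  have h := part_words
  simp only [Bool.and_eq_true] at h
  have e := eqM_th h.1.1.1.1.1
  rwa [prodW_append, prodW_single] at e

theorem triple {n : ℕ} (m : List ℕ) :
    prodW tg ([9] ++ ctWords.getD n [] ++ [5, 9] ++ ctWords.getD n [] ++ [5, 9] ++ ctWords.getD n [] ++ [5]) =
        prodW tg m ↔
      (tg 9 * ctE n * tg 5) * (tg 9 * ctE n * tg 5) * (tg 9 * ctE n * tg 5) = prodW tg m := by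
  simp only [prodW_append, prodW_cons, prodW_nil, mul_one, ctE_def, mul_assoc]

/-- the image of the fourth-order element -/
theorem cand_q {z : Th} (hz : z ∈ centA) (hzc : z * tg 2 = tg 2 * z) (hzt : z * tg 7 = tg 8 * z)
    (hz2 : z * z = tg 0) (hze : z * tg 4 * z = tg 4)
    (hzs : (z * tg 5) * (z * tg 5) * (z * tg 5) = tg 0) : z = prodW tg q1W := by
  obtain ⟨n, hn, rfl⟩ := split_u hz hzc hzt
  obtain ⟨hwn, -⟩ := ct_word hn
  have h := chunk2 (f := qCandAt) q_cand (fun b => rfl) (n := n) (by rw [← ct_len]; exact hn)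
  simp only [qCandAt, Bool.or_eq_true, Bool.not_eq_true'] at h
  rcases h with ((h | h) | h) | h
  · exfalso
    rw [(two_zero hn _ (by simp)).2 (by rw [hz2]; simp)] at h
    exact Bool.noConfusion h
  · exfalso
    refine same_false (lt9_append (lt9_append (lt9_append (by simp) (u_img hn).1) (by simp)) hwn)
      (by simp) h ?_
    simp only [prodW_append, prodW_cons, prodW_nil, mul_one, ← (u_img hn).2, ctE_def]
    calc tg 0 * tg 2 * ((tg 9)⁻¹ * ctE n * tg 9) * tg 4 * ctE n
        = tg 9 * tg 9 * ((tg 9)⁻¹ * ctE n * tg 9) * ((tg 9)⁻¹ * tg 4 * tg 9) * ctE n := by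
          rw [u_sq', img_e]
      _ = tg 9 * ctE n * tg 4 * (tg 9 * ctE n) := by group
      _ = _ := hze
  · rw [q1_eq, ← same_true hwn pq_lt.1 h, ctE]
  · exfalso
    exact neM_th h ((triple [0]).2 (by simpa using hzs))

/-- the image of u -/
theorem cand_u {v : Th} (hv : v ∈ centA) (hvc : v * tg 2 = tg 2 * v) (hvt : v * tg 7 = tg 8 * v)
    (hv2 : v * v = tg 0 * tg 2) (hve : v * tg 4 = tg 4 * v)
    (hvq : tg 2 * v * prodW tg q1W = prodW tg q1W * v)
    (hvs : (v * tg 5) * (v * tg 5) * (v * tg 5) = tg 0 * tg 2) : v = tg 9 * tg 4 := by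
  obtain ⟨n, hn, rfl⟩ := split_u hv hvc hvt
  obtain ⟨hwn, -⟩ := ct_word hn
  have h := chunk2 (f := uCandAt) u_cand (fun b => rfl) (n := n) (by rw [← ct_len]; exact hn)
  simp only [uCandAt, Bool.or_eq_true, Bool.not_eq_true'] at h
  rcases h with (((h | h) | h) | h) | h
  · exfalso
    rw [(two_zero hn _ (by simp)).2 (by rw [hv2]; simp)] at h
    exact Bool.noConfusion h
  · exfalso
    refine same_false (lt9_append hwn (by simp)) (lt9_append (by simp) hwn) h ?_
    simp only [prodW_append, prodW_cons, prodW_nil, mul_one, ctE_def]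
    calc ctE n * tg 4 = (tg 9)⁻¹ * (tg 9 * ctE n * tg 4) := by group
      _ = (tg 9)⁻¹ * tg 4 * tg 9 * ctE n := by rw [hve]; group
      _ = _ := by rw [img_e]
  · exfalso
    have h31 : (31 : ℕ) < ctWords.length := by rw [ct_len]; norm_num
    refine same_false (lt9_append (lt9_append (by simp) (u_img hn).1) pq_lt.1)
      (lt9_append (lt9_append (by simp) (u_img h31).1) hwn) h ?_
    have e31 : ctE 31 = prodW tg pq := eqP_th pq_idx
    have hc9 : tg 9 * tg 2 = tg 2 * tg 9 := u_t.2
    simp only [prodW_append, prodW_cons, prodW_nil, mul_one, ← (u_img hn).2, ← (u_img h31).2, ctE_def, e31]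
    rw [q1_eq] at hvq
    have c2 : tg 2 * (tg 9)⁻¹ = (tg 9)⁻¹ * tg 2 :=
      ((Commute.inv_left (show Commute (tg 9) (tg 2) from hc9)).symm).eq
    calc tg 0 * (tg 2 * tg 2) * ((tg 9)⁻¹ * ctE n * tg 9) * prodW tg pq
        = tg 0 * tg 2 * (tg 2 * (tg 9)⁻¹) * ctE n * tg 9 * prodW tg pq := by group
      _ = tg 0 * tg 2 * (tg 9)⁻¹ * (tg 9)⁻¹ * (tg 2 * (tg 9 * ctE n) * (tg 9 * prodW tg pq)) := by
          rw [c2, show tg 2 * (tg 9 * ctE n) = tg 9 * (tg 2 * ctE n) by rw [← mul_assoc, ← hc9, mul_assoc]]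
          group
      _ = tg 0 * tg 2 * (tg 9)⁻¹ * (tg 9)⁻¹ * (tg 9 * prodW tg pq * (tg 9 * ctE n)) := by rw [hvq]
      _ = _ := by group
  · rw [same_true hwn (by simp) h |> fun e => (show ctE n = prodW tg [4] from e)]
    simp
  · exfalso
    exact neM_th h ((triple [0, 2]).2 (by simpa using hvs))
where
  pq_idx : eqP (ctWords.getD 31 []) pq = true := by decide +kernel

/-- nothing nontrivial is inverted by d -/
theorem cand_d {h : Th} (hh : h ∈ centA) (hc : h * tg 2 = tg 2 * h) (ht : h * tg 7 = tg 7 * h)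
    (h3 : h * h * h = 1) (hd : tg 3 * h * tg 3 * h = 1) : h = 1 := by
  obtain ⟨n, hn, rfl⟩ := ct_index hh hc ht
  obtain ⟨hw, -⟩ := ct_word hn
  have hd' := d_inv
  simp only [dInvOK, List.all_eq_true, Bool.or_eq_true, Bool.not_eq_true'] at hd'
  rcases hd' _ (show ctWords.getD n [] ∈ ctWords by
    rw [List.getD_eq_getElem _ _ hn]; exact List.getElem_mem _) with (h' | h') | h'
  · exact (same_true hw (by simp) h').trans (prodW_nil _)
  · exact absurd (by simpa [prodW_append, ctE, mul_assoc] using h3)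
      (same_false (lt9_append (lt9_append hw hw) hw) (by simp) h')
  · exact absurd (by simpa [prodW_append, ctE, mul_assoc] using hd)
      (same_false (lt9_append (lt9_append (lt9_append (by simp) hw) (by simp)) hw) (by simp) h')

/-- a word for the element fixed by the product -/
def hW : List ℕ := [4, 3, 2, 3, 9, 3, 2, 3]

/-- an element commuting with the fixed one lies in the group of order eight -/
theorem cand_w {z : Th} (hz : z ∈ centA) (hc : z * tg 2 = tg 2 * z) (ht : z * tg 7 = tg 7 * z)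
    (hh : z * prodW tg hW = prodW tg hW * z) : ∃ w ∈ wList, z = prodW tg w := by
  obtain ⟨n, hn, rfl⟩ := ct_index hz hc ht
  obtain ⟨hw, -⟩ := ct_word hn
  have h := part_words
  simp only [Bool.and_eq_true] at h
  have e := eqM_th h.1.1.1.1.2
  rw [prodW_append, prodW_single] at e
  change prodW tg hW = _ at e
  rw [e] at hh
  have hl := w_ok
  simp only [wOK, List.all_eq_true, List.mem_range, Bool.or_eq_true, Bool.not_eq_true', List.any_eq_true] at hl
  rcases hl n hn with h' | ⟨w, hwm, h'⟩
  · exfalso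
    refine same_false (lt9_append (u_img hn).1 pq_lt.2.1) (lt9_append pq_lt.2.1 hw) h' ?_
    rw [prodW_append, prodW_append, ← (u_img hn).2, ← ctE]
    calc (tg 9)⁻¹ * ctE n * tg 9 * prodW tg ph = (tg 9)⁻¹ * (ctE n * (tg 9 * prodW tg ph)) := by group
      _ = _ := by rw [hh]; group
  · refine ⟨w, hwm, same_true hw ?_ h'⟩
    have hs : (wList.all fun w => w.all fun g => Nat.blt g 9) = true := wList_small
    simp only [List.all_eq_true, Nat.blt_eq] at hs
    exact hs w hwm
where
  wList_small : (wList.all fun w => w.all fun g => Nat.blt g 9) = true := by decide +kernel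

end CfsgLib.ThUnique
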