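import Mathlib

/-!
Groups of order 589.
-/

set_option autoImplicit false

namespace CfsgLib.ThUnique

universe u

/-- a group of order 589 has commuting elements of orders 19 and 31 -/
theorem card_589' {K : Type*} [Group K] [Finite K] (hK : Nat.card K = 589) :
    ∃ x y : K, orderOf x = 19 ∧ orderOf y = 31 ∧ x * y = y * x := by
  haveI : Fact (Nat.Prime 31) := ⟨by norm_num⟩
  haveI : Fact (Nat.Prime 19) := ⟨by norm_num⟩
  obtain ⟨P⟩ : Nonempty (Sylow 31 K) := inferInstance
  have hP : Nat.card P = 31 := by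
    rw [Sylow.card_eq_multiplicity, hK, show (589 : ℕ) = 31 ^ 1 * 19 by norm_num,
      Nat.factorization_mul (by norm_num) (by norm_num), Finsupp.add_apply, Nat.Prime.factorization_pow (by norm_num),
      Finsupp.single_eq_same, Nat.factorization_eq_zero_of_not_dvd (by norm_num : ¬ 31 ∣ 19)]
    rfl
  have hn1 : Nat.card (Sylow 31 K) = 1 := by
    have h1 := card_sylow_modEq_one 31 K
    have h2 := P.card_dvd_index
    have h3 := (P : Subgroup K).card_mul_index
    rw [show Nat.card (P : Subgroup K) = 31 from hP, hK] at h3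
    have hi : (P : Subgroup K).index = 19 := by omega
    rw [hi] at h2
    have hle := Nat.le_of_dvd (by norm_num) h2
    have key : ∀ n ≤ 19, n ∣ 19 → n % 31 = 1 → n = 1 := by decide
    exact key _ hle h2 h1
  haveI : Subsingleton (Sylow 31 K) := (Nat.card_eq_one_iff_unique.1 hn1).1
  haveI : (P : Subgroup K).Normal := Sylow.normal_of_subsingleton P
  obtain ⟨x, hx⟩ := exists_prime_orderOf_dvd_card' (G := K) 19 (by rw [hK]; norm_num)
  obtain ⟨y, hy⟩ := exists_prime_orderOf_dvd_card' (G := (P : Subgroup K)) 31 (by rw [hP])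
  refine ⟨x, y, hx, by rw [Subgroup.orderOf_coe]; exact hy, ?_⟩
  let φ : K →* MulAut (P : Subgroup K) := MulAut.conjNormal
  haveI : IsCyclic (P : Subgroup K) := isCyclic_of_prime_card hP
  have hAut : Nat.card (MulAut (P : Subgroup K)) = 30 := by
    rw [IsCyclic.card_mulAut, show Nat.card (P : Subgroup K) = 31 from hP]
    decide +kernel
  haveI : Finite (MulAut (P : Subgroup K)) := Nat.finite_of_card_ne_zero (by rw [hAut]; norm_num)
  have h1 : orderOf (φ x) ∣ 19 := hx ▸ orderOf_map_dvd φ x
  have h2 : orderOf (φ x) ∣ 30 := hAut ▸ orderOf_dvd_natCard (φ x)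
  have he : φ x = 1 := orderOf_eq_one_iff.1 (Nat.eq_one_of_dvd_coprimes (by norm_num) h1 h2)
  have h : x * (y : K) * x⁻¹ = y := by
    rw [← MulAut.conjNormal_apply]
    exact congrArg Subtype.val (MulEquiv.ext_iff.1 he y)
  exact mul_inv_eq_iff_eq_mul.1 h

end CfsgLib.ThUnique
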