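import Cfsg.Agent.Lib.CosetEnum.Basic

/-!
Data for centralisers in the centraliser of the first letter.
-/

set_option autoImplicit false
set_option maxRecDepth 20000

namespace CfsgLib.ThUnique

/-- where the seventh-order letter moves the representatives -/
def moveS : List ℕ := [0, 3, 6, 9, 1, 13, 17, 2, 24, 12, 11, 4, 10, 27, 5, 34, 36, 22, 21, 44, 46, 7, 18, 20, 54, 8, 59, 32, 31, 64, 67, 14, 28, 71, 73, 15, 79, 16, 69, 68, 90, 92, 95, 53, 99, 19, 103, 105, 107, 50, 104, 106, 23, 86, 58, 57, 110, 25, 55, 51, 26, 48, 91, 56, 75, 29, 87, 81, 30, 80, 33, 37, 101, 77, 76, 84, 35, 74, 108, 70, 116, 66, 65, 85, 88, 38, 114, 39, 82, 112, 115, 40, 113, 41, 111, 100, 42, 72, 43, 97, 89, 45, 96, 78, 109, 60, 47, 49, 52, 61, 93, 62, 102, 63, 119,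 94, 117, 83, 98, 118]

/-- where the third-order letter moves the representatives -/
def moveT : List ℕ := [0, 1, 2, 9, 11, 5, 17, 21, 8, 10, 3, 12, 4, 27, 31, 15, 38, 18, 6, 42, 47, 22, 7, 51, 54, 57, 61, 28, 13, 53, 33, 32, 14, 69, 73, 76, 80, 83, 39, 16, 88, 19, 41, 94, 100, 102, 60, 48, 20, 108, 23, 50, 26, 62, 55, 24, 44, 58, 25, 107, 104, 52, 29, 45, 114, 98, 70, 37, 79, 30, 85, 116, 95, 74, 34, 118, 77, 35, 106, 117, 81, 36, 119, 67, 43, 66, 40, 71, 86, 93, 65, 75, 99, 101, 84, 113, 110, 96, 90, 112, 56, 89, 63, 59, 46, 49, 109, 103, 105, 78, 97, 82, 92, 72, 115, 64, 87, 68, 91, 111]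

/-- representatives of the fixed points -/
def fixH : List (List ℕ) := [[],
  [9, 3, 9],
  [9, 3, 4, 9],
  [9],
  [9, 3, 9, 9],
  [9, 3, 4, 9, 9]]

/-- fixed points and their representatives -/
def fixPair : List (ℕ × ℕ) := [(0, 0), (1, 3), (2, 4), (5, 5), (8, 1), (15, 2)]

/-- the orbit of the letter c under the point centraliser -/
def orb18 : List ℕ := [2, 4, 5, 8, 3, 9, 16, 32, 17, 33, 64, 128, 256, 511, 65, 129, 257, 510]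

/-- its closure -/
def orb18Next : List (List ℕ) := [[0, 0, 1, 0, 0, 0, 0, 0],
  [1, 2, 0, 3, 1, 1, 1, 1],
  [2, 1, 4, 5, 2, 2, 2, 2],
  [3, 5, 3, 1, 6, 7, 3, 3],
  [4, 4, 2, 4, 4, 4, 4, 4],
  [5, 3, 5, 2, 8, 9, 5, 5],
  [6, 8, 7, 10, 11, 3, 11, 12],
  [7, 9, 6, 11, 3, 13, 13, 10],
  [8, 6, 9, 14, 15, 5, 15, 16],
  [9, 7, 8, 15, 5, 17, 17, 14],
  [10, 14, 12, 6, 12, 11, 7, 13],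
  [11, 15, 13, 7, 10, 6, 12, 6],
  [12, 16, 10, 13, 13, 10, 6, 11],
  [13, 17, 11, 12, 7, 12, 10, 7],
  [14, 10, 16, 8, 16, 15, 9, 17],
  [15, 11, 17, 9, 14, 8, 16, 8],
  [16, 12, 14, 17, 17, 14, 8, 15],
  [17, 13, 15, 16, 9, 16, 14, 9]]

/-- moved copies of the letter c -/
def fixC : List ℕ := [412, 412]

/-- a complement in the stabiliser of c -/
def bWords : List (List ℕ) := [[],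
  [4],
  [5],
  [7],
  [4, 5],
  [4, 7],
  [5, 4],
  [5, 5],
  [5, 7],
  [7, 5],
  [7, 7],
  [4, 5, 4],
  [4, 5, 5],
  [4, 5, 7],
  [4, 7, 5],
  [4, 7, 7],
  [5, 4, 5],
  [5, 4, 7],
  [5, 5, 4],
  [5, 5, 5],
  [5, 5, 7],
  [5, 7, 5],
  [5, 7, 7],
  [7, 5, 4],
  [7, 5, 7],
  [7, 7, 5],
  [4, 5, 4, 5],
  [4, 5, 4, 7],
  [4, 5, 5, 4],
  [4, 5, 5, 5],
  [4, 5, 5, 7],
  [4, 5, 7, 5],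
  [4, 5, 7, 7],
  [4, 7, 5, 4],
  [4, 7, 5, 7],
  [4, 7, 7, 5],
  [5, 4, 5, 4],
  [5, 4, 5, 5],
  [5, 4, 5, 7],
  [5, 4, 7, 5],
  [5, 4, 7, 7],
  [5, 5, 4, 5],
  [5, 5, 4, 7],
  [5, 5, 5, 4],
  [5, 5, 5, 5],
  [5, 5, 5, 7],
  [5, 5, 7, 5],
  [5, 7, 5, 4],
  [5, 7, 5, 7],
  [5, 7, 7, 5],
  [7, 5, 4, 5],
  [7, 5, 4, 7],
  [7, 5, 7, 5],
  [7, 7, 5, 4],
  [4, 5, 4, 5, 4],
  [4, 5, 4, 5, 5],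
  [4, 5, 4, 5, 7],
  [4, 5, 4, 7, 7],
  [4, 5, 5, 4, 7],
  [4, 5, 5, 5, 5],
  [4, 5, 5, 5, 7],
  [4, 5, 5, 7, 5],
  [4, 5, 7, 5, 7],
  [4, 5, 7, 7, 5],
  [4, 7, 5, 4, 5],
  [4, 7, 5, 4, 7],
  [4, 7, 5, 7, 5],
  [4, 7, 7, 5, 4],
  [5, 4, 5, 4, 5],
  [5, 4, 5, 4, 7],
  [5, 4, 5, 5, 4],
  [5, 4, 5, 5, 5],
  [5, 4, 5, 5, 7],
  [5, 4, 5, 7, 5],
  [5, 4, 5, 7, 7],
  [5, 4, 7, 5, 7],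
  [5, 4, 7, 7, 5],
  [5, 5, 4, 5, 5],
  [5, 5, 4, 5, 7],
  [5, 5, 4, 7, 5],
  [5, 5, 5, 4, 5],
  [5, 5, 5, 4, 7],
  [5, 5, 5, 5, 4],
  [5, 5, 5, 5, 5],
  [5, 5, 7, 5, 4],
  [5, 7, 5, 4, 7],
  [5, 7, 7, 5, 4],
  [7, 5, 4, 5, 4],
  [7, 5, 4, 5, 5],
  [7, 5, 4, 5, 7],
  [7, 5, 4, 7, 5],
  [7, 5, 7, 5, 4],
  [7, 5, 7, 5, 7],
  [7, 7, 5, 4, 5],
  [4, 5, 4, 5, 4, 7],
  [4, 5, 4, 5, 5, 5],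
  [4, 5, 4, 5, 5, 7],
  [4, 5, 4, 5, 7, 5],
  [4, 5, 4, 5, 7, 7],
  [4, 5, 4, 7, 7, 5],
  [4, 5, 5, 4, 7, 5],
  [4, 5, 5, 5, 5, 4],
  [4, 5, 5, 5, 5, 5],
  [4, 5, 5, 7, 5, 4],
  [4, 5, 7, 7, 5, 4],
  [4, 7, 5, 4, 5, 4],
  [4, 7, 5, 4, 5, 5],
  [4, 7, 5, 4, 5, 7],
  [4, 7, 5, 7, 5, 7],
  [4, 7, 7, 5, 4, 5],
  [5, 4, 5, 4, 5, 7],
  [5, 4, 5, 4, 7, 7],
  [5, 4, 5, 5, 4, 7],
  [5, 4, 5, 5, 5, 5],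
  [5, 4, 5, 5, 5, 7],
  [5, 4, 5, 5, 7, 5],
  [5, 4, 5, 7, 5, 7],
  [5, 4, 5, 7, 7, 5],
  [5, 4, 7, 5, 7, 5],
  [5, 4, 7, 7, 5, 4],
  [5, 5, 4, 5, 5, 5],
  [5, 5, 4, 5, 5, 7],
  [5, 5, 4, 5, 7, 5],
  [5, 5, 4, 7, 5, 7],
  [5, 5, 5, 4, 5, 5],
  [5, 5, 5, 4, 5, 7],
  [5, 5, 5, 4, 7, 5],
  [5, 5, 5, 5, 4, 5],
  [5, 5, 5, 5, 5, 4],
  [5, 7, 5, 4, 7, 5],
  [5, 7, 7, 5, 4, 5],
  [7, 5, 4, 5, 4, 5],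
  [7, 5, 4, 5, 4, 7],
  [7, 5, 4, 5, 5, 4],
  [7, 5, 4, 5, 5, 7],
  [7, 5, 4, 5, 7, 7],
  [7, 5, 4, 7, 5, 7],
  [7, 5, 7, 5, 4, 7],
  [7, 7, 5, 4, 5, 4],
  [4, 5, 4, 5, 4, 7, 7],
  [4, 5, 4, 5, 5, 5, 7],
  [4, 5, 4, 5, 5, 7, 5],
  [4, 5, 4, 5, 7, 5, 7],
  [4, 5, 4, 7, 7, 5, 4],
  [4, 5, 5, 4, 7, 5, 7],
  [4, 5, 5, 5, 5, 4, 5],
  [4, 5, 7, 7, 5, 4, 5],
  [4, 7, 5, 4, 5, 4, 7],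
  [4, 7, 5, 4, 5, 5, 7],
  [4, 7, 5, 4, 5, 7, 7],
  [5, 4, 5, 4, 5, 7, 5],
  [5, 4, 5, 5, 4, 7, 5],
  [5, 4, 5, 5, 5, 5, 5],
  [5, 4, 7, 5, 7, 5, 7],
  [5, 5, 4, 5, 5, 5, 5],
  [5, 5, 4, 5, 7, 5, 7],
  [5, 5, 5, 4, 5, 5, 5],
  [5, 5, 5, 4, 7, 5, 7],
  [5, 5, 5, 5, 5, 4, 5],
  [5, 7, 5, 4, 7, 5, 7],
  [7, 5, 4, 5, 4, 7, 7],
  [7, 5, 4, 5, 5, 7, 5],
  [7, 5, 4, 7, 5, 7, 5],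
  [7, 5, 7, 5, 4, 7, 5],
  [4, 7, 5, 4, 5, 4, 7, 7],
  [4, 7, 5, 4, 5, 5, 7, 5],
  [5, 5, 4, 5, 5, 5, 5, 5],
  [5, 5, 5, 4, 5, 5, 5, 5]]

/-- its table -/
def bNext : List (List ℕ) := [[1, 2, 3],
  [0, 4, 5],
  [6, 7, 8],
  [5, 9, 10],
  [11, 12, 13],
  [3, 14, 15],
  [2, 16, 17],
  [18, 19, 20],
  [17, 21, 22],
  [23, 8, 24],
  [15, 25, 0],
  [4, 26, 27],
  [28, 29, 30],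
  [27, 31, 32],
  [33, 13, 34],
  [10, 35, 1],
  [36, 37, 38],
  [8, 39, 40],
  [7, 41, 42],
  [43, 44, 45],
  [42, 46, 25],
  [47, 20, 48],
  [40, 49, 2],
  [9, 50, 51],
  [51, 52, 44],
  [53, 24, 7],
  [54, 55, 56],
  [13, 47, 57],
  [12, 43, 58],
  [41, 59, 60],
  [58, 61, 35],
  [39, 30, 62],
  [57, 63, 4],
  [14, 64, 65],
  [65, 66, 59],
  [67, 34, 12],
  [16, 68, 69],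
  [70, 71, 72],
  [69, 73, 74],
  [31, 38, 75],
  [22, 76, 6],
  [29, 77, 78],
  [20, 79, 53],
  [19, 80, 81],
  [82, 83, 9],
  [81, 3, 49],
  [84, 45, 52],
  [21, 56, 85],
  [85, 10, 83],
  [86, 48, 19],
  [87, 88, 89],
  [24, 90, 82],
  [91, 22, 92],
  [25, 93, 18],
  [26, 70, 94],
  [68, 95, 96],
  [94, 97, 98],
  [32, 99, 11],
  [30, 100, 67],
  [101, 102, 14],
  [78, 5, 63],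
  [103, 60, 66],
  [75, 15, 102],
  [104, 62, 29],
  [105, 106, 107],
  [34, 91, 101],
  [90, 32, 108],
  [35, 109, 28],
  [55, 101, 110],
  [38, 84, 111],
  [37, 82, 112],
  [80, 113, 114],
  [112, 115, 76],
  [79, 72, 116],
  [111, 117, 16],
  [62, 118, 113],
  [119, 75, 37],
  [95, 120, 121],
  [60, 122, 104],
  [73, 78, 123],
  [71, 124, 125],
  [45, 126, 86],
  [44, 127, 23],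
  [128, 92, 21],
  [46, 110, 91],
  [48, 129, 128],
  [49, 130, 43],
  [50, 131, 132],
  [133, 94, 134],
  [132, 119, 135],
  [66, 89, 136],
  [52, 107, 137],
  [137, 0, 46],
  [138, 123, 77],
  [56, 103, 139],
  [77, 128, 140],
  [110, 141, 99],
  [100, 96, 142],
  [139, 138, 26],
  [143, 85, 55],
  [97, 81, 144],
  [59, 145, 33],
  [113, 108, 31],
  [61, 112, 90],
  [63, 146, 41],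
  [64, 133, 147],
  [131, 69, 148],
  [147, 143, 149],
  [136, 1, 61],
  [117, 144, 80],
  [96, 150, 143],
  [74, 65, 36],
  [72, 151, 119],
  [102, 152, 39],
  [125, 17, 117],
  [141, 114, 118],
  [123, 40, 152],
  [109, 116, 71],
  [129, 74, 153],
  [76, 134, 70],
  [127, 154, 133],
  [140, 105, 93],
  [126, 121, 155],
  [116, 147, 154],
  [145, 156, 131],
  [114, 87, 109],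
  [122, 125, 157],
  [120, 136, 88],
  [83, 158, 47],
  [118, 98, 159],
  [148, 157, 124],
  [106, 58, 130],
  [89, 86, 160],
  [88, 42, 146],
  [146, 161, 127],
  [160, 54, 50],
  [108, 162, 103],
  [92, 163, 84],
  [93, 142, 95],
  [98, 51, 54],
  [121, 27, 138],
  [115, 140, 129],
  [144, 57, 158],
  [99, 148, 68],
  [142, 132, 156],
  [124, 137, 106],
  [134, 155, 120],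
  [107, 104, 164],
  [130, 165, 145],
  [164, 36, 64],
  [151, 33, 165],
  [150, 23, 161],
  [154, 153, 73],
  [159, 6, 115],
  [152, 166, 79],
  [157, 53, 166],
  [158, 167, 100],
  [155, 67, 167],
  [156, 159, 97],
  [153, 11, 141],
  [135, 28, 87],
  [165, 139, 162],
  [163, 135, 151],
  [162, 149, 150],
  [149, 18, 105],
  [161, 111, 163],
  [167, 164, 122],
  [166, 160, 126]]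

/-- the elements commuting with c -/
def qcIdx : List ℕ := [0, 1, 2, 3, 12, 13, 14, 15, 20, 21, 22, 23, 24, 25, 26, 27, 36, 37, 38, 39, 40, 41, 42, 43, 48, 49, 50, 51, 60, 61, 62, 63, 68, 69, 70, 71, 72, 73, 74, 75, 80, 81, 82, 83, 92, 93, 94, 95, 96, 97, 98, 99, 108, 109, 110, 111, 116, 117, 118, 119, 120, 121, 122, 123, 132, 133, 134, 135, 136, 137, 138, 139, 144, 145, 146, 147, 156, 157, 158, 159, 160, 161, 162, 163, 172, 173, 174, 175, 180, 181, 182, 183, 184, 185, 186, 187, 192, 193, 194, 195, 204, 205, 206, 207, 212, 213, 214, 215, 216, 217, 218, 219, 228, 229, 230, 231, 232, 233, 234, 235, 240, 241, 242, 243, 252, 253, 254, 255, 260, 261, 262, 263, 264, 265, 266, 267, 272, 273, 274, 275, 284, 285, 286, 287, 288, 289, 290, 291, 300,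 301, 302, 303, 308, 309, 310, 311, 312, 313, 314, 315, 320, 321, 322, 323, 332, 333, 334, 335, 340, 341, 342, 343, 344, 345, 346, 347, 356, 357, 358, 359, 360, 361, 362, 363, 368, 369, 370, 371, 380, 381, 382, 383, 384, 385, 386, 387, 396, 397, 398, 399, 404, 405, 406, 407, 408, 409, 410, 411, 420, 421, 422, 423, 424, 425, 426, 427, 432, 433, 434, 435, 444, 445, 446, 447, 452, 453, 454, 455, 456, 457, 458, 459, 464, 465, 466, 467, 476, 477, 478, 479, 480, 481, 482, 483, 492, 493, 494, 495, 500, 501, 502, 503, 504, 505, 506, 507]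

/-- members commuting with the seventh-order letter modulo the normal subgroup -/
def bS : List ℕ := [0, 2, 7, 19, 44, 83, 92]

/-- members commuting with the third-order letter modulo the normal subgroup -/
def bT : List ℕ := [0, 1, 3, 5, 10, 15]

/-- the centraliser of c and the third-order letter -/
def ctWords : List (List ℕ) := [[],
  [0],
  [2],
  [4],
  [7],
  [8],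
  [0, 2],
  [0, 4],
  [0, 7],
  [0, 8],
  [2, 4],
  [2, 7],
  [2, 8],
  [4, 7],
  [4, 8],
  [0, 2, 4],
  [0, 2, 7],
  [0, 2, 8],
  [0, 4, 7],
  [0, 4, 8],
  [2, 4, 7],
  [2, 4, 8],
  [0, 2, 4, 7],
  [0, 2, 4, 8],
  [3, 2, 3, 4, 3, 2, 3],
  [0, 3, 2, 3, 4, 3, 2, 3],
  [2, 3, 2, 3, 4, 3, 2, 3],
  [3, 2, 3, 2, 4, 3, 2, 3],
  [3, 2, 3, 4, 3, 2, 3, 4],
  [3, 2, 3, 4, 3, 2, 3, 7],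
  [3, 2, 3, 4, 3, 2, 3, 8],
  [3, 4, 3, 2, 3, 2, 4, 3],
  [0, 3, 2, 3, 4, 3, 2, 3, 7],
  [0, 3, 2, 3, 4, 3, 2, 3, 8],
  [2, 3, 2, 3, 4, 3, 2, 3, 4],
  [2, 3, 2, 3, 4, 3, 2, 3, 7],
  [2, 3, 2, 3, 4, 3, 2, 3, 8],
  [2, 3, 4, 3, 2, 3, 2, 4, 3],
  [3, 2, 3, 2, 4, 3, 2, 3, 7],
  [3, 2, 3, 2, 4, 3, 2, 3, 8],
  [3, 2, 3, 4, 3, 2, 3, 4, 7],
  [3, 2, 3, 4, 3, 2, 3, 4, 8],
  [3, 4, 3, 2, 3, 2, 4, 3, 7],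
  [3, 4, 3, 2, 3, 2, 4, 3, 8],
  [2, 3, 2, 3, 4, 3, 2, 3, 4, 7],
  [2, 3, 2, 3, 4, 3, 2, 3, 4, 8],
  [2, 3, 4, 3, 2, 3, 2, 4, 3, 7],
  [2, 3, 4, 3, 2, 3, 2, 4, 3, 8],
  [3, 2, 3, 5, 4, 3, 2, 3, 6, 6, 4, 3, 2, 3, 6, 4, 3, 2, 3, 5, 4, 5],
  [3, 2, 3, 6, 4, 3, 2, 3, 6, 4, 3, 2, 3, 5, 4, 3, 2, 3, 5, 5, 4, 6],
  [3, 2, 3, 6, 4, 3, 2, 3, 6, 4, 3, 2, 3, 5, 4, 3, 2, 3, 6, 4, 5, 5],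
  [3, 2, 3, 6, 4, 3, 2, 3, 6, 4, 3, 2, 3, 5, 4, 3, 2, 3, 6, 4, 8, 5],
  [3, 2, 3, 6, 4, 3, 2, 3, 7, 5, 4, 3, 2, 3, 6, 4, 3, 2, 3, 5, 4, 5],
  [3, 2, 3, 6, 6, 4, 3, 2, 3, 5, 4, 3, 2, 3, 6, 4, 3, 2, 3, 5, 4, 5],
  [3, 2, 5, 4, 3, 2, 8, 5, 4, 3, 2, 6, 4, 3, 2, 5, 4, 3, 6, 6, 4, 6],
  [3, 2, 6, 4, 3, 2, 3, 6, 4, 3, 2, 3, 5, 4, 3, 2, 3, 6, 4, 3, 6, 6],
  [3, 2, 6, 4, 3, 2, 3, 6, 4, 3, 2, 3, 5, 4, 3, 2, 3, 6, 4, 3, 8, 6],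
  [3, 2, 6, 4, 3, 2, 3, 7, 5, 4, 3, 2, 3, 6, 4, 3, 2, 3, 5, 4, 3, 6],
  [3, 2, 6, 6, 4, 3, 2, 3, 5, 4, 3, 2, 3, 6, 4, 3, 2, 3, 5, 4, 3, 6],
  [3, 6, 4, 3, 2, 3, 2, 6, 4, 3, 2, 3, 5, 4, 3, 2, 3, 6, 4, 3, 8, 6],
  [3, 6, 4, 3, 2, 3, 2, 7, 5, 4, 3, 2, 3, 6, 4, 3, 2, 3, 5, 4, 3, 6],
  [5, 4, 3, 2, 3, 6, 6, 4, 3, 2, 3, 6, 4, 3, 2, 3, 5, 4, 3, 2, 3, 5],
  [5, 4, 3, 2, 6, 6, 4, 3, 2, 5, 4, 3, 2, 6, 4, 3, 2, 5, 4, 3, 7, 5],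
  [6, 4, 3, 2, 3, 6, 4, 3, 2, 3, 5, 4, 3, 2, 3, 5, 5, 4, 3, 2, 3, 6],
  [6, 4, 3, 2, 3, 6, 4, 3, 2, 3, 5, 4, 3, 2, 3, 6, 4, 3, 2, 3, 8, 5],
  [6, 4, 3, 2, 3, 7, 5, 4, 3, 2, 3, 6, 4, 3, 2, 3, 5, 4, 3, 2, 3, 5],
  [0, 3, 2, 3, 5, 4, 3, 2, 3, 6, 6, 4, 3, 2, 3, 6, 4, 3, 2, 3, 5, 4, 5],
  [0, 3, 2, 3, 6, 4, 3, 2, 3, 6, 4, 3, 2, 3, 5, 4, 3, 2, 3, 5, 5, 4, 6],
  [0, 3, 2, 5, 4, 3, 2, 8, 5, 4, 3, 2, 6, 4, 3, 2, 5, 4, 3, 6, 6, 4, 6],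
  [0, 5, 4, 3, 2, 3, 6, 6, 4, 3, 2, 3, 6, 4, 3, 2, 3, 5, 4, 3, 2, 3, 5],
  [0, 5, 4, 3, 2, 6, 6, 4, 3, 2, 5, 4, 3, 2, 6, 4, 3, 2, 5, 4, 3, 7, 5],
  [0, 6, 4, 3, 2, 3, 6, 4, 3, 2, 3, 5, 4, 3, 2, 3, 5, 5, 4, 3, 2, 3, 6],
  [2, 3, 2, 3, 6, 4, 3, 2, 3, 6, 4, 3, 2, 3, 5, 4, 3, 2, 3, 6, 4, 5, 5],
  [2, 3, 2, 3, 6, 4, 3, 2, 3, 6, 4, 3, 2, 3, 5, 4, 3, 2, 3, 6, 4, 8, 5],
  [2, 3, 2, 3, 6, 4, 3, 2, 3, 7, 5, 4, 3, 2, 3, 6, 4, 3, 2, 3, 5, 4, 5],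
  [2, 3, 2, 3, 6, 6, 4, 3, 2, 3, 5, 4, 3, 2, 3, 6, 4, 3, 2, 3, 5, 4, 5],
  [2, 3, 2, 5, 4, 3, 2, 8, 5, 4, 3, 2, 6, 4, 3, 2, 5, 4, 3, 6, 6, 4, 6],
  [2, 3, 2, 6, 4, 3, 2, 3, 6, 4, 3, 2, 3, 5, 4, 3, 2, 3, 6, 4, 3, 6, 6],
  [2, 3, 2, 6, 4, 3, 2, 3, 6, 4, 3, 2, 3, 5, 4, 3, 2, 3, 6, 4, 3, 8, 6],
  [2, 3, 2, 6, 4, 3, 2, 3, 7, 5, 4, 3, 2, 3, 6, 4, 3, 2, 3, 5, 4, 3, 6],
  [2, 3, 2, 6, 6, 4, 3, 2, 3, 5, 4, 3, 2, 3, 6, 4, 3, 2, 3, 5, 4, 3, 6],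
  [2, 3, 6, 4, 3, 2, 3, 2, 6, 4, 3, 2, 3, 5, 4, 3, 2, 3, 6, 4, 3, 8, 6],
  [2, 3, 6, 4, 3, 2, 3, 2, 7, 5, 4, 3, 2, 3, 6, 4, 3, 2, 3, 5, 4, 3, 6],
  [2, 5, 4, 3, 2, 6, 6, 4, 3, 2, 5, 4, 3, 2, 6, 4, 3, 2, 5, 4, 3, 7, 5],
  [2, 6, 4, 3, 2, 3, 6, 4, 3, 2, 3, 5, 4, 3, 2, 3, 6, 4, 3, 2, 3, 8, 5],
  [2, 6, 4, 3, 2, 3, 7, 5, 4, 3, 2, 3, 6, 4, 3, 2, 3, 5, 4, 3, 2, 3, 5],
  [3, 2, 3, 4, 6, 4, 3, 2, 3, 6, 4, 3, 2, 3, 5, 4, 3, 2, 3, 6, 4, 8, 5],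
  [3, 2, 3, 4, 6, 4, 3, 2, 3, 7, 5, 4, 3, 2, 3, 6, 4, 3, 2, 3, 5, 4, 5],
  [3, 2, 3, 5, 4, 3, 2, 3, 6, 6, 4, 3, 2, 3, 6, 4, 3, 2, 3, 5, 4, 5, 8],
  [3, 2, 3, 5, 4, 3, 2, 3, 8, 5, 4, 3, 2, 3, 5, 4, 3, 2, 3, 6, 4, 8, 5],
  [3, 2, 3, 6, 4, 3, 2, 3, 7, 5, 4, 3, 2, 3, 6, 4, 3, 2, 3, 5, 4, 5, 4],
  [3, 5, 4, 3, 2, 8, 5, 4, 3, 2, 5, 4, 3, 2, 6, 4, 3, 2, 3, 5, 4, 3, 6],
  [3, 5, 4, 3, 2, 8, 5, 4, 3, 2, 5, 4, 3, 6, 4, 3, 2, 3, 2, 5, 4, 3, 6],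
  [4, 3, 2, 6, 4, 3, 2, 3, 7, 5, 4, 3, 2, 3, 6, 4, 3, 2, 3, 5, 4, 3, 6],
  [4, 3, 6, 4, 3, 2, 3, 2, 7, 5, 4, 3, 2, 3, 6, 4, 3, 2, 3, 5, 4, 3, 6],
  [4, 6, 4, 3, 2, 3, 6, 4, 3, 2, 3, 5, 4, 3, 2, 3, 6, 4, 3, 2, 3, 8, 5]]

/-- the centraliser of c and the seventh-order letter -/
def csWords : List (List ℕ) := [[],
  [0],
  [2],
  [0, 2],
  [5],
  [0, 5],
  [2, 5],
  [0, 2, 5],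
  [5, 5],
  [0, 5, 5],
  [2, 5, 5],
  [0, 2, 5, 5],
  [5, 5, 5],
  [0, 5, 5, 5],
  [2, 5, 5, 5],
  [0, 2, 5, 5, 5],
  [5, 5, 5, 5],
  [0, 5, 5, 5, 5],
  [2, 5, 5, 5, 5],
  [0, 2, 5, 5, 5, 5],
  [5, 5, 5, 5, 5],
  [0, 5, 5, 5, 5, 5],
  [2, 5, 5, 5, 5, 5],
  [0, 2, 5, 5, 5, 5, 5],
  [7, 5, 7, 5, 7],
  [0, 7, 5, 7, 5, 7],
  [2, 7, 5, 7, 5, 7],
  [0, 2, 7, 5, 7, 5, 7]]

/-- conjugators -/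
def cRepConj : List (List ℕ) := [[],
  [9, 3, 9]]

/-- representatives -/
def cRep : List (List ℕ) := [[2],
  [0, 3, 2, 3, 4, 3, 2, 3, 4, 6, 4, 3, 2, 3, 4, 5, 6, 6, 4, 3, 2, 3, 4, 5, 5, 7, 6, 4, 3, 2, 3, 4, 5, 8]]

/-- involutions of the normal subgroup as conjugates -/
def cTree : List (ℕ × ℕ × List ℕ) := [(2, 0, []),
  (3, 0, [3, 2, 3]),
  (4, 0, [3]),
  (5, 0, [3, 2]),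
  (8, 0, [3, 4]),
  (9, 0, [3, 2, 4]),
  (16, 0, [3, 4, 5]),
  (17, 0, [3, 2, 4, 5]),
  (30, 1, [2, 4, 6, 4, 6, 8]),
  (31, 1, [4, 6, 4, 6, 8]),
  (32, 0, [3, 4, 6]),
  (33, 0, [3, 2, 4, 6]),
  (46, 1, [4, 6, 4, 6, 4]),
  (47, 1, [2, 4, 6, 4, 6, 4]),
  (54, 1, [5, 4, 8]),
  (55, 1, [2, 5, 4, 8]),
  (58, 1, [6, 4, 5, 5]),
  (59, 1, [2, 6, 4, 5, 5]),
  (60, 1, [2, 4, 3, 5, 4, 8]),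
  (61, 1, [4, 3, 5, 4, 8]),
  (62, 1, [2, 3, 4, 3, 5, 4, 8]),
  (63, 1, [3, 4, 3, 5, 4, 8]),
  (64, 0, [3, 4, 5, 4]),
  (65, 0, [3, 2, 4, 5, 4]),
  (78, 1, [5, 4, 6, 6]),
  (79, 1, [2, 5, 4, 6, 6]),
  (86, 1, [2, 4, 6, 4]),
  (87, 1, [4, 6, 4]),
  (90, 1, [4, 6]),
  (91, 1, [2, 4, 6]),
  (92, 1, [3, 6]),
  (93, 1, [2, 3, 6]),
  (94, 1, [2, 3, 4, 6]),
  (95, 1, [3, 4, 6]),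
  (102, 1, [2, 5, 4, 5]),
  (103, 1, [5, 4, 5]),
  (106, 1, [6, 4, 5, 8]),
  (107, 1, [2, 6, 4, 5, 8]),
  (108, 1, [2, 6, 4, 3, 6, 4]),
  (109, 1, [6, 4, 3, 6, 4]),
  (110, 1, [2, 4, 3, 6, 4, 6, 4]),
  (111, 1, [4, 3, 6, 4, 6, 4]),
  (114, 1, [2, 6, 4, 6, 7]),
  (115, 1, [6, 4, 6, 7]),
  (116, 1, [4, 5, 4, 3]),
  (117, 1, [2, 4, 5, 4, 3]),
  (118, 1, [3, 4, 3, 5, 4, 5]),
  (119, 1, [2, 3, 4, 3, 5, 4, 5]),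
  (120, 1, [3, 4, 3, 6]),
  (121, 1, [2, 3, 4, 3, 6]),
  (122, 1, [4, 3, 6]),
  (123, 1, [2, 4, 3, 6]),
  (124, 1, [2, 6]),
  (125, 1, [6]),
  (128, 0, [3, 4, 5, 5]),
  (129, 0, [3, 2, 4, 5, 5]),
  (142, 1, [2, 4, 6, 4, 6]),
  (143, 1, [4, 6, 4, 6]),
  (150, 1, [2, 5, 4, 6, 7]),
  (151, 1, [5, 4, 6, 7]),
  (154, 1, [5, 4, 5, 4]),
  (155, 1, [2, 5, 4, 5, 4]),
  (156, 1, [2, 6, 4, 3, 6]),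
  (157, 1, [6, 4, 3, 6]),
  (158, 1, [2, 4, 3, 6, 4, 6]),
  (159, 1, [4, 3, 6, 4, 6]),
  (166, 1, [4, 6, 4, 7]),
  (167, 1, [2, 4, 6, 4, 7]),
  (170, 1, [2, 4, 6, 6]),
  (171, 1, [4, 6, 6]),
  (172, 1, [2, 3, 6, 6]),
  (173, 1, [3, 6, 6]),
  (174, 1, [3, 4, 6, 6]),
  (175, 1, [2, 3, 4, 6, 6]),
  (178, 1, [6, 8]),
  (179, 1, [2, 6, 8]),
  (180, 1, [4, 3, 6, 8]),
  (181, 1, [2, 4, 3, 6, 8]),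
  (182, 1, [3, 4, 3, 6, 8]),
  (183, 1, [2, 3, 4, 3, 6, 8]),
  (184, 1, [2, 4, 3, 6, 4, 3, 6]),
  (185, 1, [4, 3, 6, 4, 3, 6]),
  (186, 1, [2, 4, 5, 4, 3, 8]),
  (187, 1, [4, 5, 4, 3, 8]),
  (188, 1, [2, 6, 4, 6]),
  (189, 1, [6, 4, 6]),
  (198, 1, [5, 4, 7, 6]),
  (199, 1, [2, 5, 4, 7, 6]),
  (202, 1, [5, 8]),
  (203, 1, [2, 5, 8]),
  (204, 1, [4, 3, 5, 8]),
  (205, 1, [2, 4, 3, 5, 8]),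
  (206, 1, [3, 4, 3, 5, 8]),
  (207, 1, [2, 3, 4, 3, 5, 8]),
  (210, 1, [2, 4, 5, 4, 8, 6]),
  (211, 1, [4, 5, 4, 8, 6]),
  (212, 1, [6, 4, 3]),
  (213, 1, [2, 6, 4, 3]),
  (214, 1, [4, 3, 6, 4]),
  (215, 1, [2, 4, 3, 6, 4]),
  (216, 1, [4, 3, 6, 4, 3]),
  (217, 1, [2, 4, 3, 6, 4, 3]),
  (218, 1, [4, 5, 4, 3, 8, 5]),
  (219, 1, [2, 4, 5, 4, 3, 8, 5]),
  (220, 1, [6, 4]),
  (221, 1, [2, 6, 4]),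
  (226, 1, [6, 4, 8]),
  (227, 1, [2, 6, 4, 8]),
  (228, 1, [2, 6, 4, 6, 4, 3]),
  (229, 1, [6, 4, 6, 4, 3]),
  (230, 1, [2, 4, 3, 6, 4, 3, 8]),
  (231, 1, [4, 3, 6, 4, 3, 8]),
  (232, 1, [4, 3, 6, 4, 8]),
  (233, 1, [2, 4, 3, 6, 4, 8]),
  (234, 1, [6, 4, 3, 8]),
  (235, 1, [2, 6, 4, 3, 8]),
  (236, 1, [6, 4, 6, 4]),
  (237, 1, [2, 6, 4, 6, 4]),
  (240, 1, [3, 4, 6, 8]),
  (241, 1, [2, 3, 4, 6, 8]),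
  (242, 1, [2, 3, 6, 8]),
  (243, 1, [3, 6, 8]),
  (244, 1, [4, 6, 8]),
  (245, 1, [2, 4, 6, 8]),
  (248, 1, [4, 6, 4, 8]),
  (249, 1, [2, 4, 6, 4, 8]),
  (256, 0, [3, 4, 5, 8]),
  (257, 0, [3, 2, 4, 5, 8]),
  (270, 1, [2, 5, 4, 5, 5]),
  (271, 1, [5, 4, 5, 5]),
  (278, 1, [5, 4, 6]),
  (279, 1, [2, 5, 4, 6]),
  (282, 1, [2, 4, 5, 4, 7, 6]),
  (283, 1, [4, 5, 4, 7, 6]),
  (284, 1, [6, 4, 3, 6, 8]),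
  (285, 1, [2, 6, 4, 3, 6, 8]),
  (286, 1, [4, 3, 6, 4, 6, 8]),
  (287, 1, [2, 4, 3, 6, 4, 6, 8]),
  (294, 1, [4, 6, 4, 3]),
  (295, 1, [2, 4, 6, 4, 3]),
  (298, 1, [5]),
  (299, 1, [2, 5]),
  (300, 1, [4, 3, 5]),
  (301, 1, [2, 4, 3, 5]),
  (302, 1, [3, 4, 3, 5]),
  (303, 1, [2, 3, 4, 3, 5]),
  (306, 1, [2, 4, 5, 4]),
  (307, 1, [4, 5, 4]),
  (308, 1, [4, 3, 5, 4, 6]),
  (309, 1, [2, 4, 3, 5, 4, 6]),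
  (310, 1, [3, 4, 3, 5, 4, 6]),
  (311, 1, [2, 3, 4, 3, 5, 4, 6]),
  (312, 1, [2, 3, 4, 5]),
  (313, 1, [3, 4, 5]),
  (314, 1, [3, 5]),
  (315, 1, [2, 3, 5]),
  (316, 1, [2, 4, 5]),
  (317, 1, [4, 5]),
  (326, 1, [2, 5, 4, 7]),
  (327, 1, [5, 4, 7]),
  (330, 1, [2, 6, 4, 8, 5]),
  (331, 1, [6, 4, 8, 5]),
  (332, 1, [4, 3, 5, 4, 7]),
  (333, 1, [2, 4, 3, 5, 4, 7]),
  (334, 1, [3, 4, 3, 5, 4, 7]),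
  (335, 1, [2, 3, 4, 3, 5, 4, 7]),
  (338, 1, [2, 6, 6]),
  (339, 1, [6, 6]),
  (340, 1, [2, 4, 3, 6, 6]),
  (341, 1, [4, 3, 6, 6]),
  (342, 1, [2, 3, 4, 3, 6, 6]),
  (343, 1, [3, 4, 3, 6, 6]),
  (344, 1, [4, 3, 6, 4, 8, 5]),
  (345, 1, [2, 4, 3, 6, 4, 8, 5]),
  (346, 1, [4, 5, 4, 3, 7]),
  (347, 1, [2, 4, 5, 4, 3, 7]),
  (348, 1, [6, 4, 6, 8]),
  (349, 1, [2, 6, 4, 6, 8]),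
  (354, 1, [4, 5, 5]),
  (355, 1, [2, 4, 5, 5]),
  (356, 1, [3, 5, 5]),
  (357, 1, [2, 3, 5, 5]),
  (358, 1, [2, 3, 4, 5, 5]),
  (359, 1, [3, 4, 5, 5]),
  (360, 1, [2, 4, 3, 6, 4, 5, 8]),
  (361, 1, [4, 3, 6, 4, 5, 8]),
  (362, 1, [2, 6, 4, 3, 5, 8]),
  (363, 1, [6, 4, 3, 5, 8]),
  (364, 1, [2, 4, 5, 4, 7]),
  (365, 1, [4, 5, 4, 7]),
  (368, 1, [2, 3, 4, 3, 5, 4]),
  (369, 1, [3, 4, 3, 5, 4]),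
  (370, 1, [2, 4, 3, 5, 4]),
  (371, 1, [4, 3, 5, 4]),
  (372, 1, [2, 4, 5, 4, 5]),
  (373, 1, [4, 5, 4, 5]),
  (376, 1, [5, 4]),
  (377, 1, [2, 5, 4]),
  (390, 1, [2, 4, 6, 4, 5]),
  (391, 1, [4, 6, 4, 5]),
  (394, 1, [6, 4, 7, 6]),
  (395, 1, [2, 6, 4, 7, 6]),
  (396, 1, [2, 4, 5, 4, 3, 5]),
  (397, 1, [4, 5, 4, 3, 5]),
  (398, 1, [2, 4, 3, 6, 4, 6, 7]),
  (399, 1, [4, 3, 6, 4, 6, 7]),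
  (402, 1, [4]),
  (403, 1, [2, 4]),
  (404, 1, [3]),
  (405, 1, [2, 3]),
  (406, 1, [2, 3, 4]),
  (407, 1, [3, 4]),
  (408, 1, [3, 4, 3]),
  (409, 1, [2, 3, 4, 3]),
  (410, 1, [4, 3]),
  (411, 1, [2, 4, 3]),
  (412, 1, [2]),
  (413, 1, []),
  (418, 1, [6, 4, 7, 5]),
  (419, 1, [2, 6, 4, 7, 5]),
  (420, 1, [2, 6, 4, 3, 7]),
  (421, 1, [6, 4, 3, 7]),
  (422, 1, [2, 4, 3, 6, 4, 7]),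
  (423, 1, [4, 3, 6, 4, 7]),
  (424, 1, [2, 4, 3, 6, 4, 3, 7]),
  (425, 1, [4, 3, 6, 4, 3, 7]),
  (426, 1, [2, 6, 4, 3, 7, 6]),
  (427, 1, [6, 4, 3, 7, 6]),
  (428, 1, [2, 6, 4, 7]),
  (429, 1, [6, 4, 7]),
  (432, 1, [4, 3, 6, 4, 7, 5]),
  (433, 1, [2, 4, 3, 6, 4, 7, 5]),
  (434, 1, [6, 4, 3, 7, 5]),
  (435, 1, [2, 6, 4, 3, 7, 5]),
  (436, 1, [4, 5, 4, 6]),
  (437, 1, [2, 4, 5, 4, 6]),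
  (440, 1, [5, 4, 5, 8]),
  (441, 1, [2, 5, 4, 5, 8]),
  (450, 1, [2, 4, 5, 4, 8]),
  (451, 1, [4, 5, 4, 8]),
  (452, 1, [6, 4, 3, 5]),
  (453, 1, [2, 6, 4, 3, 5]),
  (454, 1, [4, 3, 6, 4, 5]),
  (455, 1, [2, 4, 3, 6, 4, 5]),
  (456, 1, [2, 3, 4, 5, 8]),
  (457, 1, [3, 4, 5, 8]),
  (458, 1, [3, 5, 8]),
  (459, 1, [2, 3, 5, 8]),
  (460, 1, [2, 4, 5, 8]),
  (461, 1, [4, 5, 8]),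
  (464, 1, [4, 3, 6, 4, 3, 5]),
  (465, 1, [2, 4, 3, 6, 4, 3, 5]),
  (466, 1, [5, 4, 5, 4, 3]),
  (467, 1, [2, 5, 4, 5, 4, 3]),
  (468, 1, [6, 4, 5]),
  (469, 1, [2, 6, 4, 5]),
  (472, 1, [5, 4, 5, 7]),
  (473, 1, [2, 5, 4, 5, 7]),
  (480, 1, [3, 4, 3, 5, 5]),
  (481, 1, [2, 3, 4, 3, 5, 5]),
  (482, 1, [4, 3, 5, 5]),
  (483, 1, [2, 4, 3, 5, 5]),
  (484, 1, [2, 5, 5]),
  (485, 1, [5, 5]),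
  (488, 1, [4, 6, 4, 3, 7]),
  (489, 1, [2, 4, 6, 4, 3, 7]),
  (496, 1, [5, 4, 8, 6]),
  (497, 1, [2, 5, 4, 8, 6]),
  (510, 0, [3, 2, 4, 6, 6]),
  (511, 0, [3, 4, 6, 6])]

/-- conjugators -/
def dRepConj : List (List ℕ) := [[]]

/-- representatives -/
def dRep : List (List ℕ) := [[3]]

/-- involutions in the coset of d as conjugates -/
def dTree : List (ℕ × ℕ × List ℕ) := [(0, 0, []),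
  (1, 0, [2, 3, 2]),
  (6, 0, [2, 3]),
  (7, 0, [2]),
  (8, 0, [2, 3, 5, 4, 3, 2, 5, 4, 3, 2, 5, 4, 3, 2, 5, 4, 6]),
  (9, 0, [2, 5, 4, 3, 2, 5, 4, 3, 2, 5, 4, 3, 2, 5, 4, 6]),
  (14, 0, [2, 3, 5, 4, 3, 2, 5, 4, 3, 2, 5, 4, 3, 5, 4, 6]),
  (15, 0, [2, 5, 4, 3, 2, 5, 4, 3, 2, 5, 4, 3, 5, 4, 6]),
  (48, 0, [2, 5, 4, 3, 6, 4, 6]),
  (49, 0, [6, 4, 3, 2, 3, 4, 5]),
  (54, 0, [2, 6, 4, 3, 2, 3, 4, 5]),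
  (55, 0, [2, 5, 4, 3, 2, 3, 4, 6]),
  (56, 0, [2, 3, 6, 4, 3, 2, 5, 4, 3, 2, 6, 4, 5, 5]),
  (57, 0, [2, 6, 4, 3, 2, 5, 4, 3, 2, 6, 4, 5, 5]),
  (62, 0, [2, 3, 6, 4, 3, 2, 5, 4, 3, 6, 4, 5, 5]),
  (63, 0, [2, 6, 4, 3, 2, 5, 4, 3, 6, 4, 5, 5]),
  (320, 0, [6, 4, 3, 2, 3, 4, 5, 8]),
  (321, 0, [2, 4, 3, 5, 4, 3, 5, 4]),
  (326, 0, [2, 4, 3, 5, 4, 3, 2, 5, 4]),
  (327, 0, [2, 6, 4, 3, 2, 3, 4, 5, 8]),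
  (328, 0, [2, 6, 4, 3, 2, 5, 4, 3, 2, 6, 4, 8, 5]),
  (329, 0, [2, 3, 6, 4, 3, 2, 5, 4, 3, 2, 6, 4, 8, 5]),
  (334, 0, [2, 6, 4, 3, 2, 5, 4, 3, 6, 4, 8, 5]),
  (335, 0, [2, 3, 6, 4, 3, 2, 5, 4, 3, 6, 4, 8, 5]),
  (368, 0, [2, 3, 6, 4, 3, 2, 7, 6, 4, 3, 5, 4, 5]),
  (369, 0, [2, 6, 4, 3, 2, 7, 6, 4, 3, 5, 4, 5]),
  (374, 0, [2, 6, 4, 3, 2, 7, 6, 4, 3, 2, 5, 4, 5]),
  (375, 0, [2, 3, 6, 4, 3, 2, 7, 6, 4, 3, 2, 5, 4, 5]),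
  (376, 0, [2, 4, 3, 6, 4, 3, 2, 6, 4]),
  (377, 0, [2, 5, 4, 3, 2, 3, 4, 6, 7]),
  (382, 0, [2, 4, 3, 6, 4, 3, 6, 4]),
  (383, 0, [2, 5, 4, 3, 6, 4, 6, 7])]

/-- paths in the orbit of c -/
def orb18Path : List (List ℕ) := [[], [3], [3, 2], [3, 4], [3, 2, 3], [3, 2, 4], [3, 4, 5], [3, 4, 6], [3, 2, 4, 5], [3, 2, 4, 6], [3, 4, 5, 4], [3, 4, 5, 5], [3, 4, 5, 8], [3, 4, 6, 6], [3, 2, 4, 5, 4], [3, 2, 4, 5, 5], [3, 2, 4, 5, 8], [3, 2, 4, 6, 6]]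

end CfsgLib.ThUnique
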