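import Cfsg.Agent.Lib.ThUnique.Tools
import Cfsg.Agent.Lib.ThUnique.Data

/-!
Statements of the finite checks in the centraliser.
-/

set_option autoImplicit false

namespace CfsgLib.ThUnique

open CfsgLib.CosetEnum CfsgLib.ThPres CfsgLib.ThRep

/-- a representative -/
noncomputable def repK (k : ℕ) : List ℕ := repW.getD k []

/-- a word in the centraliser certificate returns to the first coset -/
noncomputable def inRange (w : List ℕ) : Bool :=
  (w.all fun g => lmC.contains g) && Nat.beq (certC.run 0 (toC w)) 0

/-- the moves of the representatives under one letter -/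
noncomputable def moveOK (mv : List ℕ) (x : ℕ) (fix : List (ℕ × ℕ)) (hs : List (List ℕ)) : Bool :=
  (List.range 120).all fun k =>
    (Nat.blt (mv.getD k 0) 120 && !Nat.beq (mv.getD k 0) k &&
      inRange (repK k ++ [x] ++ iw11 (repK (mv.getD k 0)))) ||
    fix.any fun e => Nat.beq e.1 k && Nat.blt e.2 hs.length &&
      inRange (repK k ++ iw11 (hs.getD e.2 []))

/-- conjugates of the fixed representatives -/
noncomputable def fixOK : Bool :=
  Nat.beq fixH.length 6 && (fixH.getD 0 [] == []) && (fixH.all fun h => inC h && inC (iw11 h)) &&
    ((List.range 3).all fun j => eqM (fixH.getD (j + 3) [] ++ [7] ++ iw11 (fixH.getD (j + 3) [])) [8]) &&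
    ((List.range 3).all fun j => eqM (fixH.getD j [] ++ [7]) ([7] ++ fixH.getD j [])) &&
    (List.range 2).all fun j =>
      eqM (fixH.getD (j + 1) [] ++ [2] ++ iw11 (fixH.getD (j + 1) [])) (qElts.getD (fixC.getD j 0) []) &&
        Nat.blt (fixC.getD j 0) 512 && !orb18.contains (fixC.getD j 0)

/-- the orbit of c in the point centraliser -/
noncomputable def orbitOK : Bool :=
  Nat.beq orb18.length 18 && distinctB orb18 && (orb18.all fun k => Nat.blt k 512) &&
    eqP (qElts.getD (orb18.getD 0 0) []) [2] &&
    (List.range 18).all fun i => (List.range 8).all fun j =>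
      Nat.blt ((orb18Next.getD i []).getD j 0) 18 &&
        eqP (inv11 (paLet.getD j 0) :: qElts.getD (orb18.getD i 0) [] ++ [paLet.getD j 0])
          (qElts.getD (orb18.getD ((orb18Next.getD i []).getD j 0) 0) [])

/-- every member of the orbit is reached -/
noncomputable def tree18OK : Bool :=
  (List.range 18).all fun i => ((orb18Path.getD i []).all fun g => paLet.contains g) &&
    eqP (2 :: orb18Path.getD i []) (orb18Path.getD i [] ++ qElts.getD (orb18.getD i 0) [])

/-- the generators of the complement -/
def bLet : List ℕ := [4, 5, 7]

/-- the complement -/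
noncomputable def compOK : Bool :=
  Nat.beq bWords.length 168 && (bWords.getD 0 [] == []) &&
    (bWords.all fun w => w.all fun g => bLet.contains g) &&
    ((List.range 168).all fun i => Nat.beq i 0 || !qKey.any (Nat.beq (keyRun (bWords.getD i [])))) &&
    distinctB (bWords.map keyRun) &&
    ((bLet.all fun g => eqP [g, 2] [2, g] && eqP [g, 0] [0, g])) &&
    (List.range 168).all fun i => (List.range 3).all fun j =>
      Nat.blt ((bNext.getD i []).getD j 0) 168 &&
        eqP (bWords.getD i [] ++ [bLet.getD j 0]) (bWords.getD ((bNext.getD i []).getD j 0) [])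

/-- strictly increasing -/
noncomputable def incOK : List ℕ → Bool
  | a :: b :: l => Nat.blt a b && incOK (b :: l)
  | _ => true

/-- the elements commuting with c -/
noncomputable def qcOK : Bool :=
  Nat.beq qcIdx.length 256 && incOK qcIdx && (qcIdx.all fun k => Nat.blt k 512) &&
    qcIdx.all fun k => eqP (qElts.getD k [] ++ [2]) (2 :: qElts.getD k [])

/-- the members commuting modulo the normal subgroup -/
noncomputable def modOK (x : ℕ) (bs : List ℕ) : Bool :=
  (List.range 168).all fun i => bs.contains i ||
    !qKey.any (Nat.beq (keyRun (bWords.getD i [] ++ [x] ++ iw11 (bWords.getD i []) ++ [inv11 x])))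

/-- all elements commuting with a letter are listed -/
noncomputable def listOK (x : ℕ) (bs : List ℕ) (ks : List ℕ) : Bool :=
  bs.all fun i => qcIdx.all fun k =>
    !Nat.beq (keyRun (qElts.getD k [] ++ bWords.getD i [] ++ [x]))
        (keyRun ([x] ++ qElts.getD k [] ++ bWords.getD i [])) ||
      ks.any (Nat.beq (keyRun (qElts.getD k [] ++ bWords.getD i [])))

/-- the listed elements are words of the centraliser -/
noncomputable def wordsOK (ws : List (List ℕ)) : Bool :=
  ws.all fun w => (w.all fun g => Nat.blt g 9) && inC w && inC (iw11 w)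

/-- involutions are conjugates of the representatives -/
noncomputable def treeK (pre : List ℕ) (base : List ℕ) (cons reps : List (List ℕ))
    (tree : List (ℕ × ℕ × List ℕ)) : Bool :=
  Nat.beq cons.length reps.length && (cons.all fun h => inC h && inC (iw11 h)) &&
    ((List.range cons.length).all fun j =>
      eqM (iw11 (cons.getD j []) ++ base ++ cons.getD j []) (reps.getD j []) && inC (reps.getD j [])) &&
    tree.all fun e => Nat.blt e.1 512 && Nat.blt e.2.1 cons.length && inC e.2.2 && inC (iw11 e.2.2) &&
      eqP (iw11 e.2.2 ++ reps.getD e.2.1 [] ++ e.2.2) (pre ++ qElts.getD e.1 [])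

/-- every involution is in the table -/
noncomputable def coverOK (pre : List ℕ) (tree : List (ℕ × ℕ × List ℕ)) (skip : List ℕ) : Bool :=
  (List.range 512).all fun k => skip.contains k || tree.any (fun e => Nat.beq e.1 k) ||
    !Nat.beq (keyRun (pre ++ qElts.getD k [] ++ pre ++ qElts.getD k [])) (keyRun [])

/-- a product of listed conjugates of the generators of the normal subgroup -/
noncomputable def quWord (k : ℕ) : List ℕ :=
  (List.range 9).flatMap fun i => if Nat.testBit k i then qElts.getD (qConjU.getD i 0) [] else []

/-- a product of generators of the normal subgroup -/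
noncomputable def qGWord (k : ℕ) : List ℕ :=
  (List.range 9).flatMap fun i => if Nat.testBit k i then qGens.getD i [] else []

/-- no involution in the coset of u -/
noncomputable def uCosetOK : Bool :=
  (List.range 512).all fun k => (qGWord k == qElts.getD k []) &&
    ([0, 2] ++ quWord k ++ qElts.getD k []).all (fun g => Nat.blt g 9) &&
    !Nat.beq (keyRun ([0, 2] ++ quWord k ++ qElts.getD k [])) (keyRun [])

/-- the involutions of the normal subgroup commuting with the seventh-order letter -/
noncomputable def qsOK : Bool :=
  (List.range 512).all fun k => Nat.beq k 0 || Nat.beq k 1 ||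
    !Nat.beq (keyRun (qElts.getD k [] ++ [5])) (keyRun (5 :: qElts.getD k [])) ||
    !Nat.beq (keyRun (qElts.getD k [] ++ qElts.getD k [])) (keyRun []) ||
    [[2], [0, 2], [3, 2, 3], [0, 3, 2, 3]].any fun w => Nat.beq (keyRun (qElts.getD k [])) (keyRun w)

end CfsgLib.ThUnique
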