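import Cfsg.Agent.Lib.ThUnique.CheckDefs

/-!
Kernel checks in the centraliser.
-/

set_option autoImplicit false
set_option Elab.async false

namespace CfsgLib.ThUnique

open CfsgLib.CosetEnum CfsgLib.ThPres

theorem move_s : moveOK moveS 5 [(0, 0)] [[]] = true := by decide +kernel

theorem move_t : moveOK moveT 7 fixPair fixH = true := by decide +kernel

theorem fix_ok7 : ((List.range 3).all fun j =>
    eqM (fixH.getD (j + 3) [] ++ [7] ++ iw11 (fixH.getD (j + 3) [])) [8]) = true := by decide +kernel

theorem fix_ok8 : ((List.range 3).all fun j =>
    eqM (fixH.getD j [] ++ [7]) ([7] ++ fixH.getD j [])) = true := by decide +kernel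

theorem fix_ok : fixOK = true := by
  unfold fixOK
  rw [fix_ok7, fix_ok8]
  decide +kernel

theorem orbit_ok : orbitOK = true := by decide +kernel

theorem tree18 : tree18OK = true := by decide +kernel

theorem comp_ok : compOK = true := by decide +kernel

theorem qc_ok : qcOK = true := by decide +kernel

theorem mod_s : modOK 5 bS = true := by decide +kernel

theorem mod_t : modOK 7 bT = true := by decide +kernel

theorem words_ok : (wordsOK ctWords && wordsOK csWords) = true := by decide +kernel

theorem list_s : listOK 5 bS (csWords.map keyRun) = true := by decide +kernel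

theorem list_t : listOK 7 bT (ctWords.map keyRun) = true := by decide +kernel

theorem all_take_drop {α : Type*} {l : List α} {p : α → Bool} (n : ℕ) (h1 : (l.take n).all p = true)
    (h2 : (l.drop n).all p = true) : l.all p = true := by
  rw [← List.take_append_drop n l, List.all_append, h1, h2]
  rfl

theorem treeK_append {pre base : List ℕ} {cons reps : List (List ℕ)} {t t' : List (ℕ × ℕ × List ℕ)}
    (h : treeK pre base cons reps t = true) (h' : treeK pre base cons reps t' = true) :
    treeK pre base cons reps (t ++ t') = true := by
  simp only [treeK, List.all_append, Bool.and_eq_true] at h h' ⊢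
  exact ⟨h.1, h.2, h'.2⟩

theorem q_tree_lo : treeK [] [2] cRepConj cRep (cTree.take 130) = true := by decide +kernel

theorem q_tree_mid : treeK [] [2] cRepConj cRep ((cTree.drop 130).take 65) = true := by decide +kernel

theorem q_tree_end : treeK [] [2] cRepConj cRep ((cTree.drop 130).drop 65) = true := by decide +kernel

theorem q_tree_hi : treeK [] [2] cRepConj cRep (cTree.drop 130) = true := by
  have h := treeK_append q_tree_mid q_tree_end
  rwa [List.take_append_drop] at h

theorem q_cover : coverOK [] cTree [0, 1] = true := by decide +kernel

theorem q_tree : (treeK [] [2] cRepConj cRep cTree && coverOK [] cTree [0, 1]) = true := by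
  have h := treeK_append q_tree_lo q_tree_hi
  rw [List.take_append_drop] at h
  rw [h, q_cover]
  rfl

theorem d_tree : (treeK [3] [3] dRepConj dRep dTree && coverOK [3] dTree []) = true := by decide +kernel

/-- one member of the coset -/
noncomputable def uCosetAt (k : ℕ) : Bool :=
  (qGWord k == qElts.getD k []) &&
    ([0, 2] ++ quWord k ++ qElts.getD k []).all (fun g => Nat.blt g 9) &&
    !Nat.beq (keyRun ([0, 2] ++ quWord k ++ qElts.getD k [])) (keyRun [])

theorem u_coset_lo : ((List.range 512).take 256).all uCosetAt = true := by decide +kernel

theorem u_coset_hi : ((List.range 512).drop 256).all uCosetAt = true := by decide +kernel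

theorem u_coset : uCosetOK = true := all_take_drop 256 u_coset_lo u_coset_hi

theorem qs_ok : qsOK = true := by decide +kernel

end CfsgLib.ThUnique
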