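import Cfsg.Agent.Lib.ThUnique.Tools
import Mathlib.GroupTheory.Perm.Centralizer

/-!
The action of the centraliser on nine points.
-/

set_option autoImplicit false
set_option linter.style.haveILetI false

namespace CfsgLib.ThUnique

open Cfsg.Spor CfsgLib.CosetEnum CfsgLib.ThPres Equiv.Perm

theorem toNine_inj : Function.Injective toNine := by
  haveI := card_PN_le.1
  have h : Function.Bijective toNine.rangeRestrict :=
    toNine.rangeRestrict_surjective.bijective_of_nat_card_le (by
      rw [toNine_range, nat_card_alternatingGroup, Nat.card_fin]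
      exact card_PN_le.2.trans (by decide +kernel))
  intro x y e
  exact h.1 (Subtype.ext e)

/-- the action on nine points -/
noncomputable def nine : centA →* Equiv.Perm (Fin 9) :=
  toNine.comp ((MulEquiv.ofBijective toQuot toQuot_bijective).symm.toMonoidHom.comp (QuotientGroup.mk' qCent))

theorem nine_eq_one {v : centA} : nine v = 1 ↔ v ∈ qCent := by
  rw [nine, MonoidHom.comp_apply, MonoidHom.comp_apply, ← map_one toNine, toNine_inj.eq_iff]
  simp

theorem nine_even (v : centA) : sign (nine v) = 1 := by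
  have h : nine v ∈ toNine.range := ⟨_, rfl⟩
  rw [toNine_range] at h
  exact h

theorem nine_surj {σ : Equiv.Perm (Fin 9)} (h : sign σ = 1) : ∃ v : centA, nine v = σ := by
  have hm : σ ∈ toNine.range := by rw [toNine_range]; exact h
  obtain ⟨x, rfl⟩ := hm
  obtain ⟨v, hv⟩ := QuotientGroup.mk'_surjective qCent (toQuot x)
  refine ⟨v, ?_⟩
  rw [nine, MonoidHom.comp_apply, MonoidHom.comp_apply, hv]
  congr 1
  exact (MulEquiv.ofBijective toQuot toQuot_bijective).symm_apply_apply x

/-- the index of a letter -/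
def cIdx (g : ℕ) : ℕ := if g = 0 then 0 else g - 1

theorem nine_gen {g : ℕ} (hg : inC [g] = true) : nine (cW [g]) = nineGen (cIdx g) := by
  have hg' : g < 11 ∧ g ≠ 1 := by
    simp only [inC, List.all_cons, List.all_nil, Bool.and_true, Bool.and_eq_true, Nat.blt_eq,
      Bool.not_eq_true'] at hg
    refine ⟨hg.1, fun e => ?_⟩
    rw [e] at hg
    simp at hg
  have hk : cIdx g < 10 ∧ nLet (cIdx g) = g := by
    obtain ⟨h1, h2⟩ := hg'
    interval_cases g <;> first | omega | decide
  have e : cW [g] = gA (cIdx g) := by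
    apply Subtype.ext
    rw [cW_coe hg, prodW_single, gA, dif_pos hk.1]
    exact (congrArg tg hk.2).symm
  rw [e, nine, MonoidHom.comp_apply, MonoidHom.comp_apply]
  have : (MulEquiv.ofBijective toQuot toQuot_bijective).symm.toMonoidHom
      (QuotientGroup.mk' qCent (gA (cIdx g))) = gN (cIdx g) := by
    rw [MulEquiv.coe_toMonoidHom, MulEquiv.symm_apply_eq]
    exact (toQuot_gen hk.1).symm
  rw [this, gN, dif_pos hk.1, toNine, PresentedGroup.toGroup.of]

theorem nine_word : ∀ {w : List ℕ}, inC w = true → nine (cW w) = prodW nineGen (w.map cIdx)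
  | [], _ => by simp [cW_nil]
  | g :: w, h => by
    have h1 : inC [g] = true := by
      simp only [inC, List.all_cons, List.all_nil, Bool.and_true, Bool.and_eq_true] at h ⊢
      exact h.1
    have h2 : inC w = true := by
      simp only [inC, List.all_cons, Bool.and_eq_true] at h
      exact h.2
    rw [show g :: w = [g] ++ w from rfl, cW_append h1 h2, map_mul, nine_gen h1, nine_word h2,
      List.map_append, prodW_append]
    simp

theorem invol_cases {σ : Equiv.Perm (Fin 9)} (h2 : σ ^ 2 = 1) (hs : sign σ = 1) (h1 : σ ≠ 1) :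
    σ.cycleType = Multiset.replicate 2 2 ∨ σ.cycleType = Multiset.replicate 4 2 := by
  haveI : Fact (Nat.Prime 2) := ⟨Nat.prime_two⟩
  have ho : orderOf σ = 2 := orderOf_eq_prime h2 h1
  obtain ⟨n, hn⟩ := cycleType_prime_order (σ := σ) (by rw [ho]; exact Nat.prime_two)
  rw [ho] at hn
  have hc : σ.cycleType.sum ≤ 9 := by
    rw [sum_cycleType]
    exact (Finset.card_le_univ _).trans (by simp)
  rw [hn, Multiset.sum_replicate, smul_eq_mul] at hc
  have hsg := sign_of_cycleType σ
  rw [hs, hn, Multiset.sum_replicate, smul_eq_mul, Multiset.card_replicate] at hsg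
  have hn3 : n < 4 := by omega
  interval_cases n
  · exact absurd hsg (by decide)
  · exact Or.inl hn
  · exact absurd hsg (by decide)
  · exact Or.inr hn

theorem conj_even {σ δ : Equiv.Perm (Fin 9)} (τ : Equiv.Perm (Fin 9)) (hτ : sign τ = -1)
    (hτδ : τ * δ = δ * τ) (h : σ.cycleType = δ.cycleType) :
    ∃ c : Equiv.Perm (Fin 9), sign c = 1 ∧ c * σ * c⁻¹ = δ := by
  obtain ⟨c, hc⟩ := isConj_iff.1 (isConj_iff_cycleType_eq.2 h)
  rcases Int.units_eq_one_or (sign c) with h1 | h1
  · exact ⟨c, h1, hc⟩
  · refine ⟨τ * c, by rw [map_mul, hτ, h1]; rfl, ?_⟩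
    rw [show τ * c * σ * (τ * c)⁻¹ = τ * (c * σ * c⁻¹) * τ⁻¹ by group, hc, hτδ, mul_inv_cancel_right]

/-- the images of d and u -/
noncomputable def dNine : Equiv.Perm (Fin 9) := nineGen 2

/-- the image of u -/
noncomputable def uNine : Equiv.Perm (Fin 9) := nineGen 8

theorem nine_vals : ((List.range 9).all fun i => Nat.beq (nineAt 2 i) ([1, 0, 2, 5, 6, 3, 4, 8, 7].getD i 0) &&
    Nat.beq (nineAt 8 i) ([0, 1, 2, 7, 5, 4, 6, 3, 8].getD i 0)) = true := by decide +kernel

/-- the same permutations by values -/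
def dPerm : Equiv.Perm (Fin 9) :=
  Equiv.swap 0 1 * Equiv.swap 3 5 * Equiv.swap 4 6 * Equiv.swap 7 8

/-- the same permutations by values -/
def uPerm : Equiv.Perm (Fin 9) := Equiv.swap 3 7 * Equiv.swap 4 5

theorem dNine_eq : dNine = dPerm ∧ uNine = uPerm := by
  have h := nine_vals
  simp only [List.all_eq_true, List.mem_range, Bool.and_eq_true] at h
  have vd : ∀ i : Fin 9, (dPerm i : ℕ) = [1, 0, 2, 5, 6, 3, 4, 8, 7].getD i 0 := by decide
  have vu : ∀ i : Fin 9, (uPerm i : ℕ) = [0, 1, 2, 7, 5, 4, 6, 3, 8].getD i 0 := by decide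
  constructor <;> refine Equiv.ext fun i => Fin.ext ?_
  · rw [vd i, ← Nat.eq_of_beq_eq_true (h i i.2).1, dNine, nineGen, dif_pos (by norm_num)]; rfl
  · rw [vu i, ← Nat.eq_of_beq_eq_true (h i i.2).2, uNine, nineGen, dif_pos (by norm_num)]; rfl

theorem du_types : dPerm.cycleType = Multiset.replicate 4 2 ∧ uPerm.cycleType = Multiset.replicate 2 2 := by
  have hd := invol_cases (σ := dPerm) (by decide) (by decide) (by decide)
  have hu := invol_cases (σ := uPerm) (by decide) (by decide) (by decide)
  have sd : dPerm.support.card = 8 := by decide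
  have su : uPerm.support.card = 4 := by decide
  constructor
  · rcases hd with h | h
    · rw [← sum_cycleType, h] at sd; simp at sd
    · exact h
  · rcases hu with h | h
    · exact h
    · rw [← sum_cycleType, h] at su; simp at su

/-- an even involution is conjugate to one of the two standard ones -/
theorem invol_conj {σ : Equiv.Perm (Fin 9)} (h2 : σ ^ 2 = 1) (hs : sign σ = 1) (h1 : σ ≠ 1) :
    ∃ c : Equiv.Perm (Fin 9), sign c = 1 ∧ (c * σ * c⁻¹ = dNine ∨ c * σ * c⁻¹ = uNine) := by
  rw [dNine_eq.1, dNine_eq.2]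
  rcases invol_cases h2 hs h1 with h | h
  · obtain ⟨c, hc, e⟩ := conj_even (σ := σ) (δ := uPerm) (Equiv.swap 3 7) (by decide) (by decide)
      (h.trans du_types.2.symm)
    exact ⟨c, hc, Or.inr e⟩
  · obtain ⟨c, hc, e⟩ := conj_even (σ := σ) (δ := dPerm) (Equiv.swap 0 1) (by decide) (by decide)
      (h.trans du_types.1.symm)
    exact ⟨c, hc, Or.inl e⟩

/-- an element of order seven does not commute with the image of d -/
theorem seven_d {σ : Equiv.Perm (Fin 9)} (h7 : σ ^ 7 = 1) (hc : σ * dNine = dNine * σ) : σ = 1 := by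
  rw [dNine_eq.1] at hc
  by_contra h1
  haveI : Fact (Nat.Prime 7) := ⟨by norm_num⟩
  have ho : orderOf σ = 7 := orderOf_eq_prime h7 h1
  obtain ⟨n, hn⟩ := cycleType_prime_order (σ := σ) (by rw [ho]; norm_num)
  rw [ho] at hn
  have hcard : σ.support.card = (n + 1) * 7 := by
    rw [← sum_cycleType, hn, Multiset.sum_replicate, smul_eq_mul]
  have hle : σ.support.card ≤ 9 := (Finset.card_le_univ _).trans (by simp)
  have hn0 : n = 0 := by omega
  subst hn0
  have happ : ∀ i, σ (dPerm i) = dPerm (σ i) := fun i => by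
    rw [← Equiv.Perm.mul_apply, hc, Equiv.Perm.mul_apply]
  have only2 : ∀ i : Fin 9, dPerm i = i → i = 2 := by decide
  have h22 : σ 2 = 2 := only2 _ (by rw [← happ]; congr 1)
  obtain ⟨j, hj, hj2⟩ : ∃ j : Fin 9, σ j = j ∧ j ≠ 2 := by
    by_contra hno
    push Not at hno
    have : (Finset.univ.erase (2 : Fin 9)) ⊆ σ.support := fun i hi =>
      Equiv.Perm.mem_support.2 fun e => (Finset.mem_erase.1 hi).1 (hno i e)
    have := Finset.card_le_card this
    simp at this
    omega
  have hdj : σ (dPerm j) = dPerm j := by rw [happ, hj]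
  have hsub : σ.support ⊆ ((Finset.univ.erase (2 : Fin 9)).erase j).erase (dPerm j) := fun i hi => by
    rw [Equiv.Perm.mem_support] at hi
    simp only [Finset.mem_erase, Finset.mem_univ, and_true]
    exact ⟨fun e => hi (e ▸ hdj), fun e => hi (e ▸ hj), fun e => hi (e ▸ h22)⟩
  have := Finset.card_le_card hsub
  have hne1 : dPerm j ≠ j := fun e => hj2 (only2 j e)
  have hne2 : dPerm j ≠ 2 := fun e => hj2 (dPerm.injective (e.trans (by decide)))
  rw [Finset.card_erase_of_mem (by simp [hne1, hne2]), Finset.card_erase_of_mem (by simp [hj2]),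
    Finset.card_erase_of_mem (Finset.mem_univ _), Finset.card_univ, Fintype.card_fin] at this
  omega

end CfsgLib.ThUnique
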