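import Cfsg.Agent.Lib.ThUnique.Shape
import Cfsg.Agent.Lib.ThUnique.Nine

/-!
Involutions of the centraliser of the first letter, and the centraliser of the two odd letters.
-/

set_option autoImplicit false
set_option linter.style.haveILetI false
set_option maxRecDepth 8000

namespace CfsgLib.ThUnique

open Cfsg.Spor CfsgLib.CosetEnum CfsgLib.ThPres CfsgLib.ThRep

attribute [local irreducible] qcIdx bWords qKey qElts certL ctWords csWords bS bT cTree dTree

theorem small_ne : (neK [2] [] && neK [2] [0]) = true := by decide +kernel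

theorem mem_q {v : Th} (h : v ∈ qTh) : ∃ k < 512, v = prodW tg (qElts.getD k []) := by
  obtain ⟨y, hy, rfl⟩ := h
  obtain ⟨k, hk, rfl⟩ := (mem_qGrp _).1 hy
  exact ⟨k, hk, toP_word (q_facts.2.2.2.2.2 k hk).1⟩

theorem q_word_mem {k : ℕ} (hk : k < 512) : prodW tg (qElts.getD k []) ∈ qTh :=
  ⟨qe k, qe_mem hk, toP_word (q_facts.2.2.2.2.2 k hk).1⟩

theorem cWq {w : List ℕ} (h : inC w = true) : cW w ∈ qCent ↔ prodW tg w ∈ qTh := by
  rw [qCent, Subgroup.mem_subgroupOf, cW_coe h]

theorem key_sq {w : List ℕ} (hw : ∀ g ∈ w, g < 9) (h : prodW tg w * prodW tg w = 1) :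
    Nat.beq (keyRun (w ++ w)) (keyRun []) = true := by
  have e : prodW pGen (w ++ w) = prodW pGen [] := toP_injective (by
    rw [prodW_append, map_mul, toP_word hw, h, prodW_nil, map_one])
  rw [key_of_eq (fun g hg => (List.mem_append.1 hg).elim (hw g) (hw g)) (by simp) e]
  exact Nat.beq_refl _

theorem tree_spec {pre base : List ℕ} {cons reps : List (List ℕ)} {tree : List (ℕ × ℕ × List ℕ)}
    {skip : List ℕ} (ht : treeK pre base cons reps tree = true) (hc : coverOK pre tree skip = true)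
    (hpre : ∀ g ∈ pre, g < 9) (hbase : inC base = true) {k : ℕ} (hk : k < 512) (hs : k ∉ skip)
    (h2 : prodW tg (pre ++ qElts.getD k []) * prodW tg (pre ++ qElts.getD k []) = 1) :
    ∃ h ∈ centA, prodW tg (pre ++ qElts.getD k []) = h⁻¹ * prodW tg base * h := by
  have hl : ∀ g ∈ pre ++ qElts.getD k [], g < 9 := fun g hg =>
    (List.mem_append.1 hg).elim (hpre g) ((q_facts.2.2.2.2.2 k hk).1 g)
  simp only [coverOK, List.all_eq_true, List.mem_range, Bool.or_eq_true, List.contains_iff_mem,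
    List.any_eq_true, Bool.not_eq_true'] at hc
  rcases hc k hk with (h | ⟨e, he, hek⟩) | h
  · exact absurd h hs
  · obtain rfl := Nat.eq_of_beq_eq_true hek
    simp only [treeK, Bool.and_eq_true, List.all_eq_true, List.mem_range, Nat.blt_eq] at ht
    obtain ⟨⟨⟨hlen, hcons⟩, hrep⟩, htree⟩ := ht
    obtain ⟨⟨⟨⟨-, hj⟩, hg1⟩, hg2⟩, heq⟩ := htree e he
    obtain ⟨hr, hr2⟩ := hrep _ hj
    have hcj : inC (cons.getD e.2.1 []) = true := by
      rw [List.getD_eq_getElem _ _ hj]
      exact (hcons _ (List.getElem_mem _)).1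
    refine ⟨prodW tg (cons.getD e.2.1 []) * prodW tg e.2.2, mul_mem (inC_mem hcj) (inC_mem hg1), ?_⟩
    have e1 := eqP_th heq
    rw [prodW_append (v := iw11 e.2.2 ++ _), prodW_append, prodW_iw11] at e1
    have e2 := eqM_th hr
    rw [prodW_append (v := iw11 _ ++ _), prodW_append, prodW_iw11] at e2
    rw [← e1, ← e2, mul_inv_rev]
    simp only [mul_assoc]
  · exfalso
    have := key_sq hl h2
    rw [← List.append_assoc] at this
    rw [this] at h
    exact Bool.noConfusion h

/-- involutions of the normal subgroup other than the central one are conjugate to c -/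
theorem q_class {v : Th} (hv : v ∈ qTh) (h2 : v * v = 1) (h1 : v ≠ 1) (ha : v ≠ tg 0) :
    ∃ h ∈ centA, v = h⁻¹ * tg 2 * h := by
  obtain ⟨k, hk, rfl⟩ := mem_q hv
  have hc := q_tree
  simp only [Bool.and_eq_true] at hc
  have hs : k ∉ [0, 1] := by
    obtain ⟨e0, e1⟩ := qe_zero
    simp only [List.mem_cons, List.not_mem_nil, or_false, not_or]
    constructor <;> rintro rfl
    · exact h1 (by rw [← toP_word (q_facts.2.2.2.2.2 0 (by norm_num)).1, ← qe, e0, map_one])
    · exact ha (by rw [← toP_word (q_facts.2.2.2.2.2 1 (by norm_num)).1, ← qe, e1, toP_gen (by norm_num)])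
  have := tree_spec hc.1 hc.2 (by simp) (by decide) hk hs (by simpa using h2)
  simpa using this

theorem prodW_flatMap {G : Type*} [Group G] (gen : ℕ → G) (F : ℕ → List ℕ) :
    ∀ l : List ℕ, prodW gen (l.flatMap F) = (l.map fun i => prodW gen (F i)).prod
  | [] => rfl
  | i :: l => by
    rw [List.flatMap_cons, prodW_append, prodW_flatMap gen F l, List.map_cons, List.prod_cons]

theorem qu_gen : ∀ j < 9, (tg 9)⁻¹ * prodW tg (qGens.getD j []) * tg 9 =
    prodW tg (qElts.getD (qConjU.getD j 0) []) := by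
  intro j hj
  obtain ⟨h9, -, -, -, hgl, h⟩ := q_facts
  have hu : qConjUOK j = true := by
    interval_cases j
    exacts [q_conjU0, q_conjU1, q_conjU2, q_conjU3, q_conjU4, q_conjU5, q_conjU6, q_conjU7, q_conjU8]
  simp only [qConjUOK, Bool.and_eq_true, Nat.blt_eq] at hu
  have hjl : j < qGens.length := h9.symm ▸ hj
  have hq : ∀ g ∈ qGens.getD j [], g < 9 := by
    rw [List.getD_eq_getElem _ _ hjl]; exact hgl _ (List.getElem_mem _)
  have e := eqM_th (l := [10] ++ qGens.getD j [] ++ [9]) (m := qElts.getD (qConjU.getD j 0) []) (by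
    simp only [eqM, Bool.and_eq_true, List.all_eq_true, Nat.blt_eq]
    refine ⟨⟨fun g hg => ?_, fun g hg => ((h _ hu.1).1 g hg).trans (by norm_num)⟩, hu.2⟩
    simp only [List.mem_append, List.mem_singleton] at hg
    rcases hg with (rfl | hg) | rfl
    · norm_num
    · exact (hq g hg).trans (by norm_num)
    · norm_num)
  rw [← e, prodW_append, prodW_append, prodW_single, prodW_single,
    show tg 10 = (tg 9)⁻¹ from eq_inv_of_mul_eq_one_right (tg_inv 9)]

/-- no involution lies in the coset of u -/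
theorem u_none {k : ℕ} (hk : k < 512) :
    (tg 9 * prodW tg (qElts.getD k [])) * (tg 9 * prodW tg (qElts.getD k [])) ≠ 1 := by
  intro h
  have hc := u_coset
  simp only [uCosetOK, List.all_eq_true, List.mem_range, Bool.and_eq_true, Bool.not_eq_true',
    beq_iff_eq, Nat.blt_eq] at hc
  obtain ⟨⟨hw, hl⟩, hne⟩ := hc k hk
  have hsq : tg 9 * tg 9 = prodW tg [0, 2] := u_sq
  have hconj : (tg 9)⁻¹ * prodW tg (qGWord k) * tg 9 = prodW tg (quWord k) := by
    rw [qGWord, quWord, prodW_flatMap, prodW_flatMap]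
    have key : ∀ l : List ℕ, (∀ i ∈ l, i < 9) →
        (tg 9)⁻¹ * (l.map fun i => prodW tg (if Nat.testBit k i then qGens.getD i [] else [])).prod * tg 9 =
        (l.map fun i => prodW tg (if Nat.testBit k i then qElts.getD (qConjU.getD i 0) [] else [])).prod := by
      intro l hl
      induction l with
      | nil => simp
      | cons i l ih =>
        rw [List.map_cons, List.prod_cons, List.map_cons, List.prod_cons,
          ← ih (fun c hc => hl c (List.mem_cons_of_mem _ hc))]
        split_ifs with hb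
        · rw [← qu_gen i (hl i List.mem_cons_self)]; group
        · simp
    exact key _ fun i hi => List.mem_range.1 hi
  rw [hw] at hconj
  have e : prodW tg ([0, 2] ++ quWord k ++ qElts.getD k []) = 1 := by
    rw [prodW_append, prodW_append, ← hsq, ← hconj, ← h]
    group
  have e' : prodW pGen ([0, 2] ++ quWord k ++ qElts.getD k []) = prodW pGen [] := toP_injective (by
    rw [toP_word hl, e, prodW_nil, map_one])
  rw [key_of_eq hl (by simp) e', show Nat.beq (keyRun []) (keyRun []) = true from Nat.beq_refl _] at hne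
  exact Bool.noConfusion hne

theorem nine_d : nine (cW [3]) = dNine ∧ nine (cW [9]) = uNine := by
  constructor <;> rw [nine_gen (by decide)] <;> rfl

/-- an involution outside the normal subgroup is conjugate to d -/
theorem d_class {v : Th} (hv : v ∈ centA) (h2 : v * v = 1) (hq : v ∉ qTh) :
    ∃ h ∈ centA, v = h⁻¹ * tg 3 * h := by
  let x : centA := ⟨v, hv⟩
  have hx2 : x ^ 2 = 1 := by rw [pow_two]; exact Subtype.ext h2
  have hσ1 : nine x ≠ 1 := fun h => hq (Subgroup.mem_subgroupOf.1 (nine_eq_one.1 h))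
  obtain ⟨c, hc, hcσ⟩ := invol_conj (by rw [← map_pow, hx2, map_one]) (nine_even x) hσ1
  obtain ⟨y, hy⟩ := nine_surj hc
  obtain ⟨x', hx'⟩ : ∃ x' : centA, x' = y * x * y⁻¹ := ⟨_, rfl⟩
  have hx'2 : x' * x' = 1 := by
    rw [hx', show y * x * y⁻¹ * (y * x * y⁻¹) = y * (x * x) * y⁻¹ by group, ← pow_two, hx2]; group
  have hx'v : (x' : Th) = (y : Th) * v * (y : Th)⁻¹ := by rw [hx']; rfl
  have split : ∀ g, inC [g] = true → nine x' = nine (cW [g]) →
      ∃ k < 512, (x' : Th) = tg g * prodW tg (qElts.getD k []) := fun g hg e => by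
    have hm : (cW [g])⁻¹ * x' ∈ qCent := nine_eq_one.1 (by rw [map_mul, map_inv, e, inv_mul_cancel])
    rw [qCent, Subgroup.mem_subgroupOf] at hm
    obtain ⟨k, hk, e'⟩ := mem_q hm
    refine ⟨k, hk, ?_⟩
    rw [← e', Subgroup.coe_mul, Subgroup.coe_inv, cW_coe hg, prodW_single, mul_inv_cancel_left]
  have hn : nine x' = c * nine x * c⁻¹ := by rw [hx', map_mul, map_mul, map_inv, hy]
  rcases hcσ with hd | hu
  · obtain ⟨k, hk, ek⟩ := split 3 (by decide) (by rw [hn, hd, nine_d.1])
    have hc2 := d_tree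
    simp only [Bool.and_eq_true] at hc2
    have hpw : (x' : Th) = prodW tg ([3] ++ qElts.getD k []) := by rw [ek, prodW_append, prodW_single]
    obtain ⟨h, hh, eh⟩ := tree_spec hc2.1 hc2.2 (by simp) (by decide) hk (by simp)
      (by rw [← hpw, ← Subgroup.coe_mul, hx'2]; rfl)
    rw [← hpw, prodW_single, hx'v] at eh
    refine ⟨h * (y : Th), mul_mem hh y.2, ?_⟩
    calc v = (y : Th)⁻¹ * ((y : Th) * v * (y : Th)⁻¹) * y := by group
      _ = _ := by rw [eh]; group
  · exfalso
    obtain ⟨k, hk, ek⟩ := split 9 (by decide) (by rw [hn, hu, nine_d.2])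
    exact u_none hk (by rw [← ek, ← Subgroup.coe_mul, hx'2]; rfl)

/-- no element of order seven commutes with d -/
theorem seven_d_none {v : Th} (hv : v ∈ centA) (h7 : v ^ 7 = 1) (hc : v * tg 3 = tg 3 * v) : v = 1 := by
  let x : centA := ⟨v, hv⟩
  have hx7 : x ^ 7 = 1 := Subtype.ext h7
  have hcx : x * cW [3] = cW [3] * x := Subtype.ext (by
    rw [Subgroup.coe_mul, Subgroup.coe_mul, cW_coe (by decide), prodW_single]; exact hc)
  have h1 : nine x = 1 := seven_d (by rw [← map_pow, hx7, map_one]) (by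
    rw [← nine_d.1, ← map_mul, ← map_mul, hcx])
  have hm : x ∈ qCent := nine_eq_one.1 h1
  haveI : Finite qCent := Nat.finite_of_card_ne_zero (by rw [card_qCent]; norm_num)
  have ho : orderOf (⟨x, hm⟩ : qCent) ∣ 512 := card_qCent ▸ orderOf_dvd_natCard _
  have h7' : orderOf (⟨x, hm⟩ : qCent) ∣ 7 := orderOf_dvd_iff_pow_eq_one.2 (Subtype.ext hx7)
  have := orderOf_eq_one_iff.1 (Nat.eq_one_of_dvd_coprimes (by norm_num) h7' ho)
  exact congrArg (fun z : qCent => ((z : centA) : Th)) this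

theorem st_checks : ((eqP [3, 2, 3, 2, 3, 2, 3] [0, 2] && eqP [3, 0, 3, 2, 3, 3] [0, 2]) &&
    (eqP [3, 7] [7, 3] && eqP [2, 7] [7, 2] && eqP [0, 7] [7, 0] && eqP [3, 5, 3] [6] && eqP [2, 5] [5, 2]) &&
    (ctWords.all fun w => (!Nat.beq (keyRun (w ++ [5])) (keyRun (6 :: w))) &&
      (!Nat.beq (keyRun (w ++ [5])) (keyRun (5 :: w)) ||
        [[], [0], [2], [0, 2]].any fun v => Nat.beq (keyRun w) (keyRun v)))) = true := by decide +kernel

/-- the eight elements of the dihedral group -/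
def dWords : List (List ℕ) :=
  [[], [0], [2], [0, 2], [3, 2, 3], [0, 3, 2, 3], [2, 3, 2, 3], [0, 2, 3, 2, 3]]

theorem dWords_mul : (dWords.all fun v => [[], [0], [2], [0, 2]].all fun w =>
    [[], [3, 2, 3]].all fun p => dWords.any fun r => eqP (p ++ w) r) = true := by decide +kernel

/-- the centraliser of the seventh-order and the third-order letter -/
theorem mem_st {g : Th} (hg : g ∈ centA) (hs : g * tg 5 = tg 5 * g) (ht : g * tg 7 = tg 7 * g) :
    ∃ w ∈ dWords, g = prodW tg w := by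
  have hchk := st_checks
  simp only [Bool.and_eq_true, List.all_eq_true, Bool.or_eq_true, Bool.not_eq_true', List.any_eq_true] at hchk
  obtain ⟨⟨⟨hx1, hx2⟩, ⟨⟨⟨⟨h37, h27⟩, h07⟩, hd5⟩, h25⟩⟩, hct⟩ := hchk
  have c0 : ∀ x ∈ cLet, tg x * tg 0 = tg 0 * tg x := fun x hx => tg_comm0 hx
  have t2 : tg 2 * tg 2 = 1 := tg_sq (by norm_num)
  have t3 : tg 3 * tg 3 = 1 := tg_sq (by norm_num)
  have d5 : tg 3 * tg 5 = tg 6 * tg 3 := by
    have e := eqP_th hd5
    simp only [prodW_cons, prodW_nil, mul_one] at e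
    calc tg 3 * tg 5 = tg 3 * (tg 5 * (tg 3 * tg 3)) := by rw [t3, mul_one]
      _ = _ := by simp only [← mul_assoc] at e ⊢; rw [e]
  have d7 : tg 3 * tg 7 = tg 7 * tg 3 := by simpa using eqP_th h37
  -- the image of c
  have hq2 : tg 2 ∈ qTh := ⟨prodW pGen [2], Subgroup.subset_closure ⟨[2], by decide, rfl⟩,
    by rw [toP_word (by simp)]; simp⟩
  have hvq : g * tg 2 * g⁻¹ ∈ qTh := (Subgroup.mem_normalizer_iff.1 (mem_normalizer_qTh hg) _).1 hq2
  obtain ⟨k, hk, ek⟩ := mem_q hvq
  have hvs : (g * tg 2 * g⁻¹) * tg 5 = tg 5 * (g * tg 2 * g⁻¹) := by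
    have h25' : tg 2 * tg 5 = tg 5 * tg 2 := by simpa using eqP_th h25
    exact ((Commute.mul_left hs h25').mul_left (Commute.inv_left hs)).eq
  have hv2 : (g * tg 2 * g⁻¹) * (g * tg 2 * g⁻¹) = 1 := by
    rw [show g * tg 2 * g⁻¹ * (g * tg 2 * g⁻¹) = g * (tg 2 * tg 2) * g⁻¹ by group, t2]; group
  have hkl := (q_facts.2.2.2.2.2 k hk).1
  have hq := qs_ok
  simp only [qsOK, List.all_eq_true, List.mem_range, Bool.or_eq_true, Bool.not_eq_true', List.any_eq_true] at hq
  have hne0 : tg 2 ≠ 1 ∧ tg 2 ≠ tg 0 := by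
    have h := small_ne
    simp only [Bool.and_eq_true] at h
    exact ⟨by simpa using neK_th h.1, by simpa using neK_th h.2⟩
  have cases : ∃ w ∈ [[2], [0, 2], [3, 2, 3], [0, 3, 2, 3]], g * tg 2 * g⁻¹ = prodW tg w := by
    rcases hq k hk with (((h | h) | h) | h) | ⟨w, hw, h⟩
    · exfalso
      rw [Nat.eq_of_beq_eq_true h, ← toP_word (q_facts.2.2.2.2.2 0 (by norm_num)).1, ← qe, qe_zero.1,
        map_one, conj_eq_one_iff] at ek
      exact hne0.1 ek
    · exfalso
      rw [Nat.eq_of_beq_eq_true h, ← toP_word (q_facts.2.2.2.2.2 1 (by norm_num)).1, ← qe, qe_zero.2,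
        toP_gen (by norm_num), mul_inv_eq_iff_eq_mul, ← (mem_centA' g).1 hg] at ek
      exact hne0.2 (mul_left_cancel ek)
    · exfalso
      have e : prodW pGen (qElts.getD k [] ++ [5]) = prodW pGen (5 :: qElts.getD k []) := toP_injective (by
        rw [prodW_append, prodW_single, prodW_cons, map_mul, map_mul, toP_word hkl, toP_gen (by norm_num), ← ek]
        exact hvs)
      rw [key_of_eq (fun c hc => (List.mem_append.1 hc).elim (hkl c) (by simp +contextual)) (fun c hc =>
        (List.mem_cons.1 hc).elim (by omega) (hkl c)) e, show Nat.beq _ _ = true from Nat.beq_refl _] at h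
      exact Bool.noConfusion h
    · exfalso
      rw [key_sq hkl (by rw [← ek]; exact hv2)] at h
      exact Bool.noConfusion h
    · refine ⟨w, hw, ?_⟩
      have hwl : ∀ c ∈ w, c < 9 := by
        simp only [List.mem_cons, List.not_mem_nil, or_false] at hw
        rcases hw with rfl | rfl | rfl | rfl <;> simp
      rw [ek, ← toP_word hkl, ← toP_word hwl, eq_of_key hkl hwl (Nat.eq_of_beq_eq_true h)]
  -- an element fixing c
  have fixc : ∀ h ∈ centA, h * tg 2 * h⁻¹ = tg 2 → h * tg 7 = tg 7 * h →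
      (h * tg 5 ≠ tg 6 * h) ∧ (h * tg 5 = tg 5 * h → ∃ w ∈ [[], [0], [2], [0, 2]], h = prodW tg w) := by
    intro h hh hc hht
    obtain ⟨w, hw, rfl⟩ := mem_ct hh (mul_inv_eq_iff_eq_mul.1 hc) hht
    obtain ⟨h1, h2⟩ := hct w hw
    have hwl : ∀ c ∈ w, c < 9 := by
      have hws := words_ok
      simp only [Bool.and_eq_true, wordsOK, List.all_eq_true, Nat.blt_eq] at hws
      exact (hws.1 w hw).1.1
    have kk : ∀ y, y < 9 → prodW tg w * tg 5 = tg y * prodW tg w →
        keyRun (w ++ [5]) = keyRun (y :: w) := fun y hy e =>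
      key_of_eq (fun c hc => (List.mem_append.1 hc).elim (hwl c) (by simp +contextual))
        (fun c hc => (List.mem_cons.1 hc).elim (fun e => e ▸ hy) (hwl c))
        (toP_injective (by
          rw [prodW_append, prodW_single, prodW_cons, map_mul, map_mul, toP_word hwl, toP_gen (by norm_num),
            toP_gen hy]
          exact e))
    refine ⟨fun e => ?_, fun e => ?_⟩
    · rw [kk 6 (by norm_num) e, show Nat.beq _ _ = true from Nat.beq_refl _] at h1
      exact Bool.noConfusion h1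
    · rcases h2 with h2 | ⟨v, hv, h2⟩
      · rw [kk 5 (by norm_num) e, show Nat.beq _ _ = true from Nat.beq_refl _] at h2
        exact Bool.noConfusion h2
      · refine ⟨v, hv, ?_⟩
        have hvl : ∀ c ∈ v, c < 9 := by
          simp only [List.mem_cons, List.not_mem_nil, or_false] at hv
          rcases hv with rfl | rfl | rfl | rfl <;> simp
        rw [← toP_word hwl, ← toP_word hvl, eq_of_key hwl hvl (Nat.eq_of_beq_eq_true h2)]
  have X5 : tg 3 * tg 2 * tg 3 * tg 5 = tg 5 * (tg 3 * tg 2 * tg 3) := by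
    have h25' : tg 2 * tg 5 = tg 5 * tg 2 := by simpa using eqP_th h25
    have d6 : tg 3 * tg 6 = tg 5 * tg 3 := by
      calc tg 3 * tg 6 = tg 3 * tg 6 * (tg 3 * tg 3) := by rw [t3, mul_one]
        _ = tg 3 * (tg 6 * tg 3) * tg 3 := by simp only [mul_assoc]
        _ = tg 3 * (tg 3 * tg 5) * tg 3 := by rw [d5]
        _ = _ := by rw [← mul_assoc (tg 3) (tg 3), t3, one_mul]
    have h26 : tg 2 * tg 6 = tg 6 * tg 2 := by
      rw [show tg 6 = (tg 5)⁻¹ from eq_inv_of_mul_eq_one_right (tg_inv 5)]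
      exact (Commute.inv_right h25').eq
    simp only [mul_assoc]
    rw [d5, ← mul_assoc (tg 2), h26, mul_assoc, ← mul_assoc (tg 3), d6, mul_assoc]
  have X7 : tg 3 * tg 2 * tg 3 * tg 7 = tg 7 * (tg 3 * tg 2 * tg 3) := by
    have h27' : tg 2 * tg 7 = tg 7 * tg 2 := by simpa using eqP_th h27
    exact ((Commute.mul_left d7 h27').mul_left d7).eq
  set X := tg 3 * tg 2 * tg 3 with hX
  have hXC : X ∈ centA := mul_mem (mul_mem (centC_le (tg_mem_centC (by decide)))
    (centC_le (tg_mem_centC (by decide)))) (centC_le (tg_mem_centC (by decide)))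
  have hXX : X * X = 1 := by
    rw [hX, show tg 3 * tg 2 * tg 3 * (tg 3 * tg 2 * tg 3) = tg 3 * tg 2 * (tg 3 * tg 3) * tg 2 * tg 3 by group,
      t3, mul_one, mul_assoc (tg 3), t2, mul_one, t3]
  have fin : ∀ p ∈ [[], [3, 2, 3]], ∀ w ∈ [[], [0], [2], [0, 2]],
      ∃ r ∈ dWords, prodW tg p * prodW tg w = prodW tg r := by
    intro p hp w hw
    have h := dWords_mul
    simp only [List.all_eq_true, List.any_eq_true] at h
    obtain ⟨r, hr, e⟩ := h [] (by decide) w hw p hp
    exact ⟨r, hr, by rw [← prodW_append, eqP_th e]⟩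
  obtain ⟨w, hw, ew⟩ := cases
  simp only [List.mem_cons, List.not_mem_nil, or_false] at hw
  rcases hw with rfl | rfl | rfl | rfl
  · obtain ⟨v, hv, e⟩ := (fixc g hg (by simpa using ew) ht).2 hs
    obtain ⟨r, hr, e'⟩ := fin [] (by simp) v hv
    exact ⟨r, hr, by rw [e, ← e']; simp⟩
  · have hc : X * g * tg 2 * (X * g)⁻¹ = tg 2 := by
      rw [show X * g * tg 2 * (X * g)⁻¹ = X * (g * tg 2 * g⁻¹) * X⁻¹ by group, ew, mul_inv_eq_iff_eq_mul]
      have e := eqP_th hx1
      simp only [prodW_cons, prodW_nil, mul_one] at e ⊢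
      calc X * (tg 0 * tg 2) = X * (X * (tg 2 * X)) := by rw [← e, hX]; simp only [mul_assoc]
        _ = _ := by rw [← mul_assoc X, hXX, one_mul]
    obtain ⟨v, hv, e⟩ := (fixc _ (mul_mem hXC hg) hc ((Commute.mul_left X7 ht).eq)).2
      ((Commute.mul_left X5 hs).eq)
    obtain ⟨r, hr, e'⟩ := fin [3, 2, 3] (by simp) v hv
    refine ⟨r, hr, ?_⟩
    rw [← e', ← e, show prodW tg [3, 2, 3] = X by rw [hX]; simp [mul_assoc], ← mul_assoc, hXX, one_mul]
  · exfalso
    have hc : tg 3 * g * tg 2 * (tg 3 * g)⁻¹ = tg 2 := by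
      rw [show tg 3 * g * tg 2 * (tg 3 * g)⁻¹ = tg 3 * (g * tg 2 * g⁻¹) * (tg 3)⁻¹ by group, ew]
      simp only [prodW_cons, prodW_nil, mul_one]
      rw [← mul_assoc (tg 3), t3, one_mul, mul_inv_cancel_right]
    refine (fixc _ (mul_mem (centC_le (tg_mem_centC (by decide))) hg) hc ((Commute.mul_left d7 ht).eq)).1 ?_
    rw [mul_assoc, hs, ← mul_assoc, d5, mul_assoc]
  · exfalso
    have hc : X * (tg 3 * g) * tg 2 * (X * (tg 3 * g))⁻¹ = tg 2 := by
      rw [show X * (tg 3 * g) * tg 2 * (X * (tg 3 * g))⁻¹ = X * (tg 3 * (g * tg 2 * g⁻¹) * (tg 3)⁻¹) * X⁻¹ by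
        group, ew, mul_inv_eq_iff_eq_mul]
      have e := eqP_th hx1
      simp only [prodW_cons, prodW_nil, mul_one] at e ⊢
      have c3 : tg 3 * tg 0 = tg 0 * tg 3 := c0 3 (by decide)
      rw [show (tg 3)⁻¹ = tg 3 from inv_eq_of_mul_eq_one_right t3]
      calc X * (tg 3 * (tg 0 * (tg 3 * (tg 2 * tg 3))) * tg 3)
          = X * (tg 0 * tg 2) := by
            simp only [← mul_assoc]
            rw [mul_assoc (X) (tg 3) (tg 0), c3, ← mul_assoc X]
            simp only [mul_assoc, t3, mul_one]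
        _ = X * (X * (tg 2 * X)) := by rw [← e, hX]; simp only [mul_assoc]
        _ = _ := by rw [← mul_assoc X, hXX, one_mul]
    refine (fixc _ (mul_mem hXC (mul_mem (centC_le (tg_mem_centC (by decide))) hg)) hc
      ((Commute.mul_left X7 (Commute.mul_left d7 ht)).eq)).1 ?_
    have X6 : X * tg 6 = tg 6 * X := by
      rw [show tg 6 = (tg 5)⁻¹ from eq_inv_of_mul_eq_one_right (tg_inv 5)]
      exact (Commute.inv_right (show Commute X (tg 5) from X5)).eq
    calc X * (tg 3 * g) * tg 5 = X * (tg 3 * (g * tg 5)) := by simp only [mul_assoc]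
      _ = X * (tg 6 * tg 3 * g) := by rw [hs, ← mul_assoc (tg 3), d5]
      _ = X * tg 6 * (tg 3 * g) := by simp only [mul_assoc]
      _ = _ := by rw [X6, mul_assoc]

end CfsgLib.ThUnique
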