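import Cfsg.Agent.Lib.ThUnique.Checks
import Cfsg.Agent.Lib.ThPres.Triality

/-!
Fixed cosets and the shape of centralisers inside the centraliser of the first letter.
-/

set_option autoImplicit false
set_option linter.style.haveILetI false

namespace CfsgLib.ThUnique

open Cfsg.Spor CfsgLib.CosetEnum CfsgLib.ThPres CfsgLib.ThRep

theorem h0 : toP (pGen 0) = tg 0 := toP_gen (by norm_num)

theorem mem_centA' (g : Th) : g ∈ centA ↔ g * tg 0 = tg 0 * g := by rw [mem_centA, h0]

theorem inRange_spec {w : List ℕ} (h : inRange w = true) : prodW tg w ∈ toP.range := by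
  simp only [inRange, Bool.and_eq_true, List.all_eq_true, List.contains_iff_mem] at h
  obtain ⟨hc, hrun⟩ := h
  have hlet : ∀ g, g ∈ lmC → lmC.findIdx (fun k => Nat.beq k g) < 10 ∧
      cGen (lmC.findIdx fun k => Nat.beq k g) = tg g := by
    intro g hg
    have hx : lmC.findIdx (fun k => Nat.beq k g) < lmC.length :=
      List.findIdx_lt_length.2 ⟨g, hg, by simp⟩
    refine ⟨hx, ?_⟩
    rw [cGen, if_pos (show _ < 10 from hx), List.getD_eq_getElem _ _ hx]
    exact congrArg tg (Nat.eq_of_beq_eq_true (List.findIdx_getElem (w := hx)))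
  have hK : certC.K = 10 := by decide +kernel
  have hmem : prodW cGen (toC w) ∈ toP.range := by
    refine mem_of_run_eq_zero certC_complete cModel (fun g hg => ?_) (Nat.eq_of_beq_eq_true hrun)
    obtain ⟨k, hk, rfl⟩ := List.mem_map.1 hg
    rw [hK]
    exact (hlet k (hc k hk)).1
  have e1 : prodW cGen (toC w) = prodW tg w := by
    rw [toC, prodW, List.map_map]
    exact congrArg List.prod (List.map_congr_left fun g hg => (hlet g (hc g hg)).2)
  rwa [e1] at hmem

theorem repK_mem (k : ℕ) (hk : k < 120) : prodW tg (repK k) ∈ centA :=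
  centC_le (word_mem_centC (reps_facts.2.1 k hk))

theorem tg_comm0 {x : ℕ} (hx : x ∈ cLet) : tg x * tg 0 = tg 0 * tg x :=
  (mem_centA' _).1 (centC_le (tg_mem_centC hx))

/-- an element commuting with a moved letter sits over a fixed representative -/
theorem fixed_rep {mv : List ℕ} {x : ℕ} {fix : List (ℕ × ℕ)} {hs : List (List ℕ)}
    (hm : moveOK mv x fix hs = true) (hhs : ∀ h ∈ hs, inC h = true) (hx : x < 9)
    {g : Th} (hg : g ∈ centA) (hgx : g * tg x = tg x * g) :
    ∃ j < hs.length, ∃ p ∈ Subgroup.centralizer ({pGen 0} : Set PT),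
      g = (prodW tg (hs.getD j []))⁻¹ * toP p := by
  obtain ⟨k, p, hp, hgk⟩ := centA_split g hg
  change g = (prodW tg (repK k))⁻¹ * toP p at hgk
  have hk := k.2
  simp only [moveOK, List.all_eq_true, List.mem_range, Bool.or_eq_true, Bool.and_eq_true, Nat.blt_eq,
    Bool.not_eq_true', List.any_eq_true] at hm
  rcases hm k hk with ⟨⟨hlt, hne⟩, hr⟩ | ⟨e, -, ⟨-, hj⟩, hr⟩
  · exfalso
    have h1 : prodW tg (repK k) * tg x * (prodW tg (repK k))⁻¹ = toP p * tg x * (toP p)⁻¹ := by
      have h := hgx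
      rw [hgk] at h
      calc prodW tg (repK k) * tg x * (prodW tg (repK k))⁻¹
          = prodW tg (repK k) * (tg x * ((prodW tg (repK k))⁻¹ * toP p)) * (toP p)⁻¹ := by group
        _ = prodW tg (repK k) * ((prodW tg (repK k))⁻¹ * toP p * tg x) * (toP p)⁻¹ := by rw [h]
        _ = _ := by group
    obtain ⟨y, hy⟩ := inRange_spec hr
    rw [prodW_append, prodW_append, prodW_single, prodW_iw11] at hy
    have e : prodW tg (repK k) * (prodW tg (repK (mv.getD k 0)))⁻¹ =
        toP (p * (pGen x)⁻¹ * p⁻¹ * y) := by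
      rw [map_mul, map_mul, map_mul, map_inv, map_inv, toP_gen hx, hy]
      calc prodW tg (repK k) * (prodW tg (repK (mv.getD k 0)))⁻¹
          = (prodW tg (repK k) * tg x * (prodW tg (repK k))⁻¹)⁻¹ *
              (prodW tg (repK k) * tg x * (prodW tg (repK (mv.getD k 0)))⁻¹) := by group
        _ = _ := by rw [h1]; group
    have := reps_facts.2.2 k hk _ hlt (QuotientGroup.eq.2 ⟨_, by rw [← e, inv_inv]; rfl⟩)
    rw [← this, show Nat.beq (k : ℕ) k = true from Nat.beq_refl _] at hne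
    exact Bool.noConfusion hne
  · obtain ⟨y, hy⟩ := inRange_spec hr
    rw [prodW_append, prodW_iw11] at hy
    have hH : prodW tg (hs.getD e.2 []) ∈ centA := by
      rw [List.getD_eq_getElem _ _ hj]
      exact inC_mem (hhs _ (List.getElem_mem _))
    refine ⟨e.2, hj, y⁻¹ * p, ?_, ?_⟩
    · have : toP y ∈ centA := by
        rw [hy]
        exact mul_mem (repK_mem k hk) (inv_mem hH)
      exact mul_mem (inv_mem (toP_cent.2 this)) hp
    · rw [hgk, map_mul, map_inv, hy]
      group

/-- the point centraliser -/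
abbrev PC : Subgroup PT := Subgroup.centralizer ({pGen 0} : Set PT)

theorem pGen_sq0 : pGen 0 * pGen 0 = 1 := pGen_inv 0

theorem chi_ne : pGen 7 ≠ pGen 8 ∧ ∀ p : PT, p * pGen 7 * p⁻¹ ≠ pGen 8 := by
  obtain ⟨χ, hχ, -⟩ := exists_chi
  have h8 : χ (pGen 8) = (χ (pGen 7))⁻¹ := by
    rw [eq_comm, inv_eq_iff_mul_eq_one, ← map_mul, show pGen 7 * pGen 8 = 1 from pGen_inv 7, map_one]
  have hne : Multiplicative.ofAdd (1 : ZMod 3) ≠ (Multiplicative.ofAdd (1 : ZMod 3))⁻¹ := by decide
  refine ⟨fun e => hne ?_, fun p e => hne ?_⟩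
  · rw [← hχ, ← h8, ← e]
  · rw [← hχ, ← h8, ← e, map_mul, map_mul, map_inv, mul_comm (χ p), mul_inv_cancel_right]

theorem fix_facts : fixH.length = 6 ∧ fixH.getD 0 [] = [] ∧ (∀ h ∈ fixH, inC h = true) ∧
    (∀ j < 3, ∀ p : PT, (prodW tg (fixH.getD (j + 3) []))⁻¹ * toP p * tg 7 ≠
      tg 7 * ((prodW tg (fixH.getD (j + 3) []))⁻¹ * toP p)) ∧
    (∀ j < 3, prodW tg (fixH.getD j []) * tg 7 = tg 7 * prodW tg (fixH.getD j [])) := by
  have h := fix_ok
  simp only [fixOK, Bool.and_eq_true, List.all_eq_true, List.mem_range, beq_iff_eq] at h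
  obtain ⟨⟨⟨⟨⟨h6, he⟩, hh⟩, hu⟩, hg⟩, -⟩ := h
  refine ⟨Nat.eq_of_beq_eq_true h6, he, fun w hw => (hh w hw).1, fun j hj p e => ?_, fun j hj => ?_⟩
  · have hc := eqM_th (hu j hj)
    rw [prodW_append, prodW_append, prodW_single, prodW_single, prodW_iw11] at hc
    set H := prodW tg (fixH.getD (j + 3) []) with hH
    refine chi_ne.2 p (toP_injective ?_)
    rw [map_mul, map_mul, map_inv, toP_gen (by norm_num), toP_gen (by norm_num), ← hc]
    calc toP p * tg 7 * (toP p)⁻¹ = H * (H⁻¹ * toP p * tg 7) * (toP p)⁻¹ := by group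
      _ = H * (tg 7 * (H⁻¹ * toP p)) * (toP p)⁻¹ := by rw [e]
      _ = _ := by group
  · have hc := eqM_th (hg j hj)
    rwa [prodW_append, prodW_append, prodW_single] at hc

/-- an element commuting with the seventh-order letter is in the point stabiliser -/
theorem comm_s {g : Th} (hg : g ∈ centA) (h : g * tg 5 = tg 5 * g) : ∃ p ∈ PC, g = toP p := by
  obtain ⟨j, hj, p, hp, e⟩ := fixed_rep move_s (by simp [inC]) (by norm_num) hg h
  rw [List.length_singleton] at hj
  obtain rfl : j = 0 := by omega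
  exact ⟨p, hp, by simpa using e⟩

/-- an element commuting with the third-order letter sits over one of three representatives -/
theorem comm_t {g : Th} (hg : g ∈ centA) (h : g * tg 7 = tg 7 * g) :
    ∃ j < 3, ∃ p ∈ PC, g = (prodW tg (fixH.getD j []))⁻¹ * toP p ∧ p * pGen 7 = pGen 7 * p := by
  obtain ⟨f6, -, fC, fu, fg⟩ := fix_facts
  obtain ⟨j, hj, p, hp, e⟩ := fixed_rep move_t fC (by norm_num) hg h
  rw [f6] at hj
  by_cases hj3 : j < 3
  · refine ⟨j, hj3, p, hp, e, toP_injective ?_⟩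
    rw [map_mul, map_mul, toP_gen (by norm_num)]
    set H := prodW tg (fixH.getD j []) with hH
    rw [e] at h
    calc toP p * tg 7 = H * (H⁻¹ * toP p * tg 7) := by group
      _ = H * tg 7 * (H⁻¹ * toP p) := by rw [h]; group
      _ = tg 7 * H * (H⁻¹ * toP p) := by rw [fg j hj3]
      _ = _ := by group
  · exfalso
    obtain ⟨i, rfl⟩ : ∃ i, j = i + 3 := ⟨j - 3, by omega⟩
    exact fu i (by omega) p (e ▸ h)

theorem card_PC : Nat.card PC = 774144 := card_centraliser

theorem closure_paLet : Subgroup.closure {x | ∃ g ∈ paLet, pGen g = x} = PC := by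
  haveI := finite_PT
  set K : Subgroup PT := Subgroup.closure {x | ∃ g ∈ paLet, pGen g = x} with hK
  have hle : K ≤ PC := by
    rw [hK, Subgroup.closure_le]
    rintro _ ⟨g, hg, rfl⟩
    rw [SetLike.mem_coe, toP_cent, toP_gen (by simp [paLet] at hg; omega)]
    exact centC_le (tg_mem_centC (by simp [paLet] at hg; simp [cLet]; omega))
  refine Subgroup.eq_of_le_of_card_ge hle (card_centraliser.le.trans ?_)
  rw [← pa_size]
  refine pAct.card_ge pa_cOK fun l hl g hg => ?_
  have hlet := pa_letters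
  simp only [List.all_eq_true, List.contains_iff_mem] at hlet
  have hmem : ∀ c ∈ g, c ∈ paLet := by
    intro c hc
    refine hlet g ?_ c hc
    simp only [paChain, List.mem_cons, List.not_mem_nil, or_false] at hl
    simp only [List.mem_append]
    rcases hl with rfl | rfl | rfl
    exacts [Or.inl (Or.inl hg), Or.inl (Or.inr hg), Or.inr hg]
  exact Subgroup.list_prod_mem _ fun y hy => by
    obtain ⟨c, hc, rfl⟩ := List.mem_map.1 hy
    exact Subgroup.subset_closure ⟨c, hmem c hc, rfl⟩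

/-- the orbit of c -/
def orbC : Set PT := {x | ∃ i < 18, qe (orb18.getD i 0) = x}

theorem orbit_facts : orb18.length = 18 ∧ (∀ i < 18, orb18.getD i 0 < 512) ∧
    (∀ i < 18, ∀ i' < 18, qe (orb18.getD i 0) = qe (orb18.getD i' 0) → i = i') ∧
    qe (orb18.getD 0 0) = pGen 2 ∧
    ∀ x ∈ orbC, ∀ p ∈ PC, p⁻¹ * x * p ∈ orbC := by
  have h := orbit_ok
  simp only [orbitOK, Bool.and_eq_true, List.all_eq_true, List.mem_range, Nat.blt_eq] at h
  obtain ⟨⟨⟨⟨hl, hd⟩, hlt⟩, h2⟩, hn⟩ := h
  have hl' := Nat.eq_of_beq_eq_true hl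
  have hlt' : ∀ i < 18, orb18.getD i 0 < 512 := fun i hi => by
    rw [List.getD_eq_getElem _ _ (hl'.symm ▸ hi)]
    exact hlt _ (List.getElem_mem _)
  refine ⟨hl', hlt', fun i hi i' hi' e => ?_, ?_, ?_⟩
  · have e' := qe_inj _ (hlt' i hi) _ (hlt' i' hi') e
    rw [List.getD_eq_getElem _ _ (hl'.symm ▸ hi), List.getD_eq_getElem _ _ (hl'.symm ▸ hi')] at e'
    exact (distinctB_spec hd).getElem_inj_iff.1 e'
  · rw [qe, eqP_pt h2, prodW_single]
  · have hgen : ∀ g ∈ paLet, ∀ x ∈ orbC, (pGen g)⁻¹ * x * pGen g ∈ orbC := by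
      rintro g hg _ ⟨i, hi, rfl⟩
      obtain ⟨j, hj, rfl⟩ := List.getElem_of_mem hg
      have hj8 : j < 8 := hj
      obtain ⟨hk, hv⟩ := hn i hi j hj8
      refine ⟨_, hk, ?_⟩
      have e := eqP_pt hv
      rw [List.getD_eq_getElem paLet _ hj] at e
      rw [List.cons_append, prodW_cons, prodW_append, prodW_single] at e
      rw [qe, ← e, qe, show pGen (inv11 paLet[j]) = (pGen paLet[j])⁻¹ from
        eq_inv_of_mul_eq_one_right (pGen_inv _)]
      simp only [mul_assoc]
      rfl
    haveI := finite_PT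
    intro x hx p hp
    rw [← closure_paLet] at hp
    have hfin : orbC.Finite := Set.toFinite _
    revert x
    induction hp using Subgroup.closure_induction with
    | mem y hy =>
      obtain ⟨g, hg, rfl⟩ := hy
      exact hgen g hg
    | one => intro x hx; simpa using hx
    | mul y z _ _ ihy ihz =>
      intro x hx
      have := ihz _ (ihy x hx)
      simpa [mul_assoc] using this
    | inv y _ ihy =>
      intro x hx
      let F : orbC → orbC := fun v => ⟨y⁻¹ * v * y, ihy v v.2⟩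
      have hF : Function.Injective F := fun u v e =>
        Subtype.ext (mul_left_cancel (mul_right_cancel (congrArg Subtype.val e)))
      haveI : Finite orbC := hfin.to_subtype
      obtain ⟨⟨v, hv⟩, e⟩ := (Finite.injective_iff_surjective.1 hF) ⟨x, hx⟩
      have e := congrArg Subtype.val e
      simp only [F] at e
      rw [← e]
      simpa [mul_assoc] using hv

theorem conj_c_orbit {p : PT} (hp : p ∈ PC) : p * pGen 2 * p⁻¹ ∈ orbC := by
  obtain ⟨-, -, -, h2, hclosed⟩ := orbit_facts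
  have := hclosed _ ⟨0, by norm_num, h2⟩ p⁻¹ (inv_mem hp)
  simpa using this

theorem not_moved {j : ℕ} (hj : j < 2) {p : PT} (hp : p ∈ PC) :
    toP p * tg 2 * (toP p)⁻¹ ≠
      prodW tg (fixH.getD (j + 1) []) * tg 2 * (prodW tg (fixH.getD (j + 1) []))⁻¹ := by
  have h := fix_ok
  simp only [fixOK, Bool.and_eq_true, List.all_eq_true, List.mem_range, Nat.blt_eq, Bool.not_eq_true'] at h
  obtain ⟨⟨hc, hk⟩, hn⟩ := h.2 j hj
  have e := eqM_th hc
  rw [prodW_append, prodW_append, prodW_single, prodW_iw11] at e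
  rw [e]
  intro e'
  obtain ⟨i, hi, ei⟩ := conj_c_orbit hp
  obtain ⟨hl, hlt, -⟩ := orbit_facts
  have : toP (qe (orb18.getD i 0)) = toP (qe (fixC.getD j 0)) := by
    rw [ei, map_mul, map_mul, map_inv, toP_gen (by norm_num), e', qe, toP_word (q_facts.2.2.2.2.2 _ hk).1]
  have e2 := qe_inj _ (hlt i hi) _ hk (toP_injective this)
  rw [← e2, List.getD_eq_getElem _ _ (hl.symm ▸ hi)] at hn
  simp [List.getElem_mem] at hn

/-- an element commuting with c and the third-order letter is in the point stabiliser -/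
theorem comm_ct {g : Th} (hg : g ∈ centA) (hc : g * tg 2 = tg 2 * g) (ht : g * tg 7 = tg 7 * g) :
    ∃ p ∈ PC, g = toP p := by
  obtain ⟨j, hj, p, hp, e, -⟩ := comm_t hg ht
  rcases j with _ | i
  · exact ⟨p, hp, by rw [e, fix_facts.2.1]; simp⟩
  · exfalso
    refine not_moved (j := i) (by omega) hp ?_
    set H := prodW tg (fixH.getD (i + 1) []) with hH
    rw [e] at hc
    calc toP p * tg 2 * (toP p)⁻¹ = H * (H⁻¹ * toP p * tg 2) * (toP p)⁻¹ := by group
      _ = _ := by rw [hc]; group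

/-- no element of order five commutes with the third-order letter -/
theorem five_t {f : Th} (hf : f ∈ centA) (h5 : f ^ 5 = 1) (ht : f * tg 7 = tg 7 * f) : f = 1 := by
  haveI := finite_PT
  by_contra hne
  have hpow : ∀ i : Fin 5, ∃ j : Fin 3, ∃ p ∈ PC,
      f ^ (i : ℕ) = (prodW tg (fixH.getD (j : ℕ) []))⁻¹ * toP p := fun i => by
    have hc : Commute (f ^ (i : ℕ)) (tg 7) := (Commute.pow_left ht _)
    obtain ⟨j, hj, p, hp, e, -⟩ := comm_t (pow_mem hf _) hc.eq
    exact ⟨⟨j, hj⟩, p, hp, e⟩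
  choose j p hp he using hpow
  obtain ⟨a, b, hab, e⟩ := Fintype.exists_ne_map_eq_of_card_lt j (by simp)
  have hdiff : ∀ a b : Fin 5, (a : ℕ) < b → j a = j b → False := by
    intro a b hlt e
    have hr : f ^ ((b : ℕ) - a) = toP ((p a)⁻¹ * p b) := by
      have e1 : f ^ (a : ℕ) * f ^ ((b : ℕ) - a) = f ^ (b : ℕ) := by
        rw [← pow_add, Nat.add_sub_cancel' hlt.le]
      rw [he a, he b, e] at e1
      rw [map_mul, map_inv]
      calc f ^ ((b : ℕ) - a) = (toP (p a))⁻¹ * (prodW tg (fixH.getD (j b : ℕ) []) *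
            ((prodW tg (fixH.getD (j b : ℕ) []))⁻¹ * toP (p a) * f ^ ((b : ℕ) - a))) := by group
        _ = _ := by rw [e1]; group
    set k := (b : ℕ) - a with hk
    have hk5 : 0 < k ∧ k < 5 := by omega
    set y := (p a)⁻¹ * p b with hy
    have hy5 : y ^ 5 = 1 := toP_injective (by rw [map_pow, map_one, ← hr, ← pow_mul, mul_comm, pow_mul, h5, one_pow])
    have hyC : y ∈ PC := mul_mem (inv_mem (hp a)) (hp b)
    have hy1 : y = 1 := by
      have h1 : orderOf (⟨y, hyC⟩ : PC) ∣ 5 := orderOf_dvd_iff_pow_eq_one.2 (Subtype.ext hy5)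
      have h2 : orderOf (⟨y, hyC⟩ : PC) ∣ 774144 := card_PC ▸ orderOf_dvd_natCard _
      have := Nat.eq_one_of_dvd_coprimes (by norm_num) h1 h2
      exact congrArg Subtype.val (orderOf_eq_one_iff.1 this)
    rw [hy1, map_one] at hr
    haveI : Fact (Nat.Prime 5) := ⟨by norm_num⟩
    have ho : orderOf f = 5 := orderOf_eq_prime h5 hne
    have := orderOf_dvd_iff_pow_eq_one.2 hr
    rw [ho] at this
    have := Nat.le_of_dvd hk5.1 this
    omega
  rcases lt_trichotomy (a : ℕ) b with h | h | h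
  · exact hdiff a b h e
  · exact hab (Fin.ext h)
  · exact hdiff b a h e.symm

end CfsgLib.ThUnique
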