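import Cfsg.Agent.Lib.ThUnique.Rels

/-!
The presented Thompson group embeds in a group with the given involution centraliser.
-/

set_option autoImplicit false
set_option linter.style.haveILetI false
set_option maxRecDepth 8000

namespace CfsgLib.ThUnique

open Cfsg Cfsg.Spor CfsgLib.CosetEnum CfsgLib.ThPres CfsgLib.ThRep

attribute [local irreducible] keyRun wordMat certL ctWords csWords wList

universe u

/-- relators with the second letter -/
def bList : List (List ℕ) :=
  bRels ++ [eightW, udwW, [10, 1, 2, 0, 1, 9, 1, 0, 2, 1, 4], [6, 1, 5, 1], [8, 1, 7, 1]]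

theorem rels_split : (relsTh.all fun r => inC r || bList.contains r) = true := by decide +kernel

variable {G : Type u} [Group G] {z : G}

namespace Setting

variable {S : Setting z} {w b : G}

theorem bList_g (hw : SwapData S w) (hb : BeeData S w b) : ∀ r ∈ bList, prodW (S.gL b) r = 1 := by
  intro r hr
  rw [bList, List.mem_append] at hr
  rcases hr with hr | hr
  · exact bRels_g hb r hr
  simp only [List.mem_cons, List.not_mem_nil, or_false] at hr
  obtain ⟨-, -, -, -, -, -, -, -, -, h6, h8⟩ := S.kc
  rcases hr with rfl | rfl | rfl | rfl | rfl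
  · exact eight_one hw hb
  · exact udw_one hw hb
  · rw [show [10, 1, 2, 0, 1, 9, 1, 0, 2, 1, 4] = [10] ++ [1, 2, 0, 1] ++ [9] ++ [1, 0, 2, 1] ++ [4] from rfl]
    simp only [prodW_append, (zc_word hb).1, (zc_word hb).2, gL_word S b (show inC [10] = true by decide),
      gL_word S b (show inC [9] = true by decide), gL_word S b (show inC [4] = true by decide), prodW_cons,
      prodW_nil, mul_one]
    have h10 : S.L 10 = (S.L 9)⁻¹ :=
      eq_inv_of_mul_eq_one_right (by
        simpa using S.eq_of_th (l := [9, 10]) (m := []) (by decide) (by decide)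
          (by simpa [inv11] using tg_inv 9))
    rw [h10, show (S.L 9)⁻¹ * w * S.L 9 * w * S.L 4 = (S.L 9)⁻¹ * (w * S.L 9 * w) * S.L 4 by group,
      hw.u_eq, ← mul_assoc, inv_mul_cancel, one_mul, S.kc.2.1]
  · simp only [prodW_cons, prodW_nil, mul_one, gL_one, gL_of S b (show inC [6] = true by decide),
      gL_of S b (show inC [5] = true by decide), h6]
    rw [show (S.L 5)⁻¹ * (b * (S.L 5 * b)) = (S.L 5)⁻¹ * (b * S.L 5) * b by group, hb.s_comm,
      inv_mul_cancel_left, hb.sq]
  · simp only [prodW_cons, prodW_nil, mul_one, gL_one, gL_of S b (show inC [8] = true by decide),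
      gL_of S b (show inC [7] = true by decide), h8]
    rw [show (S.L 7)⁻¹ * (b * (S.L 7 * b)) = (S.L 7)⁻¹ * (b * S.L 7) * b by group, hb.t_comm,
      inv_mul_cancel_left, hb.sq]

/-- the images of the generators -/
noncomputable def fTh (S : Setting z) (b : G) : Th.Gen → G
  | .a => S.gL b 0 | .b => S.gL b 1 | .c => S.gL b 2 | .d => S.gL b 3 | .e => S.gL b 4
  | .s => S.gL b 5 | .t => S.gL b 7 | .u => S.gL b 9

theorem lift_free16 (hb : BeeData S w b) (g : ℕ) :
    FreeGroup.lift (fTh S b) (free16 g) = S.gL b (base16 g) := by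
  by_cases h : g < 16
  · interval_cases g <;> simp [free16, base16, fTh, Th.a, Th.b, Th.c, Th.d, Th.e, Th.s, Th.t, Th.u]
    all_goals
      first
      | exact eq_inv_of_mul_eq_one_right (gL_inv hb _) |>.symm
      | exact inv_eq_of_mul_eq_one_right (gL_inv hb _)
  · obtain ⟨n, rfl⟩ : ∃ n, g = n + 16 := ⟨g - 16, by omega⟩
    simp [base16, free16, gL]

theorem canon_g (hb : BeeData S w b) : ∀ l : List ℕ, prodW (S.gL b) (canon l) = prodW (S.gL b) l
  | [] => rfl
  | g :: l => by
    have ih := canon_g hb l
    rw [canon]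
    cases hc : canon l with
    | nil => rw [hc, prodW_nil] at ih; rw [prodW_cons, prodW_cons, ← ih, prodW_nil]
    | cons k r =>
      rw [hc, prodW_cons] at ih
      simp only
      split
      · rename_i hk
        rw [prodW_cons, ← ih, Nat.eq_of_beq_eq_true hk, ← mul_assoc, gL_inv hb, one_mul]
      · rw [prodW_cons, prodW_cons, prodW_cons, ← ih]

theorem relators_g (hw : SwapData S w) (hb : BeeData S w b) :
    ∀ r ∈ coxRelators Th.edges ∪ {r | r ∈ Th.extra}, FreeGroup.lift (fTh S b) r = 1 := by
  intro r hr
  rcases hr with hr | hr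
  · obtain ⟨i, hi, -⟩ := hr
    simp [coxNodes, Th.edges] at hi
  · obtain ⟨f, hf, rfl⟩ := List.mem_map.1 (facFree_eq ▸ (hr : r ∈ Th.extra))
    have hmem : canon ((flat f).map base16) ∈ relsTh := List.mem_map_of_mem hf
    have e : FreeGroup.lift (fTh S b) (facFree f) = prodW (S.gL b) (canon ((flat f).map base16)) := by
      rw [canon_g hb, facFree, ← prodW_flat, map_prodW]
      simp only [prodW, List.map_map]
      exact congrArg List.prod (List.map_congr_left fun g _ => lift_free16 hb g)
    rw [e]
    have hs := rels_split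
    simp only [List.all_eq_true, Bool.or_eq_true, List.contains_iff_mem] at hs
    rcases hs _ hmem with h | h
    · rw [gL_word S b h]
      simpa using S.eq_of_th h (m := []) (by decide) (by simpa using relTh_one _ hmem)
    · exact bList_g hw hb _ h

/-- the map from the presented group -/
noncomputable def emb (hw : SwapData S w) (hb : BeeData S w b) : Th →* G :=
  PresentedGroup.toGroup (f := fTh S b) (rels := coxRelators Th.edges ∪ {r | r ∈ Th.extra}) (relators_g hw hb)

theorem emb_tg (hw : SwapData S w) (hb : BeeData S w b) {g : ℕ} (h : g < 11) :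
    emb hw hb (tg g) = S.gL b g := by
  rw [tg_mk h]
  show FreeGroup.lift (fTh S b) (free16 g) = _
  rw [lift_free16 hb, base16, if_pos h]

theorem emb_cent (hw : SwapData S w) (hb : BeeData S w b) (v : centA) :
    emb hw hb (v : Th) = S.ι v := by
  have key : ∀ x ∈ centC, ∃ v : centA, (v : Th) = x ∧ emb hw hb x = S.ι v := by
    intro x hx
    induction hx using Subgroup.closure_induction with
    | mem y hy =>
      obtain ⟨g, hg, rfl⟩ := hy
      have hin : inC [g] = true ∧ g < 11 := by
        simp only [cLet, List.mem_cons, List.not_mem_nil, or_false] at hg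
        rcases hg with rfl | rfl | rfl | rfl | rfl | rfl | rfl | rfl | rfl | rfl <;> exact ⟨by decide, by decide⟩
      exact ⟨cW [g], cW1 hin.1, by rw [emb_tg hw hb hin.2, gL_of S b hin.1]; rfl⟩
    | one => exact ⟨1, rfl, by rw [_root_.map_one, _root_.map_one]⟩
    | mul y y' _ _ h h' =>
      obtain ⟨v, rfl, e⟩ := h
      obtain ⟨v', rfl, e'⟩ := h'
      exact ⟨v * v', rfl, by rw [_root_.map_mul, _root_.map_mul, e, e']⟩
    | inv y _ h =>
      obtain ⟨v, rfl, e⟩ := h
      exact ⟨v⁻¹, rfl, by rw [_root_.map_inv, _root_.map_inv, e]⟩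
  obtain ⟨v', e, e'⟩ := key v (centA_eq.le v.2)
  rw [e', show v' = v from Subtype.ext e]

/-- the presented group embeds, with the whole centraliser in the image -/
theorem exists_embedding [Finite G] (S : Setting z) : ∃ f : Th →* G, Function.Injective f ∧
    f (tg 0) = z ∧ Subgroup.centralizer ({z} : Set G) ≤ f.range := by
  obtain ⟨w, b, hw, hb⟩ := S.exists_bee
  have h0 : emb hw hb (tg 0) = z := by
    rw [emb_tg hw hb (by norm_num), gL_of S b (by decide), S.L_zero]
  refine ⟨emb hw hb, ?_, h0, fun y hy => ?_⟩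
  · haveI := simple_Th
    rw [← MonoidHom.ker_eq_bot_iff]
    refine (emb hw hb).normal_ker.eq_bot_or_eq_top.resolve_right fun h => S.z_ne ?_
    rw [← h0]
    exact MonoidHom.mem_ker.1 (h ▸ Subgroup.mem_top _)
  · rw [← S.range] at hy
    obtain ⟨v, rfl⟩ := hy
    exact ⟨v, emb_cent hw hb v⟩

end Setting

end CfsgLib.ThUnique
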