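import Cfsg.Agent.Lib.ThPres.CentQuot
import Cfsg.Agent.Lib.ThPres.Simple

/-!
Deciding equations between words in the centraliser of the first letter.
-/

set_option autoImplicit false

namespace CfsgLib.ThUnique

open Cfsg.Spor CfsgLib.CosetEnum CfsgLib.ThPres CfsgLib.ThRep

/-- two words in the letters of the point stabiliser have the same key -/
noncomputable def eqP (l m : List ℕ) : Bool :=
  (l.all fun g => Nat.blt g 9) && (m.all fun g => Nat.blt g 9) && Nat.beq (keyRun l) (keyRun m)

theorem eqP_pt {l m : List ℕ} (h : eqP l m = true) : prodW pGen l = prodW pGen m := by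
  simp only [eqP, Bool.and_eq_true, List.all_eq_true, Nat.blt_eq] at h
  exact eq_of_key h.1.1 h.1.2 (Nat.eq_of_beq_eq_true h.2)

theorem eqP_th {l m : List ℕ} (h : eqP l m = true) : prodW tg l = prodW tg m := by
  have e := congrArg toP (eqP_pt h)
  simp only [eqP, Bool.and_eq_true, List.all_eq_true, Nat.blt_eq] at h
  rwa [toP_word h.1.1, toP_word h.1.2] at e

theorem eqP_ne {l m : List ℕ} (hl : (l.all fun g => Nat.blt g 9) = true)
    (hm : (m.all fun g => Nat.blt g 9) = true) (h : Nat.beq (keyRun l) (keyRun m) = false) :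
    prodW tg l ≠ prodW tg m := by
  simp only [List.all_eq_true, Nat.blt_eq] at hl hm
  intro e
  rw [← toP_word hl, ← toP_word hm] at e
  rw [key_of_eq hl hm (toP_injective e)] at h
  simp at h

/-- two words in the letters of the point stabiliser have different keys -/
noncomputable def neK (l m : List ℕ) : Bool :=
  (l.all fun g => Nat.blt g 9) && (m.all fun g => Nat.blt g 9) && !Nat.beq (keyRun l) (keyRun m)

theorem neK_th {l m : List ℕ} (h : neK l m = true) : prodW tg l ≠ prodW tg m := by
  simp only [neK, Bool.and_eq_true, Bool.not_eq_true'] at h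
  exact eqP_ne h.1.1 h.1.2 h.2

/-- two words have the same matrix -/
noncomputable def eqM (l m : List ℕ) : Bool :=
  (l.all fun g => Nat.blt g 11) && (m.all fun g => Nat.blt g 11) && Nat.beq (wordMat l) (wordMat m)

theorem eqM_th {l m : List ℕ} (h : eqM l m = true) : prodW tg l = prodW tg m := by
  simp only [eqM, Bool.and_eq_true, List.all_eq_true, Nat.blt_eq] at h
  refine rho_injective0 (Units.ext ?_)
  rw [(rho_word h.1.1).2, (rho_word h.1.2).2, Nat.eq_of_beq_eq_true h.2]

/-- two words have different matrices -/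
noncomputable def neM (l m : List ℕ) : Bool :=
  (l.all fun g => Nat.blt g 11) && (m.all fun g => Nat.blt g 11) && !Nat.beq (wordMat l) (wordMat m)

theorem neM_th {l m : List ℕ} (h : neM l m = true) : prodW tg l ≠ prodW tg m := by
  simp only [neM, Bool.and_eq_true, List.all_eq_true, Nat.blt_eq, Bool.not_eq_true'] at h
  intro e
  obtain ⟨g1, e1⟩ := wordMat_spec l
  obtain ⟨g2, e2⟩ := wordMat_spec m
  have hm : toMat 248 (wordMat l) = toMat 248 (wordMat m) := by
    rw [← (rho_word h.1.1).2, ← (rho_word h.1.2).2, e]
  rw [toMat_inj g1 g2 hm] at h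
  simp at h

/-- only letters of the centraliser -/
noncomputable def inC (l : List ℕ) : Bool := l.all fun g => Nat.blt g 11 && !Nat.beq g 1

theorem inC_mem {l : List ℕ} (h : inC l = true) : prodW tg l ∈ centA := by
  rw [centA_eq]
  refine word_mem_centC fun g hg => ?_
  simp only [inC, List.all_eq_true, Bool.and_eq_true, Nat.blt_eq, Bool.not_eq_true'] at h
  obtain ⟨h1, h2⟩ := h g hg
  have h2' : g ≠ 1 := fun e => by subst e; simp at h2
  simp only [cLet, List.mem_cons, List.not_mem_nil, or_false]
  omega

/-- the element of the centraliser named by a word -/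
noncomputable def cW (l : List ℕ) : centA := if h : inC l = true then ⟨prodW tg l, inC_mem h⟩ else 1

theorem cW_coe {l : List ℕ} (h : inC l = true) : (cW l : Th) = prodW tg l := by
  rw [cW, dif_pos h]

theorem cW1 {g : ℕ} (h : inC [g] = true) : (cW [g] : Th) = tg g := by
  rw [cW_coe h]
  simp

theorem inC_append {l m : List ℕ} : inC (l ++ m) = (inC l && inC m) := by
  simp [inC, List.all_append]

theorem cW_append {l m : List ℕ} (hl : inC l = true) (hm : inC m = true) :
    cW (l ++ m) = cW l * cW m := by
  apply Subtype.ext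
  rw [Subgroup.coe_mul, cW_coe hl, cW_coe hm, cW_coe (by rw [inC_append, hl, hm]; rfl), prodW_append]

theorem cW_eq {l m : List ℕ} (hl : inC l = true) (hm : inC m = true)
    (h : prodW tg l = prodW tg m) : cW l = cW m := by
  apply Subtype.ext
  rw [cW_coe hl, cW_coe hm, h]

theorem cW_nil : cW [] = 1 := by
  apply Subtype.ext
  rw [cW_coe rfl]
  rfl

theorem cW_single_inv {g h : ℕ} (hg : inC [g] = true) (hh : inC [h] = true) (e : inv11 g = h) :
    cW [h] = (cW [g])⁻¹ := by
  refine eq_inv_of_mul_eq_one_right ?_
  apply Subtype.ext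
  rw [Subgroup.coe_mul, cW_coe hg, cW_coe hh, prodW_single, prodW_single, ← e]
  exact tg_inv g

theorem cW_iw {l : List ℕ} (hl : inC l = true) (hl' : inC (iw11 l) = true) :
    cW (iw11 l) = (cW l)⁻¹ := by
  apply Subtype.ext
  rw [Subgroup.coe_inv, cW_coe hl, cW_coe hl', prodW_iw11]

end CfsgLib.ThUnique
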