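import Cfsg.Agent.Lib.ThPres.Invar
import Cfsg.Agent.Lib.ThUnique.Tools
import Cfsg.Agent.Lib.ThUnique.FixA19
import Cfsg.Agent.Lib.ThUnique.FixB19
import Cfsg.Agent.Lib.ThUnique.FixC19
import Cfsg.Agent.Lib.ThUnique.FixA31
import Cfsg.Agent.Lib.ThUnique.FixB31
import Cfsg.Agent.Lib.ThUnique.FixC31

/-!
Kernel checks of the fixed spaces of elements of orders 19 and 31.
-/

set_option autoImplicit false
set_option maxRecDepth 8000
set_option Elab.async false

namespace CfsgLib.ThUnique

open Cfsg.Spor CfsgLib.CosetEnum CfsgLib.ThPres CfsgLib.ThRep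

/-- a word of order nineteen -/
def w19 : List ℕ := [1, 7, 6, 4, 10, 3]

/-- a word of order thirty-one -/
def w31 : List ℕ := [6, 10, 5, 3, 8, 1, 4, 9, 7, 6, 1, 5, 7, 9]

/-- the fixed space of a matrix is spanned by some rows -/
noncomputable def fixRowsOK (w : List ℕ) (o r A B C : ℕ) : Bool :=
  strict (wordMat w) fun X =>
    goodB A && (goodB B && (goodB C && (Nat.blt C (2 ^ (2480 * r)) &&
      (Nat.beq (powMat X o) oneP && (!Nat.beq X oneP &&
        Nat.beq (addP 1 (mulP (addP 2 oneP X) A) (mulP B C)) oneP)))))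

/-- the rows are independent fixed rows -/
noncomputable def spanOK (w : List ℕ) (r B C : ℕ) : Bool :=
  Nat.beq (mulP C (wordMat w)) C &&
    strict (mulP C B) fun P => (List.range r).all fun i => (List.range r).all fun j =>
      Nat.beq (lane P (248 * i + j)) (bif Nat.beq i j then 1 else 0)

theorem fix19_ok : fixRowsOK w19 19 14 fixA19 fixB19 fixC19 = true := by decide +kernel

theorem span19_ok : spanOK w19 14 fixB19 fixC19 = true := by decide +kernel

/-- the thirty-first power by repeated squaring -/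
noncomputable def pow31 (A : ℕ) : ℕ :=
  strict (mulP A A) fun B => strict (mulP B B) fun C => strict (mulP C C) fun D => strict (mulP D D) fun E =>
    mulP (mulP E D) (mulP C (mulP B A))

theorem pow31_sq : Nat.beq (pow31 (wordMat w31)) oneP = true := by decide +kernel

theorem pow31_ok : Nat.beq (powMat (wordMat w31) 31) oneP = true := by
  obtain ⟨gA, eA⟩ := wordMat_spec w31
  obtain ⟨gP, eP⟩ := powMat_spec gA eA 31
  obtain ⟨gB, eB⟩ := mulP_spec gA gA
  obtain ⟨gC, eC⟩ := mulP_spec gB gB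
  obtain ⟨gD, eD⟩ := mulP_spec gC gC
  obtain ⟨gE, eE⟩ := mulP_spec gD gD
  obtain ⟨g1, e1⟩ := mulP_spec gE gD
  obtain ⟨g2, e2⟩ := mulP_spec gB gA
  obtain ⟨g3, e3⟩ := mulP_spec gC g2
  obtain ⟨g4, e4⟩ := mulP_spec g1 g3
  have h := Nat.eq_of_beq_eq_true pow31_sq
  simp only [pow31, strict_eq] at h
  have key : powMat (wordMat w31) 31 = oneP := by
    rw [← h]
    refine toMat_inj gP g4 ?_
    rw [← eP, Units.val_pow_eq_pow_val, e4, e1, e3, e2, eE, eD, eC, eB, eA]
    simp only [← pow_succ, ← pow_succ', ← pow_add, ← pow_two, ← pow_mul]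
    norm_num
  rw [key]
  exact Nat.beq_refl _

theorem rows31_ok : Nat.beq (addP 1 (mulP (addP 2 oneP (wordMat w31)) fixA31) (mulP fixB31 fixC31)) oneP = true := by
  decide +kernel

theorem ne31_ok : (!Nat.beq (wordMat w31) oneP) = true := by decide +kernel

theorem good31_ok : (goodB fixA31 && (goodB fixB31 && (goodB fixC31 && Nat.blt fixC31 (2 ^ (2480 * 8))))) = true := by
  decide +kernel

theorem fix31_ok : fixRowsOK w31 31 8 fixA31 fixB31 fixC31 = true := by
  have h := good31_ok
  simp only [fixRowsOK, strict_eq, Bool.and_eq_true] at h ⊢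
  exact ⟨h.1, h.2.1, h.2.2.1, h.2.2.2, pow31_ok, ne31_ok, rows31_ok⟩

end CfsgLib.ThUnique
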