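import Cfsg.Agent.Lib.ThUnique.OfCent
import Cfsg.Agent.Lib.Transfer.Basic
import Cfsg.Prelude.Def_CaseTheorems
import Cfsg.Prelude.Def_Sporadic

/-!
Conclusions from the data of an isomorphism of centralisers.
-/

set_option autoImplicit false
set_option linter.style.haveILetI false

namespace CfsgLib.ThUnique

open Cfsg.Spor CfsgLib.ThPres

universe u

variable {G : Type u} [Group G] [Finite G]

/-- the conclusions, from an isomorphism with fusion into the normal subgroup -/
theorem facts_of_cent {t : G} (ht : orderOf t = 2)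
    {Q : Subgroup (Subgroup.centralizer ({t} : Set G))}
    (h : ∃ φ : ↥centA ≃* ↥(Subgroup.centralizer ({t} : Set G)),
      (∀ x : ↥centA, (x : Th) = toP (pGen 0) → (φ x : G) = t) ∧ Q = qCent.map φ.toMonoidHom ∧
      ∃ w : ↥(Subgroup.centralizer ({t} : Set G)), w ∈ Q ∧ (w : G) ≠ t ∧ IsConj t (w : G)) :
    IsSimpleGroup G ∧ Nat.card G = 90745943887872000 ∧
      (∀ x y : G, orderOf x = 2 → orderOf y = 2 → IsConj x y) ∧ Cfsg.Spor.IsoTh G := by
  obtain ⟨φ, h0, rfl, w, hw, hne, hconj⟩ := h
  obtain ⟨v, hv, rfl⟩ := hw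
  exact (exists_setting ht φ h0 ⟨v, hv, hne, hconj⟩).some.facts

/-- in a simple group the centraliser and the odd core do not cover everything -/
theorem not_covered [IsSimpleGroup G] {t : G} (ht : orderOf t = 2)
    {Q : Subgroup (Subgroup.centralizer ({t} : Set G))} (hcard : Nat.card Q = 2 ^ 9) :
    Subgroup.centralizer ({t} : Set G) ⊔ Cfsg.oddCore G ≠ ⊤ := by
  intro h
  have h2 : 2 ∣ Nat.card G := ht ▸ orderOf_dvd_natCard t
  haveI hn : (Cfsg.oddCore G).Normal := CfsgLib.Transfer.pPrimeCore_normal 2 G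
  rcases hn.eq_bot_or_eq_top with hO | hO
  · rw [hO, sup_bot_eq] at h
    haveI : (Subgroup.zpowers t).Normal := by
      refine ⟨fun x hx g => ?_⟩
      obtain ⟨k, rfl⟩ := hx
      have hg : g ∈ Subgroup.centralizer ({t} : Set G) := h ▸ Subgroup.mem_top g
      have hc : Commute g t := Subgroup.mem_centralizer_singleton_iff.1 hg
      rw [(hc.zpow_right k).eq, mul_inv_cancel_right]
      exact ⟨k, rfl⟩
    rcases Subgroup.Normal.eq_bot_or_eq_top (H := Subgroup.zpowers t) inferInstance with h' | h'
    · rw [Subgroup.zpowers_eq_bot] at h'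
      rw [h', orderOf_one] at ht
      norm_num at ht
    · have hc2 : Nat.card G = 2 := by
        rw [← Subgroup.card_top (G := G), ← h', Nat.card_zpowers, ht]
      have h512 : 2 ^ 9 ∣ Nat.card G := hcard ▸
        (Subgroup.card_subgroup_dvd_card Q).trans (Subgroup.card_subgroup_dvd_card _)
      rw [hc2] at h512
      norm_num at h512
  · have hcop := CfsgLib.Transfer.pPrimeCore_coprime (G := G) 2
    have e : Nat.card (Cfsg.oddCore G) = Nat.card G := by rw [hO, Subgroup.card_top]
    change Nat.Coprime (Nat.card (Cfsg.oddCore G)) 2 at hcop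
    rw [e] at hcop
    exact absurd (Nat.eq_one_of_dvd_coprimes hcop h2 dvd_rfl) (by norm_num)

end CfsgLib.ThUnique
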