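import Cfsg.Agent.Lib.ThUnique.Swap

/-!
Checks for the common centraliser of the two odd letters.
-/

set_option autoImplicit false
set_option maxRecDepth 8000
set_option Elab.async false

namespace CfsgLib.ThUnique

open Cfsg.Spor CfsgLib.CosetEnum CfsgLib.ThPres CfsgLib.ThRep

attribute [local irreducible] ctWords csWords

theorem k_checks : (eqP [3, 3] [] && eqP [4, 4] [] && eqP [3, 4, 3, 4, 3, 4] [] && eqP [3, 5, 3] [6] &&
    eqP [3, 7] [7, 3] && eqP [4, 7] [7, 4] && eqP [2, 5] [5, 2] && eqP [2, 7] [7, 2] && eqP [4, 2] [2, 4] &&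
    eqP [3, 2, 3, 2, 3, 2, 3] [0, 2] && eqP [4, 6, 4, 5] [6, 6, 6, 4, 5, 5, 5] &&
    eqP ([3, 2, 3] ++ eMinus) (eMinus ++ [3, 2, 3]) &&
    eqP [5, 6] [] && eqP [7, 8] [] &&
    neK [0] [] && neK [4] [] && inC eMinus) = true := by decide +kernel

theorem d_checks : (dWords.all fun l => inC l && (dWords.all fun m => l == m || neK l m) &&
    (neK (l ++ [3, 2, 3]) ([3, 2, 3] ++ l) || eqP l [] || eqP l [0] || eqP l [3, 2, 3] ||
      eqP l [0, 3, 2, 3]) &&
    (neK (l ++ l) [] || eqP (l ++ [2]) ([2] ++ l) || eqP l [3, 2, 3] || eqP l [0, 3, 2, 3])) = true := by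
  decide +kernel

theorem m_check1 : eqM ([3, 4, 10, 3, 4] ++ ([2] ++ qW ++ [9])) ([2] ++ [3, 4, 10, 3, 4]) = true := by
  decide +kernel

theorem m_check2 : eqM ([3, 4, 10, 3, 4] ++ [7]) ([8] ++ [3, 4, 10, 3, 4]) = true := by decide +kernel

theorem m_check3 : eqM ([0] ++ q1W ++ [9, 4]) [3, 2, 3, 4, 3, 2, 3] = true := by decide +kernel

end CfsgLib.ThUnique
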