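import Mathlib

/-!
Coded models of the two small simple groups with a dihedral involution centraliser, and of the
symmetric groups of degree four and five.
-/

set_option autoImplicit false
set_option maxRecDepth 20000
set_option Elab.async false

namespace CfsgLib.ThUnique.Small

/-- a coded model -/
structure Coded where
  /-- product -/
  mul : ℕ → ℕ → ℕ
  /-- identity -/
  one : ℕ
  /-- involutions -/
  invs : List ℕ

/-- a faithful coding of a group -/
structure Coding (K : Type*) [Group K] (M : Coded) where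
  /-- code -/
  enc : K → ℕ
  inj : Function.Injective enc
  map_mul : ∀ g h, enc (g * h) = M.mul (enc g) (enc h)
  map_one : enc 1 = M.one
  inv_mem : ∀ g, g * g = 1 → g ≠ 1 → enc g ∈ M.invs

/-- three-fold power is trivial -/
def Coded.cube (M : Coded) (g : ℕ) : Bool := M.mul (M.mul g g) g == M.one

/-- involutions with both products of order three -/
def Coded.bset (M : Coded) (a q : ℕ) : List ℕ :=
  M.invs.filter fun y => M.cube (M.mul a y) && M.cube (M.mul q y)

/-- the configuration -/
def Coded.tri (M : Coded) (a c x : ℕ) : Bool :=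
  a != c && a != x && M.mul a c == M.mul c a && M.mul a x == M.mul x a && M.mul c x != M.mul x c

/-- seventh power -/
def Coded.seven (M : Coded) (g : ℕ) : Bool :=
  M.mul (M.mul (M.mul (M.mul (M.mul (M.mul g g) g) g) g) g) g == M.one

/-- the facts of the simple group of order 168 -/
def Coded.lineFacts (M : Coded) : Bool :=
  M.invs.all fun a => M.invs.all fun c => M.invs.all fun x => !M.tri a c x ||
    (Nat.ble (M.bset a c).length 4 &&
      (M.bset a c).any fun p => M.cube (M.mul x p) &&
        (M.bset a c).all fun q => !M.cube (M.mul x q) ||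
          ((q == p || q == M.mul (M.mul a p) a) && M.seven (M.mul (M.mul q c) x)))

/-- a word -/
def Coded.word (M : Coded) (g : List ℕ) (w : List ℕ) : ℕ :=
  w.foldl (fun r i => M.mul r (g.getD i M.one)) M.one

/-- separating words -/
def sepWords : List (List ℕ) :=
  [[0, 3, 2, 3], [0, 1, 4, 3, 2], [1, 2, 3, 4, 1, 2, 4], [1, 2, 3, 1, 2, 3, 4]]

/-- fifth power -/
def Coded.five (M : Coded) (g : ℕ) : Bool := M.mul (M.mul (M.mul (M.mul g g) g) g) g == M.one

/-- no exchanging map without a fixed element of order five -/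
def Coded.sixFactsAt (M : Coded) (a : ℕ) : Bool :=
  M.invs.all fun c => M.invs.all fun x => !M.tri a c x ||
    (M.bset a c).all fun y => (M.bset a x).all fun z => sepWords.any fun w =>
      ((M.word [a, c, x, y, z] w == M.one) != (M.word [a, x, c, z, y] w == M.one)) ||
      (M.word [a, c, x, y, z] w != M.one && M.word [a, c, x, y, z] w == M.word [a, x, c, z, y] w &&
        M.five (M.word [a, c, x, y, z] w))

/-- matrices of degree three: images of the basis vectors as numbers -/
def act3 (n i : ℕ) : ℕ :=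
  ((if i.testBit 0 then n % 8 else 0) ^^^ (if i.testBit 1 then n / 8 % 8 else 0)) ^^^
    (if i.testBit 2 then n / 64 else 0)

/-- product -/
def mul3 (n m : ℕ) : ℕ := act3 n (m % 8) + 8 * act3 n (m / 8 % 8) + 64 * act3 n (m / 64)

/-- invertible with square one and not the identity -/
def line : Coded where
  mul := mul3
  one := 1 + 16 + 256
  invs := (List.range 512).filter fun n => mul3 n n == 273 && n != 273

/-- permutations of six points as numbers -/
def mul6 (n m : ℕ) : ℕ :=
  let ap := fun i => n / 6 ^ (m / 6 ^ i % 6) % 6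
  ap 0 + 6 * (ap 1 + 6 * (ap 2 + 6 * (ap 3 + 6 * (ap 4 + 6 * ap 5))))

/-- even permutations of six points -/
def six : Coded where
  mul := mul6
  one := 0 + 6 * (1 + 6 * (2 + 6 * (3 + 6 * (4 + 6 * 5))))
  invs := [2045, 3395, 4835, 5495, 5735, 5885, 8530, 11190, 12630, 13065, 13530, 13640, 16390, 17700, 20490, 20925, 21150, 21565, 24490, 25800, 27150, 29600, 29640, 29665, 37665, 37890, 38130, 38240, 38280, 38305, 39190, 39430, 39580, 40275, 40740, 40850, 41625, 41850, 42265, 43640, 43680, 43705, 44115, 44300, 44605]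

theorem line_facts : line.lineFacts = true := by decide +kernel

theorem six_facts0 : (((six.invs.drop 0).take 9).all six.sixFactsAt) = true := by decide +kernel

theorem six_facts1 : (((six.invs.drop 9).take 9).all six.sixFactsAt) = true := by decide +kernel

theorem six_facts2 : (((six.invs.drop 18).take 9).all six.sixFactsAt) = true := by decide +kernel

theorem six_facts3 : (((six.invs.drop 27).take 9).all six.sixFactsAt) = true := by decide +kernel

theorem six_facts4 : (((six.invs.drop 36).take 9).all six.sixFactsAt) = true := by decide +kernel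

theorem six_facts : (six.invs.all six.sixFactsAt) = true := by
  have e : six.invs = (six.invs.drop 0).take 9 ++ (six.invs.drop 9).take 9 ++ (six.invs.drop 18).take 9 ++
      (six.invs.drop 27).take 9 ++ (six.invs.drop 36).take 9 := by decide +kernel
  rw [e, List.all_append, List.all_append, List.all_append, List.all_append, six_facts0, six_facts1,
    six_facts2, six_facts3, six_facts4]
  rfl

/-- code of a permutation of six points -/
def enc6 (σ : Equiv.Perm (Fin 6)) : ℕ :=
  (σ 0).val + 6 * ((σ 1).val + 6 * ((σ 2).val + 6 * ((σ 3).val + 6 * ((σ 4).val + 6 * (σ 5).val))))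

theorem digits (a b c d e f : ℕ) (ha : a < 6) (hb : b < 6) (hc : c < 6) (hd : d < 6) (he : e < 6) (hf : f < 6) :
    let n := a + 6 * (b + 6 * (c + 6 * (d + 6 * (e + 6 * f))))
    n / 6 ^ 0 % 6 = a ∧ n / 6 ^ 1 % 6 = b ∧ n / 6 ^ 2 % 6 = c ∧ n / 6 ^ 3 % 6 = d ∧ n / 6 ^ 4 % 6 = e ∧
      n / 6 ^ 5 % 6 = f := by
  intro n
  simp only [n]
  norm_num
  omega

theorem enc6_digit (σ : Equiv.Perm (Fin 6)) (i : Fin 6) : enc6 σ / 6 ^ i.val % 6 = (σ i).val := by
  obtain ⟨d0, d1, d2, d3, d4, d5⟩ := digits _ _ _ _ _ _ (σ 0).isLt (σ 1).isLt (σ 2).isLt (σ 3).isLt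
    (σ 4).isLt (σ 5).isLt
  obtain ⟨i, hi⟩ := i
  interval_cases i
  exacts [d0, d1, d2, d3, d4, d5]

theorem enc6_mul (σ τ : Equiv.Perm (Fin 6)) : enc6 (σ * τ) = mul6 (enc6 σ) (enc6 τ) := by
  have hd : ∀ i : Fin 6, enc6 σ / 6 ^ (enc6 τ / 6 ^ i.val % 6) % 6 = ((σ * τ) i).val := fun i => by
    rw [enc6_digit τ i, enc6_digit σ (τ i)]
    rfl
  have e0 := hd 0
  have e1 := hd 1
  have e2 := hd 2
  have e3 := hd 3
  have e4 := hd 4
  have e5 := hd 5
  simp only [Fin.val_zero, Fin.val_one, Fin.val_two, show ((3 : Fin 6) : ℕ) = 3 from rfl,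
    show ((4 : Fin 6) : ℕ) = 4 from rfl, show ((5 : Fin 6) : ℕ) = 5 from rfl] at e0 e1 e2 e3 e4 e5
  simp only [mul6, e0, e1, e2, e3, e4, e5]
  rfl

theorem six_invs : ∀ σ : Equiv.Perm (Fin 6), σ * σ = 1 → Equiv.Perm.sign σ = 1 → σ ≠ 1 →
    enc6 σ ∈ six.invs := by
  decide +kernel

/-- coding of the alternating group of degree six -/
def sixCoding : Coding (alternatingGroup (Fin 6)) six where
  enc g := enc6 g.1
  inj g h e := by
    refine Subtype.ext (Equiv.ext fun i => Fin.ext ?_)
    rw [← enc6_digit g.1 i, ← enc6_digit h.1 i]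
    exact congrArg (fun n => n / 6 ^ i.val % 6) e
  map_mul g h := enc6_mul g.1 h.1
  map_one := rfl
  inv_mem g h1 h2 := six_invs g.1 (congrArg Subtype.val h1) g.2 fun e => h2 (Subtype.ext e)

/-- a vector as a number -/
def vcode (v : Fin 3 → ZMod 2) : ℕ := (v 0).val + 2 * (v 1).val + 4 * (v 2).val

/-- code of a matrix of degree three -/
def enc3 (A : Matrix.SpecialLinearGroup (Fin 3) (ZMod 2)) : ℕ :=
  vcode (fun i => A.1 i 0) + 8 * vcode (fun i => A.1 i 1) + 64 * vcode (fun i => A.1 i 2)

theorem act_comb : ∀ v0 v1 v2 : Fin 3 → ZMod 2, ∀ b : Fin 3 → ZMod 2,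
    act3 (vcode v0 + 8 * vcode v1 + 64 * vcode v2) (vcode b) =
      vcode (fun i => v0 i * b 0 + v1 i * b 1 + v2 i * b 2) := by
  decide +kernel

theorem vcode_inj : Function.Injective vcode := by decide +kernel

theorem vcode_lt : ∀ v : Fin 3 → ZMod 2, vcode v < 8 := by decide +kernel

theorem enc3_mul (A B : Matrix.SpecialLinearGroup (Fin 3) (ZMod 2)) :
    enc3 (A * B) = mul3 (enc3 A) (enc3 B) := by
  have h0 := vcode_lt fun i => B.1 i 0
  have h1 := vcode_lt fun i => B.1 i 1
  have h2 := vcode_lt fun i => B.1 i 2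
  have d0 : enc3 B % 8 = vcode fun i => B.1 i 0 := by simp only [enc3]; omega
  have d1 : enc3 B / 8 % 8 = vcode fun i => B.1 i 1 := by simp only [enc3]; omega
  have d2 : enc3 B / 64 = vcode fun i => B.1 i 2 := by simp only [enc3]; omega
  rw [mul3, d0, d1, d2]
  simp only [enc3, act_comb]
  simp only [Matrix.SpecialLinearGroup.coe_mul, Matrix.mul_apply, Fin.sum_univ_three]

/-- coding of the simple group of order 168 -/
def lineCoding : Coding (Matrix.SpecialLinearGroup (Fin 3) (ZMod 2)) line where
  enc := enc3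
  inj A B e := by
    have h0 := vcode_lt fun i => A.1 i 0
    have h1 := vcode_lt fun i => A.1 i 1
    have h2 := vcode_lt fun i => A.1 i 2
    have g0 := vcode_lt fun i => B.1 i 0
    have g1 := vcode_lt fun i => B.1 i 1
    have g2 := vcode_lt fun i => B.1 i 2
    simp only [enc3] at e
    have e0 := congrFun (vcode_inj (a₁ := fun i => A.1 i 0) (a₂ := fun i => B.1 i 0) (by omega))
    have e1 := congrFun (vcode_inj (a₁ := fun i => A.1 i 1) (a₂ := fun i => B.1 i 1) (by omega))
    have e2 := congrFun (vcode_inj (a₁ := fun i => A.1 i 2) (a₂ := fun i => B.1 i 2) (by omega))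
    refine Subtype.ext (Matrix.ext fun i j => ?_)
    fin_cases j
    exacts [e0 i, e1 i, e2 i]
  map_mul := enc3_mul
  map_one := by decide +kernel
  inv_mem g h1 h2 := by
    have hn : enc3 g < 512 := by
      have := vcode_lt fun i => g.1 i 0
      have := vcode_lt fun i => g.1 i 1
      have := vcode_lt fun i => g.1 i 2
      simp only [enc3]; omega
    have e1 : enc3 (1 : Matrix.SpecialLinearGroup (Fin 3) (ZMod 2)) = 273 := by decide +kernel
    simp only [line, List.mem_filter, List.mem_range, Bool.and_eq_true, beq_iff_eq, bne_iff_ne]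
    refine ⟨hn, by rw [← enc3_mul, h1, e1], fun e => h2 ?_⟩
    have hB := e.trans e1.symm
    have g0 := vcode_lt fun i => g.1 i 0
    have g1 := vcode_lt fun i => g.1 i 1
    have g2 := vcode_lt fun i => g.1 i 2
    have o0 := vcode_lt fun i => (1 : Matrix.SpecialLinearGroup (Fin 3) (ZMod 2)).1 i 0
    have o1 := vcode_lt fun i => (1 : Matrix.SpecialLinearGroup (Fin 3) (ZMod 2)).1 i 1
    have o2 := vcode_lt fun i => (1 : Matrix.SpecialLinearGroup (Fin 3) (ZMod 2)).1 i 2
    simp only [enc3] at hB
    have f0 := congrFun (vcode_inj (a₁ := fun i => g.1 i 0) (a₂ := fun i => (1 : Matrix.SpecialLinearGroup (Fin 3) (ZMod 2)).1 i 0) (by omega))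
    have f1 := congrFun (vcode_inj (a₁ := fun i => g.1 i 1) (a₂ := fun i => (1 : Matrix.SpecialLinearGroup (Fin 3) (ZMod 2)).1 i 1) (by omega))
    have f2 := congrFun (vcode_inj (a₁ := fun i => g.1 i 2) (a₂ := fun i => (1 : Matrix.SpecialLinearGroup (Fin 3) (ZMod 2)).1 i 2) (by omega))
    refine Subtype.ext (Matrix.ext fun i j => ?_)
    fin_cases j
    exacts [f0 i, f1 i, f2 i]

set_option synthInstance.maxSize 4000 in
set_option maxSynthPendingDepth 8 in
theorem sym_four : ∀ a c x : Equiv.Perm (Fin 4), a * a = 1 → c * c = 1 → x * x = 1 → a ≠ 1 →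
    Equiv.Perm.sign a = 1 → Equiv.Perm.sign c = 1 → Equiv.Perm.sign x = 1 →
    a * c = c * a → a * x = x * a → c * x = x * c := by
  decide +kernel

set_option synthInstance.maxSize 4000 in
set_option maxSynthPendingDepth 8 in
theorem sym_five : ∀ a : Equiv.Perm (Fin 5), a * a = 1 → a ≠ 1 → Equiv.Perm.sign a = 1 →
    ∀ c : Equiv.Perm (Fin 5), c * c = 1 → Equiv.Perm.sign c = 1 → a * c = c * a →
    ∀ x : Equiv.Perm (Fin 5), x * x = 1 → Equiv.Perm.sign x = 1 → a * x = x * a → c * x = x * c := by
  decide +kernel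

end CfsgLib.ThUnique.Small
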