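import Cfsg.Agent.Lib.ThUnique.KChecks
import Cfsg.Agent.Lib.ThUnique.SmallModels
import Cfsg.Agent.Lib.Fusion.SplitExtraspecial
import Cfsg.Agent.Lib.Transfer.Basic
import Cfsg.Agent.S3035

/-!
The common centraliser of the two odd letters and the element playing the part of the second letter.
-/

set_option autoImplicit false
set_option linter.style.haveILetI false
set_option maxRecDepth 8000

namespace CfsgLib.ThUnique

open Cfsg.Spor CfsgLib.CosetEnum CfsgLib.ThPres CfsgLib.ThRep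

attribute [local irreducible] keyRun wordMat certL ctWords csWords

universe u

variable {G : Type u} [Group G] {z : G}

theorem conj_comm {x y : G} (k : G) (h : Commute x y) : Commute (k * x * k⁻¹) (k * y * k⁻¹) :=
  h.map (MulAut.conj k).toMonoidHom

theorem cube_conj {x : G} (k : G) (h : x * x * x = 1) :
    k * x * k⁻¹ * (k * x * k⁻¹) * (k * x * k⁻¹) = 1 := by
  rw [show k * x * k⁻¹ * (k * x * k⁻¹) * (k * x * k⁻¹) = k * (x * x * x) * k⁻¹ by group, h]
  group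

theorem inv2 {x : G} (h : x * x = 1) : x⁻¹ = x := inv_eq_of_mul_eq_one_right h

theorem swap_comm {a b x : G} (ha : a * a = 1) (h : a * b * a = x) : a * x * a = b := by
  rw [← h, show a * (a * b * a) * a = (a * a) * b * (a * a) by group, ha, one_mul, mul_one]

theorem comm_of_sand {a b : G} (ha : a * a = 1) (h : a * b * a = b) : Commute a b := by
  show a * b = b * a
  calc a * b = a * b * (a * a) := by rw [ha, mul_one]
    _ = b * a := by rw [← mul_assoc, h]

theorem sand_of_comm {a b : G} (ha : a * a = 1) (h : Commute a b) : a * b * a = b := by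
  rw [h.eq, mul_assoc, ha, mul_one]

/-- what is known on the element playing the part of the second letter -/
structure BeeData (S : Setting z) (w b : G) : Prop where
  sq : b * b = 1
  s_comm : b * S.L 5 = S.L 5 * b
  t_comm : b * S.L 7 = S.L 7 * b
  d_comm : b * S.L 3 = S.L 3 * b
  e_comm : b * S.L 4 = S.L 4 * b
  zb : z * b * (z * b) * (z * b) = 1
  cb : S.L 2 * b * (S.L 2 * b) * (S.L 2 * b) = 1
  u_eq : b * (z * S.L 2) * b = w
  seven : (b * S.L 2 * (S.L 3 * S.L 2 * S.L 3)) ^ 7 = 1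

namespace Setting

variable (S : Setting z)

/-- the common centraliser of the odd letters -/
def K : Subgroup G := Subgroup.centralizer ({S.L 5} : Set G) ⊓ Subgroup.centralizer ({S.L 7} : Set G)

theorem mem_K {g : G} : g ∈ S.K ↔ Commute g (S.L 5) ∧ Commute g (S.L 7) := by
  rw [K, Subgroup.mem_inf, Subgroup.mem_centralizer_singleton_iff, Subgroup.mem_centralizer_singleton_iff]
  exact Iff.rfl

/-- the conjugate of c under d -/
noncomputable def X : G := S.L 3 * S.L 2 * S.L 3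

theorem X_word : prodW S.L [3, 2, 3] = S.X := by simp [X, mul_assoc]

theorem kc : S.L 3 * S.L 3 = 1 ∧ S.L 4 * S.L 4 = 1 ∧
    S.L 3 * S.L 4 * S.L 3 * S.L 4 * S.L 3 * S.L 4 = 1 ∧ S.L 3 * S.L 5 * S.L 3 = (S.L 5)⁻¹ ∧
    Commute (S.L 3) (S.L 7) ∧ Commute (S.L 4) (S.L 7) ∧ Commute (S.L 2) (S.L 5) ∧
    Commute (S.L 2) (S.L 7) ∧ Commute (S.L 4) (S.L 2) ∧ S.L 6 = (S.L 5)⁻¹ ∧ S.L 8 = (S.L 7)⁻¹ := by
  have h := k_checks
  simp only [Bool.and_eq_true] at h
  have r : ∀ {l m : List ℕ}, inC l = true → inC m = true → eqP l m = true →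
      prodW S.L l = prodW S.L m := fun hl hm e => S.eq_of_th hl hm (eqP_th e)
  obtain ⟨⟨⟨⟨⟨⟨⟨⟨⟨⟨⟨⟨⟨⟨⟨⟨h1, h2⟩, h3⟩, h4⟩, h5⟩, h6⟩, h7⟩, h8⟩, h9⟩, -⟩, -⟩, -⟩, h56⟩, h78⟩, -⟩, -⟩, -⟩ := h
  have e6 : S.L 6 = (S.L 5)⁻¹ := eq_inv_of_mul_eq_one_right (by simpa using r (by decide) (by decide) h56)
  refine ⟨by simpa using r (by decide) (by decide) h1, by simpa using r (by decide) (by decide) h2,
    by simpa [mul_assoc] using r (by decide) (by decide) h3, ?_, ?_, ?_, ?_, ?_, ?_, e6,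
    eq_inv_of_mul_eq_one_right (by simpa using r (by decide) (by decide) h78)⟩
  · rw [← e6]; simpa [mul_assoc] using r (by decide) (by decide) h4
  · show _ = _; simpa using r (by decide) (by decide) h5
  · show _ = _; simpa using r (by decide) (by decide) h6
  · show _ = _; simpa using r (by decide) (by decide) h7
  · show _ = _; simpa using r (by decide) (by decide) h8
  · show _ = _; simpa using r (by decide) (by decide) h9

include S in
theorem z_ne : z ≠ 1 := by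
  have h := S.ne_of_th (l := [0]) (m := []) (by decide) (by decide)
    (neK_th (by decide +kernel : neK [0] [] = true))
  simpa [S.L_zero] using h

theorem e_ne : S.L 4 ≠ 1 := by
  have h := S.ne_of_th (l := [4]) (m := []) (by decide) (by decide)
    (neK_th (by decide +kernel : neK [4] [] = true))
  simpa using h

theorem zg_comm {g : ℕ} (hg : inC [g] = true) : Commute (S.L g) z := S.comm_zg hg

theorem z_K : z ∈ S.K :=
  S.mem_K.2 ⟨(S.zg_comm (by decide)).symm, (S.zg_comm (by decide)).symm⟩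

theorem c_K : S.L 2 ∈ S.K := S.mem_K.2 ⟨S.kc.2.2.2.2.2.2.1, S.kc.2.2.2.2.2.2.2.1⟩

theorem d_conj_K {g : G} (hg : g ∈ S.K) : S.L 3 * g * S.L 3 ∈ S.K := by
  obtain ⟨hd, -, -, hds, hdt, -⟩ := S.kc
  obtain ⟨hs, ht⟩ := S.mem_K.1 hg
  refine S.mem_K.2 ⟨?_, (hdt.mul_left ht).mul_left hdt⟩
  have h1 : S.L 3 * S.L 5 = (S.L 5)⁻¹ * S.L 3 := by
    rw [← hds, mul_assoc _ (S.L 3) (S.L 3), hd, mul_one]
  have h2 : S.L 3 * (S.L 5)⁻¹ = S.L 5 * S.L 3 := by
    rw [← hds]
    calc S.L 3 * (S.L 3 * S.L 5 * S.L 3) = S.L 3 * S.L 3 * S.L 5 * S.L 3 := by group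
      _ = _ := by rw [hd, one_mul]
  show _ = _
  calc S.L 3 * g * S.L 3 * S.L 5 = S.L 3 * (g * (S.L 5)⁻¹) * S.L 3 := by
        rw [mul_assoc, h1]; group
    _ = S.L 3 * ((S.L 5)⁻¹ * g) * S.L 3 := by rw [(Commute.inv_right hs).eq]
    _ = S.L 3 * (S.L 5)⁻¹ * g * S.L 3 := by group
    _ = _ := by rw [h2]; group

theorem X_K : S.X ∈ S.K := S.d_conj_K S.c_K

theorem X_z : Commute S.X z :=
  ((S.zg_comm (by decide)).mul_left (S.zg_comm (by decide))).mul_left (S.zg_comm (by decide))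

theorem X_sq : S.X * S.X = 1 := by
  rw [X, show S.L 3 * S.L 2 * S.L 3 * (S.L 3 * S.L 2 * S.L 3) =
    S.L 3 * (S.L 2 * (S.L 3 * S.L 3) * S.L 2) * S.L 3 by group, S.kc.1, mul_one, S.c_sq, mul_one, S.kc.1]

theorem X_c : S.X * S.L 2 * S.X = z * S.L 2 ∧ S.X * (z * S.L 2) * S.X = S.L 2 := by
  have h := k_checks
  simp only [Bool.and_eq_true] at h
  have e : S.X * S.L 2 * S.X = z * S.L 2 := by
    have := S.eq_of_th (l := [3, 2, 3, 2, 3, 2, 3]) (m := [0, 2]) (by decide) (by decide)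
      (eqP_th h.1.1.1.1.1.1.1.2)
    simpa [X, S.L_zero, mul_assoc] using this
  exact ⟨e, swap_comm S.X_sq e⟩

/-- elements of the common centraliser commuting with the involution -/
theorem st_word {g : G} (hg : g ∈ S.K) (hz : Commute g z) : ∃ l ∈ dWords, g = prodW S.L l := by
  obtain ⟨hs, ht⟩ := S.mem_K.1 hg
  obtain ⟨v, rfl⟩ := S.lift hz
  have a5 : (v : Th) * tg 5 = tg 5 * v := by
    have := S.th_of_comm (v := v) (w := cW [5]) hs
    rwa [cW1 (by decide)] at this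
  have a7 : (v : Th) * tg 7 = tg 7 * v := by
    have := S.th_of_comm (v := v) (w := cW [7]) ht
    rwa [cW1 (by decide)] at this
  obtain ⟨l, hl, e⟩ := mem_st v.2 a5 a7
  refine ⟨l, hl, S.of_th ?_ e⟩
  have := d_checks
  simp only [List.all_eq_true, Bool.and_eq_true] at this
  exact (this l hl).1.1.1

theorem st_ne {l m : List ℕ} (hl : l ∈ dWords) (hm : m ∈ dWords) (h : prodW S.L l = prodW S.L m) :
    l = m := by
  have hd := d_checks
  simp only [List.all_eq_true, Bool.and_eq_true, Bool.or_eq_true, beq_iff_eq] at hd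
  rcases (hd l hl).1.1.2 m hm with e | e
  · exact e
  · exact absurd h (S.ne_of_th (hd l hl).1.1.1 (hd m hm).1.1.1 (neK_th e))

theorem four_word {g : G} (hg : g ∈ S.K) (hz : Commute g z) (hX : Commute g S.X) :
    g = 1 ∨ g = z ∨ g = S.X ∨ g = z * S.X := by
  obtain ⟨l, hl, rfl⟩ := S.st_word hg hz
  have hd := d_checks
  simp only [List.all_eq_true, Bool.and_eq_true, Bool.or_eq_true, beq_iff_eq] at hd
  obtain ⟨⟨⟨hi, -⟩, h⟩, -⟩ := hd l hl
  rcases h with (((h | h) | h) | h) | h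
  · refine absurd ?_ (S.ne_of_th (by rw [inC_append, hi]; decide) (by rw [inC_append, hi]; decide) (neK_th h))
    rw [prodW_append, prodW_append, X_word]
    exact hX.eq
  · exact Or.inl (by simpa using S.eq_of_th hi (by decide) (eqP_th h))
  · exact Or.inr (Or.inl (by simpa [S.L_zero] using S.eq_of_th hi (by decide) (eqP_th h)))
  · exact Or.inr (Or.inr (Or.inl (by simpa [S.X_word] using S.eq_of_th hi (by decide) (eqP_th h))))
  · refine Or.inr (Or.inr (Or.inr ?_))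
    rw [S.eq_of_th hi (by decide) (eqP_th h), prodW_cons, X_word, S.L_zero]

variable {S} {w : G}

theorem w_K (hw : SwapData S w) : w ∈ S.K :=
  S.mem_K.2 ⟨comm_of_sand hw.sq hw.s_eq, comm_of_sand hw.sq hw.t_eq⟩

/-- the images of the fours group under the element of order three -/
theorem h_action (hw : SwapData S w) :
    w * S.X * z * (w * S.X)⁻¹ = S.L 2 ∧ w * S.X * S.L 2 * (w * S.X)⁻¹ = z * S.L 2 ∧
      w * S.X * (z * S.L 2) * (w * S.X)⁻¹ = z := by
  have hXi := inv2 S.X_sq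
  have hwi := inv2 hw.sq
  have h1 : w * S.X * z * (w * S.X)⁻¹ = S.L 2 := by
    rw [mul_inv_rev, hXi, hwi, show w * S.X * z * (S.X * w) = w * (S.X * z * S.X) * w by group,
      sand_of_comm S.X_sq S.X_z, hw.a_eq]
  have h2 : w * S.X * S.L 2 * (w * S.X)⁻¹ = z * S.L 2 := by
    rw [mul_inv_rev, hXi, hwi, show w * S.X * S.L 2 * (S.X * w) = w * (S.X * S.L 2 * S.X) * w by group,
      S.X_c.1]
    calc w * (z * S.L 2) * w = w * z * (w * w) * S.L 2 * w := by rw [hw.sq]; group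
      _ = (w * z * w) * (w * S.L 2 * w) := by group
      _ = _ := by rw [swap_comm hw.sq hw.a_eq, hw.a_eq, S.c_comm]
  refine ⟨h1, h2, ?_⟩
  rw [show w * S.X * (z * S.L 2) * (w * S.X)⁻¹ =
    (w * S.X * z * (w * S.X)⁻¹) * (w * S.X * S.L 2 * (w * S.X)⁻¹) by group, h1, h2, ← mul_assoc,
    S.c_comm, mul_assoc, S.c_sq, mul_one]

theorem u_facts (hw : SwapData S w) : Commute w (z * S.L 2) ∧ z * S.L 2 * (z * S.L 2) = 1 ∧
    z * w * z = w * (z * S.L 2) ∧ S.L 2 * w * S.L 2 = w * (z * S.L 2) := by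
  have hcz := S.c_comm
  refine ⟨comm_of_sand hw.sq ?_, ?_, ?_, ?_⟩
  · calc w * (z * S.L 2) * w = w * z * (w * w) * S.L 2 * w := by rw [hw.sq]; group
      _ = (w * z * w) * (w * S.L 2 * w) := by group
      _ = _ := by rw [swap_comm hw.sq hw.a_eq, hw.a_eq, hcz]
  · rw [show z * S.L 2 * (z * S.L 2) = z * (S.L 2 * z) * S.L 2 by group, hcz, ← mul_assoc, S.z_sq,
      one_mul, S.c_sq]
  · calc z * w * z = (w * w) * z * w * z := by rw [hw.sq, one_mul]
      _ = w * (w * z * w) * z := by group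
      _ = w * (S.L 2 * z) := by rw [hw.a_eq]; group
      _ = _ := by rw [hcz]
  · calc S.L 2 * w * S.L 2 = (w * w) * S.L 2 * w * S.L 2 := by rw [hw.sq, one_mul]
      _ = w * (w * S.L 2 * w) * S.L 2 := by group
      _ = _ := by rw [swap_comm hw.sq hw.a_eq]; group

theorem ne_facts (hw : SwapData S w) : z * S.L 2 ≠ 1 ∧ z * S.L 2 ≠ w ∧ z * S.L 2 ≠ w * (z * S.L 2) ∧
    w ≠ w * (z * S.L 2) := by
  have hu : z * S.L 2 ≠ 1 := fun e => S.c_ne.1 (by
    calc S.L 2 = z * (z * S.L 2) := by rw [← mul_assoc, S.z_sq, one_mul]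
      _ = z := by rw [e, mul_one])
  refine ⟨hu, fun e => ?_, fun e => ?_, fun e => hu (mul_left_cancel (e.symm.trans (mul_one w).symm))⟩
  · refine S.c_ne.1 ?_
    have h := hw.a_eq
    rw [← e] at h
    rw [← h, sand_of_comm (u_facts hw).2.1]
    exact Commute.mul_left rfl S.c_comm
  · have h1 : w = 1 := mul_right_cancel (e.symm.trans (one_mul _).symm)
    have h := hw.a_eq
    rw [h1, one_mul, mul_one] at h
    exact S.c_ne.1 h.symm

/-- the image of the exchanging element -/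
theorem p_cases (hw : SwapData S w) :
    w * S.X * w * (w * S.X)⁻¹ = S.X ∨ w * S.X * w * (w * S.X)⁻¹ = z * S.X := by
  obtain ⟨h1, h2, h3⟩ := h_action hw
  set h := w * S.X with hh
  set p := h * w * h⁻¹ with hp
  have hhK : h ∈ S.K := mul_mem (w_K hw) S.X_K
  have hpK : p ∈ S.K := mul_mem (mul_mem hhK (w_K hw)) (inv_mem hhK)
  have hpz : Commute p z := by
    rw [← h3]; exact conj_comm h (u_facts hw).1
  have hpp : p * p = 1 := by
    rw [hp, show h * w * h⁻¹ * (h * w * h⁻¹) = h * (w * w) * h⁻¹ by group, hw.sq]; group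
  have hpc : p * S.L 2 * p = z * S.L 2 := by
    conv_lhs => rw [← h1, hp]
    rw [show h * w * h⁻¹ * (h * z * h⁻¹) * (h * w * h⁻¹) = h * (w * z * w) * h⁻¹ by group, hw.a_eq, h2]
  obtain ⟨l, hl, e⟩ := S.st_word hpK hpz
  have hd := d_checks
  simp only [List.all_eq_true, Bool.and_eq_true, Bool.or_eq_true] at hd
  obtain ⟨⟨⟨hi, -⟩, -⟩, h'⟩ := hd l hl
  rcases h' with ((h' | h') | h') | h'
  · refine absurd ?_ (S.ne_of_th (by rw [inC_append, hi]; rfl) (by decide) (neK_th h'))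
    rw [prodW_append, ← e, hpp]; rfl
  · exfalso
    have hc := S.eq_of_th (by rw [inC_append, hi]; decide) (by rw [inC_append, hi]; decide) (eqP_th h')
    rw [prodW_append, prodW_append, ← e, prodW_single] at hc
    rw [sand_of_comm hpp hc] at hpc
    exact S.z_ne (mul_right_cancel (hpc.symm.trans (one_mul _).symm))
  · exact Or.inl (by rw [e, S.eq_of_th hi (by decide) (eqP_th h'), S.X_word])
  · exact Or.inr (by rw [e, S.eq_of_th hi (by decide) (eqP_th h'), prodW_cons, S.X_word, S.L_zero])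

/-- the centraliser of the fours group -/
theorem cent_four (hw : SwapData S w) {g : G} (hg : g ∈ S.K) (hu : Commute g (z * S.L 2))
    (hgw : Commute g w) : g = 1 ∨ g = z * S.L 2 ∨ g = w ∨ g = w * (z * S.L 2) := by
  obtain ⟨-, -, h3⟩ := h_action hw
  have hp := p_cases hw
  set h := w * S.X with hh
  have hhK : h ∈ S.K := mul_mem (w_K hw) S.X_K
  have hz : Commute (h * g * h⁻¹) z := by
    have := conj_comm h hu
    rwa [h3] at this
  have hX : Commute (h * g * h⁻¹) S.X := by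
    have := conj_comm h hgw
    rcases hp with e | e <;> rw [e] at this
    · exact this
    · have := (hz.inv_right).mul_right this
      rwa [← mul_assoc, inv_mul_cancel, one_mul] at this
  have back : ∀ x : G, h * g * h⁻¹ = h * x * h⁻¹ → g = x := fun x e =>
    mul_left_cancel (mul_right_cancel e)
  have hzp : z * (h * w * h⁻¹) = h * (w * (z * S.L 2)) * h⁻¹ := by
    conv_lhs => rw [← h3]
    rw [(u_facts hw).1.eq]
    group
  rcases S.four_word (mul_mem (mul_mem hhK hg) (inv_mem hhK)) hz hX with e | e | e | e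
  · exact Or.inl (conj_eq_one_iff.1 e)
  · exact Or.inr (Or.inl (back _ (e.trans h3.symm)))
  · rcases hp with ep | ep
    · exact Or.inr (Or.inr (Or.inl (back _ (e.trans ep.symm))))
    · refine Or.inr (Or.inr (Or.inr (back _ (e.trans ?_))))
      rw [← hzp, ep, ← mul_assoc, S.z_sq, one_mul]
  · rcases hp with ep | ep
    · exact Or.inr (Or.inr (Or.inr (back _ (e.trans (by rw [← hzp, ep])))))
    · exact Or.inr (Or.inr (Or.inl (back _ (e.trans ep.symm))))

/-- an element moving the fours group has products of order three with both letters -/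
theorem cube_of_move (hw : SwapData S w) {g V V' : G} (hg : g ∈ S.K)
    (hV : (V = w ∧ V' = w * (z * S.L 2)) ∨ (V = w * (z * S.L 2) ∧ V' = w)) (hg2 : g * g = 1)
    (hu : g * (z * S.L 2) * g = V) (hV' : g * V' * g = V') {m : G} (hm : m = z ∨ m = S.L 2) :
    m * g * (m * g) * (m * g) = 1 := by
  obtain ⟨-, hu2, hzw, hcw⟩ := u_facts hw
  obtain ⟨n1, n2, n3, n4⟩ := ne_facts hw
  have hmm : m * m = 1 := by rcases hm with rfl | rfl <;> simp [S.z_sq, S.c_sq]
  have hmK : m ∈ S.K := by rcases hm with rfl | rfl; exacts [S.z_K, S.c_K]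
  have hmu : m * (z * S.L 2) * m = z * S.L 2 := by
    refine sand_of_comm hmm ?_
    rcases hm with rfl | rfl
    · exact Commute.mul_right rfl S.c_comm.symm
    · exact Commute.mul_right S.c_comm rfl
  have hmw : m * w * m = w * (z * S.L 2) := by rcases hm with rfl | rfl; exacts [hzw, hcw]
  have hmw' : m * (w * (z * S.L 2)) * m = w := swap_comm hmm hmw
  have hmV : m * V * m = V' ∧ m * V' * m = V := by
    rcases hV with ⟨rfl, rfl⟩ | ⟨rfl, rfl⟩; exacts [⟨hmw, hmw'⟩, ⟨hmw', hmw⟩]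
  have hne : z * S.L 2 ≠ V ∧ z * S.L 2 ≠ V' ∧ V ≠ V' := by
    rcases hV with ⟨rfl, rfl⟩ | ⟨rfl, rfl⟩; exacts [⟨n2, n3, n4⟩, ⟨n3, n2, n4.symm⟩]
  set r := m * g with hr
  have hri : r⁻¹ = g * m := by rw [hr, mul_inv_rev, inv2 hg2, inv2 hmm]
  have act : ∀ x, r * x * r⁻¹ = m * (g * x * g) * m := fun x => by rw [hri, hr]; group
  have r1 : r * (z * S.L 2) * r⁻¹ = V' := by rw [act, hu, hmV.1]
  have r2 : r * V' * r⁻¹ = V := by rw [act, hV', hmV.2]
  have r3 : r * V * r⁻¹ = z * S.L 2 := by rw [act, swap_comm hg2 hu, hmu]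
  have c1 : ∀ {x}, r * x * r⁻¹ ≠ x → r * r * r ≠ x := fun hx e => hx (by rw [← e]; group)
  have fix : ∀ {x y y'}, r * x * r⁻¹ = y → r * y * r⁻¹ = y' → r * y' * r⁻¹ = x →
      Commute (r * r * r) x := fun {x y y'} h1 h2 h3 => by
    show _ = _
    calc r * r * r * x = r * (r * (r * x * r⁻¹) * r⁻¹) * r⁻¹ * (r * r * r) := by group
      _ = _ := by rw [h1, h2, h3]
  have hK : r * r * r ∈ S.K := mul_mem (mul_mem (mul_mem hmK hg) (mul_mem hmK hg)) (mul_mem hmK hg)
  have cu := fix r1 r2 r3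
  have cw : Commute (r * r * r) w := by
    rcases hV with ⟨e, -⟩ | ⟨-, e⟩
    · rw [← e]; exact fix r3 r1 r2
    · rw [← e]; exact fix r2 r3 r1
  have nV : r * r * r ≠ V := c1 (by rw [r3]; exact hne.1)
  have nV' : r * r * r ≠ V' := c1 (by rw [r2]; exact hne.2.2)
  rcases cent_four hw hK cu cw with e | e | e | e
  · exact e
  · exact absurd e (c1 (by rw [r1]; exact hne.2.1.symm))
  · rcases hV with ⟨e', -⟩ | ⟨-, e'⟩
    exacts [absurd (e.trans e'.symm) nV, absurd (e.trans e'.symm) nV']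
  · rcases hV with ⟨-, e'⟩ | ⟨e', -⟩
    exacts [absurd (e.trans e'.symm) nV', absurd (e.trans e'.symm) nV]

/-- the element fusing the exchanging element into the first letter -/
theorem exists_k (hw : SwapData S w) : ∃ k : G, k * w * k⁻¹ = z ∧
    k * (z * S.L 2) * k⁻¹ = z * S.L 2 ∧ k * S.L 5 * k⁻¹ = (S.L 5)⁻¹ ∧ k * S.L 7 * k⁻¹ = S.L 7 := by
  obtain ⟨hd, -, -, hds, hdt, -⟩ := S.kc
  obtain ⟨h1, -, h3⟩ := h_action hw
  have hdz : S.L 3 * z * S.L 3 = z := sand_of_comm hd (S.zg_comm (by decide))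
  have hdX : S.L 3 * S.X * S.L 3 = S.L 2 := by
    rw [X, show S.L 3 * (S.L 3 * S.L 2 * S.L 3) * S.L 3 =
      (S.L 3 * S.L 3) * S.L 2 * (S.L 3 * S.L 3) by group, hd, one_mul, mul_one]
  obtain ⟨e5, e7⟩ := S.mem_K.1 S.X_K
  have key : ∃ k0, k0 * z * k0⁻¹ = z ∧ k0 * (w * S.X * w * (w * S.X)⁻¹) * k0⁻¹ = S.L 2 ∧
      k0 * S.L 5 * k0⁻¹ = (S.L 5)⁻¹ ∧ k0 * S.L 7 * k0⁻¹ = S.L 7 := by
    rcases p_cases hw with e | e <;> rw [e]
    · refine ⟨S.L 3, ?_, ?_, ?_, ?_⟩ <;> rw [inv2 hd]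
      exacts [hdz, hdX, hds, sand_of_comm hd hdt]
    · refine ⟨S.X * S.L 3, ?_, ?_, ?_, ?_⟩ <;> rw [mul_inv_rev, inv2 hd, inv2 S.X_sq]
      · rw [show S.X * S.L 3 * z * (S.L 3 * S.X) = S.X * (S.L 3 * z * S.L 3) * S.X by group, hdz,
          sand_of_comm S.X_sq S.X_z]
      · calc S.X * S.L 3 * (z * S.X) * (S.L 3 * S.X)
            = S.X * (S.L 3 * z * (S.L 3 * S.L 3) * S.X * S.L 3) * S.X := by rw [hd]; group
          _ = S.X * ((S.L 3 * z * S.L 3) * (S.L 3 * S.X * S.L 3)) * S.X := by group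
          _ = _ := by rw [hdz, hdX, S.X_c.2]
      · rw [show S.X * S.L 3 * S.L 5 * (S.L 3 * S.X) = S.X * (S.L 3 * S.L 5 * S.L 3) * S.X by group, hds,
          sand_of_comm S.X_sq e5.inv_right]
      · rw [show S.X * S.L 3 * S.L 7 * (S.L 3 * S.X) = S.X * (S.L 3 * S.L 7 * S.L 3) * S.X by group,
          sand_of_comm hd hdt, sand_of_comm S.X_sq e7]
  obtain ⟨k0, hk1, hk2, hk3, hk4⟩ := key
  obtain ⟨h5, h7⟩ := S.mem_K.1 (mul_mem (w_K hw) S.X_K)
  set h := w * S.X
  refine ⟨h⁻¹ * k0 * h, ?_, ?_, ?_, ?_⟩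
  · rw [show h⁻¹ * k0 * h * w * (h⁻¹ * k0 * h)⁻¹ = h⁻¹ * (k0 * (h * w * h⁻¹) * k0⁻¹) * h by group, hk2, ← h1]
    group
  · rw [show h⁻¹ * k0 * h * (z * S.L 2) * (h⁻¹ * k0 * h)⁻¹ =
      h⁻¹ * (k0 * (h * (z * S.L 2) * h⁻¹) * k0⁻¹) * h by group, h3, hk1]
    conv_lhs => rw [← h3]
    group
  · rw [show h⁻¹ * k0 * h * S.L 5 * (h⁻¹ * k0 * h)⁻¹ = h⁻¹ * (k0 * (h * S.L 5 * h⁻¹) * k0⁻¹) * h by group,
      h5.eq, mul_inv_cancel_right, hk3, mul_assoc, (h5.inv_right).symm.eq, inv_mul_cancel_left]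
  · rw [show h⁻¹ * k0 * h * S.L 7 * (h⁻¹ * k0 * h)⁻¹ = h⁻¹ * (k0 * (h * S.L 7 * h⁻¹) * k0⁻¹) * h by group,
      h7.eq, mul_inv_cancel_right, hk4, mul_assoc, h7.symm.eq, inv_mul_cancel_left]

/-- an element of the four candidates -/
def Cand4 (S : Setting z) (w q : G) (V V' : G) : Prop :=
  q ∈ S.K ∧ Commute q (S.L 4) ∧ q * q = 1 ∧ q * (z * S.L 2) * q = V ∧ q * V' * q = V'

/-- four candidates -/
theorem exists_four (hw : SwapData S w) : ∃ y y0 : G,
    Cand4 S w y w (w * (z * S.L 2)) ∧ Cand4 S w y0 (w * (z * S.L 2)) w ∧ z * y0 * z = y := by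
  obtain ⟨k, hkw, hku, hks, hkt⟩ := exists_k hw
  obtain ⟨hwu, hu2, hzw, -⟩ := u_facts hw
  obtain ⟨-, he2, -, -, -, het, -, -, hec, h6, -⟩ := S.kc
  have hkv : k * (w * (z * S.L 2)) * k⁻¹ = S.L 2 := by
    rw [show k * (w * (z * S.L 2)) * k⁻¹ = (k * w * k⁻¹) * (k * (z * S.L 2) * k⁻¹) by group, hkw, hku,
      ← mul_assoc, S.z_sq, one_mul]
  -- the image of e
  have he : k * S.L 4 * k⁻¹ = prodW S.L eMinus := by
    have cz : Commute (k * S.L 4 * k⁻¹) z := by
      have := conj_comm k (comm_of_sand hw.sq hw.e_eq).symm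
      rwa [hkw] at this
    have cc : Commute (k * S.L 4 * k⁻¹) (S.L 2) := by
      have hu : Commute (S.L 4) (z * S.L 2) := (S.zg_comm (by decide)).mul_right hec
      have := conj_comm k hu
      rw [hku] at this
      have := cz.mul_right this
      rwa [← mul_assoc, S.z_sq, one_mul] at this
    have ct : Commute (k * S.L 4 * k⁻¹) (S.L 7) := by
      have := conj_comm k het
      rwa [hkt] at this
    obtain ⟨v, hv⟩ := S.lift cz
    have t2 : (v : Th) * tg 2 = tg 2 * v := by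
      have := S.th_of_comm (v := v) (w := cW [2]) (by rw [hv]; exact cc)
      rwa [cW1 (by decide)] at this
    have t7 : (v : Th) * tg 7 = tg 7 * v := by
      have := S.th_of_comm (v := v) (w := cW [7]) (by rw [hv]; exact ct)
      rwa [cW1 (by decide)] at this
    have v2 : v * v = 1 := S.inj (by
      rw [_root_.map_mul, hv, _root_.map_one,
        show k * S.L 4 * k⁻¹ * (k * S.L 4 * k⁻¹) = k * (S.L 4 * S.L 4) * k⁻¹ by group, he2]
      group)
    have v1 : (v : Th) ≠ 1 := fun e => by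
      rw [show v = 1 from Subtype.ext e, _root_.map_one, eq_comm, conj_eq_one_iff] at hv
      exact S.e_ne hv
    have hk := k_checks
    simp only [Bool.and_eq_true] at hk
    have er : (S.L 4)⁻¹ * (S.L 5)⁻¹ * S.L 4 * S.L 5 =
        (S.L 5)⁻¹ * (S.L 5)⁻¹ * (S.L 5)⁻¹ * S.L 4 * (S.L 5 * S.L 5 * S.L 5) := by
      have := S.eq_of_th (l := [4, 6, 4, 5]) (m := [6, 6, 6, 4, 5, 5, 5]) (by decide) (by decide)
        (eqP_th hk.1.1.1.1.1.1.2)
      simp only [prodW_cons, prodW_nil, mul_one, h6] at this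
      rw [inv2 he2]
      simpa only [mul_assoc] using this
    have vr : v⁻¹ * cW [5] * v * cW [6] = cW [5] * cW [5] * cW [5] * v * (cW [6] * cW [6] * cW [6]) := by
      refine S.inj ?_
      simp only [_root_.map_mul, _root_.map_inv, hv]
      show (k * S.L 4 * k⁻¹)⁻¹ * S.L 5 * (k * S.L 4 * k⁻¹) * S.L 6 =
        S.L 5 * S.L 5 * S.L 5 * (k * S.L 4 * k⁻¹) * (S.L 6 * S.L 6 * S.L 6)
      have hks' : S.L 5 = k * (S.L 5)⁻¹ * k⁻¹ := by
        rw [show k * (S.L 5)⁻¹ * k⁻¹ = (k * S.L 5 * k⁻¹)⁻¹ by group, hks, inv_inv]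
      rw [h6, hks', show (k * S.L 4 * k⁻¹)⁻¹ * (k * (S.L 5)⁻¹ * k⁻¹) * (k * S.L 4 * k⁻¹) * (k * (S.L 5)⁻¹ * k⁻¹)⁻¹ =
        k * ((S.L 4)⁻¹ * (S.L 5)⁻¹ * S.L 4 * S.L 5) * k⁻¹ by group, er]
      group
    have vr' := congrArg Subtype.val vr
    simp only [Subgroup.coe_mul, Subgroup.coe_inv, cW1 (show inC [5] = true by decide),
      cW1 (show inC [6] = true by decide)] at vr'
    rw [← hv]
    exact S.of_th hk.2 (cand_minus v.2 t2 t7 (congrArg Subtype.val v2) v1 vr')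
  set y0 := k⁻¹ * S.X * k with hy0
  have back : ∀ {x y : G}, k * x * k⁻¹ = y → S.X * y * S.X = y → y0 * x * y0 = x := fun {x y} hx hy => by
    rw [hy0, show k⁻¹ * S.X * k * x * (k⁻¹ * S.X * k) = k⁻¹ * (S.X * (k * x * k⁻¹) * S.X) * k by group,
      hx, hy, ← hx]
    group
  have hy2 : y0 * y0 = 1 := by
    rw [hy0, show k⁻¹ * S.X * k * (k⁻¹ * S.X * k) = k⁻¹ * (S.X * S.X) * k by group, S.X_sq]; group
  obtain ⟨x5, x7⟩ := S.mem_K.1 S.X_K
  have y5 : Commute y0 (S.L 5) := comm_of_sand hy2 (back hks (sand_of_comm S.X_sq x5.inv_right))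
  have y7 : Commute y0 (S.L 7) := comm_of_sand hy2 (back hkt (sand_of_comm S.X_sq x7))
  have ye : Commute y0 (S.L 4) := by
    refine comm_of_sand hy2 (back he (sand_of_comm S.X_sq ?_))
    have hk := k_checks
    simp only [Bool.and_eq_true] at hk
    have := S.eq_of_th (l := [3, 2, 3] ++ eMinus) (m := eMinus ++ [3, 2, 3])
      (by rw [inC_append, hk.2]; decide) (by rw [inC_append, hk.2]; decide)
      (eqP_th hk.1.1.1.1.1.2)
    rwa [prodW_append, prodW_append, S.X_word] at this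
  have yu : y0 * (z * S.L 2) * y0 = w * (z * S.L 2) := by
    rw [hy0, show k⁻¹ * S.X * k * (z * S.L 2) * (k⁻¹ * S.X * k) =
      k⁻¹ * (S.X * (k * (z * S.L 2) * k⁻¹) * S.X) * k by group, hku, S.X_c.2]
    conv_lhs => rw [← hkv]
    group
  have yw : y0 * w * y0 = w := back hkw (sand_of_comm S.X_sq S.X_z)
  refine ⟨z * y0 * z, y0, ⟨?_, ?_, ?_, ?_, ?_⟩, ⟨S.mem_K.2 ⟨y5, y7⟩, ye, hy2, yu, yw⟩, rfl⟩
  · exact mul_mem (mul_mem S.z_K (S.mem_K.2 ⟨y5, y7⟩)) S.z_K
  · exact ((S.zg_comm (by decide)).symm.mul_left ye).mul_left (S.zg_comm (by decide)).symm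
  · rw [show z * y0 * z * (z * y0 * z) = z * (y0 * (z * z) * y0) * z by group, S.z_sq, mul_one, hy2,
      mul_one, S.z_sq]
  · have hzu : z * (z * S.L 2) * z = z * S.L 2 :=
      sand_of_comm S.z_sq (Commute.mul_right rfl S.c_comm.symm)
    rw [show z * y0 * z * (z * S.L 2) * (z * y0 * z) = z * (y0 * (z * (z * S.L 2) * z) * y0) * z by group,
      hzu, yu, swap_comm S.z_sq hzw]
  · rw [show z * y0 * z * (w * (z * S.L 2)) * (z * y0 * z) = z * (y0 * (z * (w * (z * S.L 2)) * z) * y0) * z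
      by group, swap_comm S.z_sq hzw, yw, hzw]

/-- the square of the fours element fixed by a candidate can be absorbed -/
theorem cand4_mul (hw : SwapData S w) {q V V' : G}
    (hV : (V = w ∧ V' = w * (z * S.L 2)) ∨ (V = w * (z * S.L 2) ∧ V' = w)) (h : Cand4 S w q V V') :
    Cand4 S w (q * V') V V' ∧ q * V' ≠ q := by
  obtain ⟨hwu, hu2, hzw, -⟩ := u_facts hw
  obtain ⟨hK, he, h2, hu, h'⟩ := h
  have hV2 : V' * V' = 1 := by
    rcases hV with ⟨-, rfl⟩ | ⟨-, rfl⟩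
    · rw [show w * (z * S.L 2) * (w * (z * S.L 2)) = w * ((z * S.L 2) * w) * (z * S.L 2) by group, ← hwu.eq,
        ← mul_assoc w w (z * S.L 2), hw.sq, one_mul, hu2]
    · exact hw.sq
  have hVu : V' * (z * S.L 2) * V' = z * S.L 2 := by
    refine sand_of_comm hV2 ?_
    rcases hV with ⟨-, rfl⟩ | ⟨-, rfl⟩
    exacts [hwu.mul_left rfl, hwu]
  have hVK : V' ∈ S.K := by
    rcases hV with ⟨-, rfl⟩ | ⟨-, rfl⟩
    exacts [mul_mem (w_K hw) (mul_mem S.z_K S.c_K), w_K hw]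
  have hVe : Commute V' (S.L 4) := by
    have hwe := comm_of_sand hw.sq hw.e_eq
    rcases hV with ⟨-, rfl⟩ | ⟨-, rfl⟩
    exacts [hwe.mul_left ((S.zg_comm (by decide)).symm.mul_left S.kc.2.2.2.2.2.2.2.2.1.symm), hwe]
  have hc : Commute q V' := comm_of_sand h2 h'
  have n : V' ≠ 1 := by
    obtain ⟨-, -, n3, n4⟩ := ne_facts hw
    rcases hV with ⟨-, rfl⟩ | ⟨-, rfl⟩
    · intro e
      have : w = z * S.L 2 := by
        rw [← inv2 hu2]; exact eq_inv_of_mul_eq_one_left e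
      exact (ne_facts hw).2.1 this.symm
    · intro e
      exact n3 (by rw [e, one_mul])
  refine ⟨⟨mul_mem hK hVK, he.mul_left hVe, ?_, ?_, ?_⟩, fun e => n (mul_left_cancel (e.trans (mul_one q).symm))⟩
  · rw [show q * V' * (q * V') = q * (V' * q) * V' by group, ← hc.eq, ← mul_assoc, h2, one_mul, hV2]
  · calc q * V' * (z * S.L 2) * (q * V') = q * V' * (z * S.L 2) * (V' * q) := by rw [hc.eq]
      _ = q * (V' * (z * S.L 2) * V') * q := by group
      _ = V := by rw [hVu, hu]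
  · calc q * V' * V' * (q * V') = q * (V' * V') * q * V' := by group
      _ = V' := by rw [hV2, mul_one, h2, one_mul]

theorem cand4_ne {q V V' : G} (hw : SwapData S w)
    (hV : (V = w ∧ V' = w * (z * S.L 2)) ∨ (V = w * (z * S.L 2) ∧ V' = w)) (h : Cand4 S w q V V') :
    q ≠ 1 := fun e => by
  have := h.2.2.2.1
  rw [e, one_mul, mul_one] at this
  obtain ⟨-, n2, n3, -⟩ := ne_facts hw
  rcases hV with ⟨rfl, -⟩ | ⟨rfl, -⟩
  exacts [n2 this, n3 this]

theorem cand4_cube {q V V' : G} (hw : SwapData S w)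
    (hV : (V = w ∧ V' = w * (z * S.L 2)) ∨ (V = w * (z * S.L 2) ∧ V' = w)) (h : Cand4 S w q V V') :
    z * q * (z * q) * (z * q) = 1 ∧ S.L 2 * q * (S.L 2 * q) * (S.L 2 * q) = 1 :=
  ⟨cube_of_move hw h.1 hV h.2.2.1 h.2.2.2.1 h.2.2.2.2 (Or.inl rfl),
    cube_of_move hw h.1 hV h.2.2.1 h.2.2.2.1 h.2.2.2.2 (Or.inr rfl)⟩

end Setting

end CfsgLib.ThUnique
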