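import Cfsg.Agent.Lib.ThUnique.FixChecks
import Mathlib.GroupTheory.Perm.Cycle.Type
import Mathlib.GroupTheory.Sylow

/-!
In the presented Thompson group no element of order 19 commutes with one of order 31.
-/

set_option autoImplicit false
set_option linter.style.haveILetI false
set_option maxRecDepth 8000

namespace CfsgLib.ThUnique

open Cfsg.Spor CfsgLib.CosetEnum CfsgLib.ThPres CfsgLib.ThRep Matrix

attribute [local irreducible] wordMat mulP addP powMat keyRun certL lane

/-- vectors of length 248 -/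
abbrev V248 : Type := Fin 248 → ZMod 3

/-- the rows fixed by a matrix -/
def fixSp (g : U248) : AddSubgroup V248 where
  carrier := {v | v ᵥ* g.val = v}
  zero_mem' := zero_vecMul _
  add_mem' := fun {v w} hv hw => by
    show (v + w) ᵥ* g.val = v + w
    rw [add_vecMul, hv, hw]
  neg_mem' := fun {v} hv => by
    show (-v) ᵥ* g.val = -v
    rw [neg_vecMul, hv]

theorem mem_fixSp {g : U248} {v : V248} : v ∈ fixSp g ↔ v ᵥ* g.val = v := Iff.rfl

theorem fixSp_le_pow (g : U248) : ∀ n, fixSp g ≤ fixSp (g ^ n)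
  | 0 => fun v _ => by simp [mem_fixSp]
  | n + 1 => fun v hv => by
    rw [mem_fixSp, pow_succ, Units.val_mul, ← vecMul_vecMul, mem_fixSp.1 (fixSp_le_pow g n hv)]
    exact hv

theorem card_fixSp_conj (c g : U248) :
    Nat.card (fixSp (c * g * c⁻¹)) = Nat.card (fixSp g) := by
  refine Nat.card_congr
    { toFun := fun v => ⟨v.1 ᵥ* c.val, ?_⟩
      invFun := fun v => ⟨v.1 ᵥ* (c⁻¹).val, ?_⟩
      left_inv := fun v => Subtype.ext (by simp [vecMul_vecMul])
      right_inv := fun v => Subtype.ext (by simp [vecMul_vecMul]) }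
  · have h := congrArg (· ᵥ* c.val) (mem_fixSp.1 v.2)
    simp only [vecMul_vecMul, Units.val_mul] at h
    rw [mem_fixSp, vecMul_vecMul]
    simpa [mul_assoc] using h
  · rw [mem_fixSp, vecMul_vecMul, ← Units.val_mul, show c⁻¹ * (c * g * c⁻¹) = g * c⁻¹ by group,
      Units.val_mul, ← vecMul_vecMul, mem_fixSp.1 v.2]

/-- coordinates with respect to some rows -/
def head (r : ℕ) (hr : r ≤ 248) (B : Matrix (Fin 248) (Fin 248) (ZMod 3)) (v : V248) : Fin r → ZMod 3 :=
  fun i => (v ᵥ* B) (Fin.castLE hr i)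

theorem fix_inj {w : List ℕ} {o r A B C : ℕ} (hw : ∀ g ∈ w, g < 11) (hr : r ≤ 248)
    (h : fixRowsOK w o r A B C = true) :
    (rho (prodW tg w)) ^ o = 1 ∧ rho (prodW tg w) ≠ 1 ∧
      ∀ v ∈ fixSp (rho (prodW tg w)), head r hr (toMat 248 B) v = 0 → v = 0 := by
  obtain ⟨gX, eX⟩ := rho_word hw
  simp only [fixRowsOK, strict_eq, Bool.and_eq_true, Bool.not_eq_true', Nat.blt_eq] at h
  obtain ⟨hA, hB, hC, hlt, hp, hne, he⟩ := h
  have gA := good_of_goodB hA
  have gB := good_of_goodB hB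
  have gC := good_of_goodB hC
  refine ⟨Units.ext ?_, fun e => ?_, fun v hv h0 => ?_⟩
  · obtain ⟨-, h2⟩ := powMat_spec gX eX o
    rw [h2, Nat.eq_of_beq_eq_true hp, oneP_spec.2, Units.val_one]
  · rw [e, Units.val_one, ← oneP_spec.2] at eX
    rw [← toMat_inj oneP_spec.1 gX eX] at hne
    simp at hne
  · obtain ⟨gT, eT⟩ := addP_spec (c := 2) le_rfl oneP_spec.1 gX
    obtain ⟨gTA, eTA⟩ := mulP_spec gT gA
    obtain ⟨gBC, eBC⟩ := mulP_spec gB gC
    obtain ⟨-, e⟩ := addP_spec (c := 1) (by norm_num) gTA gBC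
    rw [Nat.eq_of_beq_eq_true he, eTA, eBC, eT, oneP_spec.2, Nat.cast_one, one_smul] at e
    have hv' : v ᵥ* toMat 248 (wordMat w) = v := by rw [← eX]; exact hv
    have h3 : v ᵥ* (((2 : ℕ) : ZMod 3) • (1 : Matrix (Fin 248) (Fin 248) (ZMod 3)) + toMat 248 (wordMat w)) = 0 := by
      rw [vecMul_add, hv', vecMul_smul, vecMul_one]
      funext i
      show ((2 : ℕ) : ZMod 3) * v i + v i = 0
      rw [show ((2 : ℕ) : ZMod 3) = -1 by decide]
      ring
    have h4 : v = (v ᵥ* toMat 248 B) ᵥ* toMat 248 C := by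
      conv_lhs => rw [← vecMul_one v, e]
      rw [vecMul_add, ← vecMul_vecMul, h3, zero_vecMul, zero_add, ← vecMul_vecMul]
    rw [h4]
    funext j
    show ∑ i, (v ᵥ* toMat 248 B) i * toMat 248 C i j = 0
    refine Finset.sum_eq_zero fun i _ => ?_
    by_cases hi : i.val < r
    · have := congrFun h0 ⟨i.val, hi⟩
      show (v ᵥ* toMat 248 B) i * _ = 0
      rw [show (v ᵥ* toMat 248 B) i = 0 from this, zero_mul]
    · have hlt' : C < 1024 ^ (248 * r) := by
        have e' : (1024 : ℕ) ^ (248 * r) = 2 ^ (2480 * r) := by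
          rw [show (1024 : ℕ) = 2 ^ 10 by norm_num, ← pow_mul]; congr 1; omega
        rw [e']; exact hlt
      show _ * (lane C (248 * i.val + j.val) : ZMod 3) = 0
      rw [lane_eq_zero hlt' (by have := Nat.mul_le_mul_left 248 (not_lt.1 hi); omega), Nat.cast_zero, mul_zero]

theorem card_fun (r : ℕ) : Nat.card (Fin r → ZMod 3) = 3 ^ r := by simp

theorem card_le {w : List ℕ} {o r A B C : ℕ} (hw : ∀ g ∈ w, g < 11) (hr : r ≤ 248)
    (h : fixRowsOK w o r A B C = true) : Nat.card (fixSp (rho (prodW tg w))) ≤ 3 ^ r := by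
  obtain ⟨-, -, hinj⟩ := fix_inj hw hr h
  rw [← card_fun r]
  refine Nat.card_le_card_of_injective (fun v => head r hr (toMat 248 B) v.1) fun v v' e => ?_
  have hsub := hinj _ (sub_mem v.2 v'.2) (by
    funext i
    show ((v.1 - v'.1) ᵥ* toMat 248 B) _ = 0
    rw [sub_vecMul, Pi.sub_apply, sub_eq_zero]
    exact congrFun e i)
  exact Subtype.ext (sub_eq_zero.1 hsub)

/-- independent fixed rows give a lower bound -/
theorem card_ge_aux {n : Type*} [Fintype n] [DecidableEq n] {r : ℕ} (g : Matrix n n (ZMod 3)) (ι : Fin r → n)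
    (hι : Function.Injective ι) (Cm Bm : Matrix n n (ZMod 3)) (h1 : Cm * g = Cm)
    (h2 : ∀ i j, (Cm * Bm) (ι i) (ι j) = if i = j then 1 else 0) :
    3 ^ r ≤ Nat.card {v : n → ZMod 3 // v ᵥ* g = v} := by
  rw [← card_fun r]
  refine Nat.card_le_card_of_injective (fun a => ⟨(∑ i, Pi.single (ι i) (a i)) ᵥ* Cm,
    by rw [vecMul_vecMul, h1]⟩) fun a a' e => ?_
  have key : ∀ a : Fin r → ZMod 3, ∀ j, ((∑ i, Pi.single (ι i) (a i)) ᵥ* Cm ᵥ* Bm) (ι j) = a j := by
    intro a j
    rw [vecMul_vecMul, sum_vecMul, Finset.sum_apply, Finset.sum_eq_single j]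
    · rw [single_vecMul, Pi.smul_apply, Matrix.row_apply, h2, if_pos rfl, smul_eq_mul, mul_one]
    · intro i _ hne
      rw [single_vecMul, Pi.smul_apply, Matrix.row_apply, h2, if_neg hne, smul_zero]
    · simp
  funext j
  have e' := congrArg Subtype.val e
  simp only at e'
  rw [← key a j, ← key a' j, e']

theorem span_spec {w : List ℕ} {r B C : ℕ} (hX : Good 248 (wordMat w)) (hB : Good 248 B) (hC : Good 248 C)
    (hr : r ≤ 248) (h : spanOK w r B C = true) :
    toMat 248 C * toMat 248 (wordMat w) = toMat 248 C ∧ ∀ i j : Fin r,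
      (toMat 248 C * toMat 248 B) (Fin.castLE hr i) (Fin.castLE hr j) = if i = j then 1 else 0 := by
  simp only [spanOK, strict_eq, Bool.and_eq_true, List.all_eq_true, List.mem_range] at h
  obtain ⟨h1, h2⟩ := h
  refine ⟨by rw [← (mulP_spec hC hX).2, Nat.eq_of_beq_eq_true h1], fun i j => ?_⟩
  rw [← (mulP_spec hC hB).2]
  have h3 := Nat.eq_of_beq_eq_true (h2 i.val i.2 j.val j.2)
  show (lane (mulP C B) (248 * i.val + j.val) : ZMod 3) = _
  rw [h3]
  by_cases e : i = j
  · subst e; simp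
  · have hb : Nat.beq i.val j.val = false := by
      rw [Bool.eq_false_iff]
      exact fun hh => e (Fin.ext (Nat.eq_of_beq_eq_true hh))
    rw [hb, if_neg e]; simp

theorem card_ge {w : List ℕ} {o r A B C : ℕ} (hw : ∀ g ∈ w, g < 11) (hr : r ≤ 248)
    (h : fixRowsOK w o r A B C = true) (hs : spanOK w r B C = true) :
    3 ^ r ≤ Nat.card (fixSp (rho (prodW tg w))) := by
  obtain ⟨gX, eX⟩ := rho_word hw
  simp only [fixRowsOK, strict_eq, Bool.and_eq_true] at h
  obtain ⟨e1, e2⟩ := span_spec gX (good_of_goodB h.2.1) (good_of_goodB h.2.2.1) hr hs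
  refine (card_ge_aux _ (Fin.castLE hr) (Fin.castLE_injective hr) _ _ e1 e2).trans (le_of_eq ?_)
  refine Nat.card_congr (Equiv.subtypeEquivRight fun v => ?_)
  rw [mem_fixSp, eX]

theorem lt19_31 : (∀ g ∈ w19, g < 11) ∧ ∀ g ∈ w31, g < 11 := by decide

/-- the elements of the two orders -/
theorem orders_19_31 : orderOf (prodW tg w19) = 19 ∧ orderOf (prodW tg w31) = 31 := by
  haveI : Fact (Nat.Prime 19) := ⟨by norm_num⟩
  haveI : Fact (Nat.Prime 31) := ⟨by norm_num⟩
  obtain ⟨a1, a2, -⟩ := fix_inj lt19_31.1 (by norm_num) fix19_ok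
  obtain ⟨b1, b2, -⟩ := fix_inj lt19_31.2 (by norm_num) fix31_ok
  exact ⟨orderOf_eq_prime (rho_injective0 (by rw [map_pow, a1, map_one])) fun e => a2 (by rw [e, map_one]),
    orderOf_eq_prime (rho_injective0 (by rw [map_pow, b1, map_one])) fun e => b2 (by rw [e, map_one])⟩

/-- an element of a prime order with cyclic Sylow subgroup is conjugate to a power of any other -/
theorem conj_pow {p : ℕ} [Fact p.Prime] {g h : Th} (hg : orderOf g = p) (hh : orderOf h = p)
    (hp : ¬ p ^ 2 ∣ Nat.card Th) : ∃ c : Th, ∃ k : ℕ, c * g * c⁻¹ = h ^ k := by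
  haveI : Finite Th := Nat.finite_of_card_ne_zero (by rw [card_Th]; norm_num)
  have hX : ¬ p ∣ (Subgroup.zpowers h).index := fun hd => hp (by
    rw [← (Subgroup.zpowers h).card_mul_index, Nat.card_zpowers, hh, pow_two]
    exact Nat.mul_dvd_mul_left p hd)
  have hpH : IsPGroup p (Subgroup.zpowers h) :=
    IsPGroup.of_card (n := 1) (by rw [Nat.card_zpowers, hh, pow_one])
  have hpG : IsPGroup p (Subgroup.zpowers g) :=
    IsPGroup.of_card (n := 1) (by rw [Nat.card_zpowers, hg, pow_one])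
  obtain ⟨P, hP⟩ := hpG.exists_le_sylow
  obtain ⟨c, hc⟩ := MulAction.exists_smul_eq Th P (hpH.toSylow hX)
  have hmem : MulAut.conj c g ∈ ((c • P : Sylow p Th) : Subgroup Th) := by
    rw [Sylow.coe_subgroup_smul]
    exact Subgroup.smul_mem_pointwise_smul _ (MulAut.conj c) _ (hP (Subgroup.mem_zpowers _))
  rw [hc] at hmem
  have hmem' : MulAut.conj c g ∈ Subgroup.zpowers h := hmem
  obtain ⟨k, hk⟩ := mem_powers_iff_mem_zpowers.2 hmem'
  exact ⟨c, k, hk.symm⟩

/-- no element of order 19 commutes with one of order 31 -/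
theorem no_commute_19_31 {x y : Th} (hx : orderOf x = 19) (hy : orderOf y = 31) (hxy : x * y = y * x) :
    False := by
  haveI : Fact (Nat.Prime 19) := ⟨by norm_num⟩
  haveI : Fact (Nat.Prime 31) := ⟨by norm_num⟩
  obtain ⟨o19, o31⟩ := orders_19_31
  obtain ⟨c, k, hk⟩ := conj_pow hx o19 (by rw [card_Th]; norm_num)
  set X := prodW tg w19 with hX
  set y' := c * y * c⁻¹ with hy'
  have ho : orderOf y' = 31 := by rw [hy', ← MulAut.conj_apply, MulEquiv.orderOf_eq, hy]
  have hcp : Commute y' (X ^ k) := by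
    rw [← hk]
    exact (show Commute y x from hxy.symm).map (MulAut.conj c).toMonoidHom
  obtain ⟨m, hm⟩ : ∃ m : ℕ, X ^ (k * m) = X := by
    have hk19 : ¬ 19 ∣ k := fun hd => by
      have e : X ^ k = 1 := orderOf_dvd_iff_pow_eq_one.1 (o19.symm ▸ hd)
      rw [e, conj_eq_one_iff] at hk
      rw [hk, orderOf_one] at hx
      norm_num at hx
    obtain ⟨m, hm⟩ : ∃ m, k * m % 19 = 1 := by
      have : ∀ r < 19, 0 < r → ∃ m < 19, r * m % 19 = 1 := by decide
      obtain ⟨m, -, hm⟩ := this (k % 19) (Nat.mod_lt _ (by norm_num)) (by omega)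
      exact ⟨m, by rw [← hm, Nat.mod_mul_mod]⟩
    exact ⟨m, by rw [← pow_mod_orderOf, o19, hm, pow_one]⟩
  have hcX : Commute y' X := by
    have := hcp.pow_right m
    rwa [← pow_mul, hm] at this
  -- the fixed rows of y'
  obtain ⟨d, j, hj⟩ := conj_pow o31 ho (by rw [card_Th]; norm_num)
  have hle8 : Nat.card (fixSp (rho y')) ≤ 3 ^ 8 := by
    refine le_trans (le_trans (AddSubgroup.card_le_of_le (fixSp_le_pow (rho y') j)) (le_of_eq ?_))
      (card_le lt19_31.2 (by norm_num) fix31_ok)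
    rw [← map_pow, ← hj, map_mul, map_mul, map_inv, card_fixSp_conj]
  set W := fixSp (rho X) with hW
  have hWcard : Nat.card W = 3 ^ 14 :=
    le_antisymm (card_le lt19_31.1 (by norm_num) fix19_ok) (card_ge lt19_31.1 (by norm_num) fix19_ok span19_ok)
  set Y := rho y' with hY
  have hYX : Commute Y (rho X) := hcX.map rho
  have hstab : ∀ v : V248, v ∈ W → v ᵥ* Y.val ∈ W := fun v hv => by
    rw [mem_fixSp, vecMul_vecMul, ← Units.val_mul, hYX.eq, Units.val_mul, ← vecMul_vecMul, mem_fixSp.1 hv]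
  let π : Equiv.Perm W := Equiv.ofBijective (fun v => (⟨v.1 ᵥ* Y.val, hstab v.1 v.2⟩ : W))
    (Finite.injective_iff_bijective.1 fun v v' e => Subtype.ext (by
      have h := congrArg (fun u : W => u.1 ᵥ* (Y⁻¹).val) e
      simpa [vecMul_vecMul] using h))
  have hπ : ∀ (n : ℕ) (v : W), ((π ^ n) v).1 = v.1 ᵥ* (Y ^ n).val := by
    intro n
    induction n with
    | zero => intro v; simp
    | succ n ih =>
      intro v
      rw [pow_succ' π, Equiv.Perm.mul_apply]
      show ((π ^ n) v).1 ᵥ* Y.val = _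
      rw [ih, vecMul_vecMul, ← Units.val_mul, ← pow_succ]
  have hY31 : Y ^ 31 = 1 := by rw [hY, ← map_pow, ← ho, pow_orderOf_eq_one, map_one]
  have hπ31 : π ^ (31 ^ 1) = 1 := Equiv.ext fun v => Subtype.ext (by
    rw [pow_one, hπ, hY31]; simp)
  haveI : Fintype W := Fintype.ofFinite W
  classical
  have hmod := Equiv.Perm.card_compl_support_modEq hπ31
  set F := (W ⊓ fixSp Y).addSubgroupOf W with hF
  have hFc : (π.supportᶜ).card = Nat.card F := by
    rw [← Nat.card_eq_finsetCard]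
    refine Nat.card_congr (Equiv.subtypeEquivRight fun v => ?_)
    rw [Finset.mem_compl, Equiv.Perm.notMem_support, AddSubgroup.mem_addSubgroupOf, AddSubgroup.mem_inf,
      Subtype.ext_iff]
    exact ⟨fun e => ⟨v.2, e⟩, fun e => e.2⟩
  have h1 : Nat.card F ∣ 3 ^ 14 := hWcard ▸ AddSubgroup.card_addSubgroup_dvd_card F
  have h2 : Nat.card F ≤ 3 ^ 8 := le_trans
    (le_of_eq (Nat.card_congr (AddSubgroup.addSubgroupOfEquivOfLe inf_le_left).toEquiv))
    (le_trans (AddSubgroup.card_le_of_le inf_le_right) hle8)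
  rw [hFc, ← Nat.card_eq_fintype_card, hWcard] at hmod
  obtain ⟨i, hi, e⟩ := (Nat.dvd_prime_pow (by norm_num)).1 h1
  rw [e] at hmod h2
  have hi8 : i ≤ 8 := (Nat.pow_le_pow_iff_right (by norm_num)).1 h2
  have key : ∀ i ≤ 8, (3 : ℕ) ^ i % 31 ≠ 3 ^ 14 % 31 := by decide
  exact key i hi8 hmod

end CfsgLib.ThUnique
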