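import Cfsg.Agent.Lib.ThUnique.Top

/-!
The setting from an isomorphism of involution centralisers.
-/

set_option autoImplicit false

namespace CfsgLib.ThUnique

open Cfsg.Spor CfsgLib.CosetEnum CfsgLib.ThPres

attribute [local irreducible] keyRun certL

universe u

variable {G : Type u} [Group G]

/-- an isomorphism of centralisers with fusion into the normal subgroup gives a setting -/
theorem exists_setting {t : G} (ht : orderOf t = 2) (φ : centA ≃* Subgroup.centralizer ({t} : Set G))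
    (h0 : ∀ x : centA, (x : Th) = toP (pGen 0) → (φ x : G) = t)
    (hw : ∃ v ∈ qCent, (φ v : G) ≠ t ∧ IsConj t (φ v : G)) : Nonempty (Setting t) := by
  let ι : centA →* G := (Subgroup.centralizer ({t} : Set G)).subtype.comp φ.toMonoidHom
  have hinj : Function.Injective ι := Subtype.val_injective.comp φ.injective
  have hr : ι.range = Subgroup.centralizer ({t} : Set G) := by
    refine le_antisymm ?_ fun y hy => ⟨φ.symm ⟨y, hy⟩, by simp [ι]⟩
    rintro _ ⟨x, rfl⟩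
    exact (φ x).2
  have ha : ι (cW [0]) = t := h0 _ (by rw [cW1 (by decide), toP_gen (by norm_num)])
  refine ⟨⟨ι, hinj, hr, ha, ?_⟩⟩
  obtain ⟨v, hv, hne, hconj⟩ := hw
  obtain ⟨g, hg⟩ := isConj_iff.1 hconj
  change g * t * g⁻¹ = ι v at hg
  have ht2 : t * t = 1 := by rw [← pow_two, ← ht, pow_orderOf_eq_one]
  have hv2 : v * v = 1 := hinj (by
    rw [map_mul, map_one, ← hg, show g * t * g⁻¹ * (g * t * g⁻¹) = g * (t * t) * g⁻¹ by group, ht2]; group)
  have hv1 : (v : Th) ≠ 1 := fun e => by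
    rw [show v = 1 from Subtype.ext e, map_one, conj_eq_one_iff] at hg
    rw [hg, orderOf_one] at ht
    norm_num at ht
  have hva : (v : Th) ≠ tg 0 := fun e => hne (h0 v (by rw [e, toP_gen (by norm_num)]))
  obtain ⟨h, hh, e⟩ := q_class (show (v : Th) ∈ qTh from hv) (congrArg Subtype.val hv2) hv1 hva
  have hι : ι v = (ι ⟨h, hh⟩)⁻¹ * ι (cW [2]) * ι ⟨h, hh⟩ := by
    rw [← map_inv, ← map_mul, ← map_mul]
    refine congrArg ι (Subtype.ext ?_)
    rw [Subgroup.coe_mul, Subgroup.coe_mul, Subgroup.coe_inv, cW1 (by decide)]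
    exact e
  refine ⟨g⁻¹ * (ι ⟨h, hh⟩)⁻¹, ?_⟩
  calc g⁻¹ * (ι ⟨h, hh⟩)⁻¹ * ι (cW [2]) * (g⁻¹ * (ι ⟨h, hh⟩)⁻¹)⁻¹
      = g⁻¹ * ((ι ⟨h, hh⟩)⁻¹ * ι (cW [2]) * ι ⟨h, hh⟩) * g := by group
    _ = t := by rw [← hι, ← hg]; group

end CfsgLib.ThUnique
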