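import Cfsg.Agent.Lib.ThUnique.RelData
import Cfsg.Agent.Lib.ThUnique.CandData

/-!
Kernel checks of the relators in the presented group.
-/

set_option autoImplicit false
set_option maxRecDepth 8000
set_option Elab.async false

namespace CfsgLib.ThUnique

open Cfsg.Spor CfsgLib.CosetEnum CfsgLib.ThPres CfsgLib.ThRep

attribute [local irreducible] ctWords csWords

theorem bRels_th : (bRels.all fun r => eqP r []) = true := by decide +kernel

theorem eight_th : eqP eightW [] = true := by decide +kernel

theorem cRels_low : ((cRels.take 8).all fun r => inC r && eqP r []) = true := by decide +kernel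

theorem cRels_high : ((cRels.drop 8).all fun r => inC r && eqA r []) = true := by decide +kernel

theorem wRels_th : ((wRels.take 4).all fun r => eqA r []) = true := by decide +kernel

theorem wRels_q : eqA (wRels.getD 4 []) [] = true := by decide +kernel

theorem cube_th : eqA (rhoW ++ rhoW ++ rhoW) etaW = true := by decide +kernel

theorem zList_w4 : eqA (wList.getD 4 []) (zList.getD 4 []) = true := by decide +kernel

theorem zList_w5 : eqA (wList.getD 5 []) (zList.getD 5 []) = true := by decide +kernel

theorem zList_w6 : eqA (wList.getD 6 []) (zList.getD 6 []) = true := by decide +kernel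

theorem zList_w7 : eqA (wList.getD 7 []) (zList.getD 7 []) = true := by decide +kernel

theorem udw_th : eqA udwW [] = true := by decide +kernel

end CfsgLib.ThUnique
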