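import Cfsg.Agent.Lib.ThUnique.Swap

/-!
Words for the relations between the letters of a group with the given involution centraliser.
-/

set_option autoImplicit false
set_option maxRecDepth 8000
set_option Elab.async false

namespace CfsgLib.ThUnique

open Cfsg.Spor CfsgLib.CosetEnum CfsgLib.ThPres CfsgLib.ThRep

attribute [local irreducible] ctWords csWords

/-- equality by the cheaper of the two tests -/
noncomputable def eqA (l m : List ℕ) : Bool :=
  bif (l.all fun g => Nat.blt g 9) && (m.all fun g => Nat.blt g 9) then eqP l m else eqM l m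

theorem eqA_th {l m : List ℕ} (h : eqA l m = true) : prodW tg l = prodW tg m := by
  unfold eqA at h
  cases hc : (l.all fun g => Nat.blt g 9) && (m.all fun g => Nat.blt g 9) <;> rw [hc] at h
  · exact eqM_th h
  · exact eqP_th h

/-- the element whose cube is compared -/
def rhoW : List ℕ := [3, 2, 3, 1, 0, 2, 1, 3, 9, 3, 4]

/-- the element of the centraliser compared with it -/
def etaW : List ℕ := [0, 9, 3, 2, 3, 4, 3, 2, 3]

/-- generators of the centraliser of two letters -/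
def c1G : List (List ℕ) := [[0], [2], [4], [5], [7], [9], qW, [6], [8], [10]]

/-- their images under the exchanging element -/
def c1I : List (List ℕ) := [[2], [0], [4], [5], [7], [9, 4], q1W, [6], [8], [4, 10]]

/-- one conjugation step -/
noncomputable def stepOK (h wd h' : List ℕ) : Bool :=
  (inC h && inC h' && wd.all fun i => Nat.blt i 10) &&
    (eqA ([3, 9, 3, 4] ++ h ++ [4, 3, 10, 3]) (wd.flatMap fun i => c1G.getD i []) &&
      eqA ([3, 2, 3] ++ (wd.flatMap fun i => c1I.getD i []) ++ [3, 2, 3]) h')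

/-- the fixed element of the middle step -/
def aMid : List ℕ := [6, 4, 3, 2, 3, 9, 3, 2, 3, 5, 4, 3, 2, 3, 9, 3, 2, 3, 5, 4, 3, 2, 3, 9, 3, 2, 3, 5, 5]

@[inherit_doc aMid] def cMid1 : List ℕ :=
  [0, 7, 6, 4, 6, 3, 2, 3, 9, 3, 2, 3, 7, 5, 4, 6, 3, 2, 3, 9, 3, 2, 3, 5]

@[inherit_doc aMid] def cMid2 : List ℕ :=
  [0, 6, 4, 3, 2, 3, 9, 3, 2, 3, 5, 4, 3, 2, 3, 9, 3, 2, 3, 5, 4, 3, 2, 3, 9, 3, 2, 3, 5, 5]

@[inherit_doc aMid] def hMid : List ℕ :=
  [5, 3, 2, 3, 9, 3, 2, 3, 6, 4, 5, 3, 2, 3, 9, 3, 2, 3, 6, 3, 2, 3, 9, 3, 2, 3, 5, 4, 6]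

/-- short representatives of the eight candidates -/
def zList : List (List ℕ) :=
  [[], [0], [2], [0, 2], [3, 2, 9, 3, 2, 3, 9, 3], [0, 3, 2, 9, 3, 2, 3, 9, 3], [2, 3, 2, 9, 3, 2, 3, 9, 3],
    [0, 2, 3, 2, 9, 3, 2, 3, 9, 3]]

/-- relators with the second letter that need no proof -/
def bRels : List (List ℕ) :=
  [[1, 1], [0, 1, 0, 1, 0, 1], [1, 2, 1, 2, 1, 2], [1, 3, 1, 3], [1, 4, 1, 4],
    (List.replicate 7 [1, 2, 3, 2, 3]).flatten]

/-- the relator of the product of the four involutions -/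
def eightW : List ℕ := (List.replicate 8 [1, 2, 3, 4]).flatten

/-- relators for the exchanging element -/
def wRels : List (List ℕ) :=
  [[1, 0, 2, 1, 0, 1, 0, 2, 1, 2], [1, 0, 2, 1, 2, 1, 0, 2, 1, 0], [1, 0, 2, 1, 4, 1, 0, 2, 1, 4],
    [1, 0, 2, 1, 9, 1, 0, 2, 1, 4, 10],
    [1, 0, 2, 1, 3, 2, 3, 9, 3, 2, 3, 1, 0, 2, 1, 3, 2, 3, 4, 3, 2, 3, 10, 4]]

/-- relators in the centraliser -/
def cRels : List (List ℕ) :=
  [[0, 0], [2, 2], [3, 3], [4, 4], [0, 4, 0, 4], [0, 2, 3, 2, 3, 2, 3, 2, 3], [2, 4, 2, 4],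
    [3, 4, 3, 4, 3, 4], [9, 10], [10, 9], [9, 9, 2, 0], [10, 0, 9, 0], [10, 2, 9, 2], [10, 4, 9, 4],
    [3, 4, 10, 3, 9, 3, 4, 10, 3, 9]]

/-- the relation still to be proved -/
def udwW : List ℕ := [3, 10, 3, 1, 2, 0, 1, 3, 9, 3, 1, 0, 2, 1, 2, 4, 3, 10, 3, 1, 2, 0, 1, 4, 10]

end CfsgLib.ThUnique
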