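import Cfsg.Agent.Lib.ThUnique.RelData

/-!
Kernel checks of the conjugation steps.
-/

set_option autoImplicit false
set_option maxRecDepth 8000
set_option Elab.async false

namespace CfsgLib.ThUnique

open Cfsg.Spor CfsgLib.CosetEnum CfsgLib.ThPres CfsgLib.ThRep

attribute [local irreducible] ctWords csWords

/-- the three parts of a step -/
noncomputable def stepW (h wd h' : List ℕ) : Bool := inC h && inC h' && wd.all fun i => Nat.blt i 10

@[inherit_doc stepW] noncomputable def stepL (h wd : List ℕ) : Bool :=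
  eqA ([3, 9, 3, 4] ++ h ++ [4, 3, 10, 3]) (wd.flatMap fun i => c1G.getD i [])

@[inherit_doc stepW] noncomputable def stepR (wd h' : List ℕ) : Bool :=
  eqA ([3, 2, 3] ++ (wd.flatMap fun i => c1I.getD i []) ++ [3, 2, 3]) h'

theorem stepOK_mk {h wd h' : List ℕ} (h0 : stepW h wd h' = true) (h1 : stepL h wd = true)
    (h2 : stepR wd h' = true) : stepOK h wd h' = true := by
  simp only [stepW, stepL, stepR] at h0 h1 h2
  rw [stepOK, h0, h1, h2]
  rfl

theorem step_a1 : stepOK [0] [0] [0, 2] = true := by decide +kernel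

theorem step_a2L : stepL [0, 2] [0, 4, 7, 2, 7, 6, 4, 3, 2, 7, 6, 3] = true := by decide +kernel

theorem step_a2R : stepR [0, 4, 7, 2, 7, 6, 4, 3, 2, 7, 6, 3] aMid = true := by decide +kernel

theorem step_a2 : stepOK [0, 2] [0, 4, 7, 2, 7, 6, 4, 3, 2, 7, 6, 3]
    aMid = true :=
  stepOK_mk (by decide +kernel) step_a2L step_a2R

theorem step_a3 : stepOK aMid [1] [0] = true := by decide +kernel

theorem step_c1L : stepL [2] [4, 7, 2, 7, 6, 4, 3, 2, 7, 6, 3] = true := by decide +kernel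

theorem step_c1R : stepR [4, 7, 2, 7, 6, 4, 3, 2, 7, 6, 3] cMid1 = true := by decide +kernel

theorem step_c1 : stepOK [2] [4, 7, 2, 7, 6, 4, 3, 2, 7, 6, 3]
    cMid1 = true :=
  stepOK_mk (by decide +kernel) step_c1L step_c1R

theorem step_c2L : stepL cMid1 [0, 7, 2, 6, 3, 2, 6, 3, 2, 6, 3, 3] = true := by decide +kernel

theorem step_c2R : stepR [0, 7, 2, 6, 3, 2, 6, 3, 2, 6, 3, 3] cMid2 = true := by decide +kernel

theorem step_c2 : stepOK cMid1 [0, 7, 2, 6, 3, 2, 6, 3, 2, 6, 3, 3]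
    cMid2 = true :=
  stepOK_mk (by decide +kernel) step_c2L step_c2R

theorem step_c3 : stepOK cMid2 [0, 1] [2] = true := by decide +kernel

theorem step_h1 : stepOK [4, 3, 2, 3, 9, 3, 2, 3] [2, 6] [3, 2, 3, 9, 3, 2, 3, 4] = true := by decide +kernel

theorem step_h2L : stepL [3, 2, 3, 9, 3, 2, 3, 4] [0, 3, 2, 7, 6, 3, 6, 7, 2, 3, 6, 7] = true := by decide +kernel

theorem step_h2R : stepR [0, 3, 2, 7, 6, 3, 6, 7, 2, 3, 6, 7] hMid = true := by decide +kernel

theorem step_h2 : stepOK [3, 2, 3, 9, 3, 2, 3, 4] [0, 3, 2, 7, 6, 3, 6, 7, 2, 3, 6, 7]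
    hMid = true :=
  stepOK_mk (by decide +kernel) step_h2L step_h2R

theorem step_h3L : stepL hMid [0, 6, 2] = true := by decide +kernel

theorem step_h3R : stepR [0, 6, 2] [4, 3, 2, 3, 9, 3, 2, 3] = true := by decide +kernel

theorem step_h3 : stepOK hMid [0, 6, 2]
    [4, 3, 2, 3, 9, 3, 2, 3] = true :=
  stepOK_mk (by decide +kernel) step_h3L step_h3R

theorem step_t1 : stepOK [7] [8] [8] = true := by decide +kernel

theorem step_t2 : stepOK [8] [4] [7] = true := by decide +kernel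

theorem eta_a : eqA (etaW ++ [0]) ([0] ++ etaW) = true := by decide +kernel

theorem eta_c : eqA (etaW ++ [2]) ([2] ++ etaW) = true := by decide +kernel

theorem eta_h : eqA (etaW ++ [4, 3, 2, 3, 9, 3, 2, 3]) ([4, 3, 2, 3, 9, 3, 2, 3] ++ etaW) = true := by
  decide +kernel

theorem eta_t : eqA (etaW ++ [7]) ([8] ++ etaW) = true := by decide +kernel

end CfsgLib.ThUnique
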