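import Cfsg.Agent.Lib.ThUnique.Bee
import Cfsg.Agent.Lib.ThUnique.Cand
import Cfsg.Agent.Lib.ThUnique.StepChecks
import Cfsg.Agent.Lib.ThUnique.RelChecks
import Cfsg.Agent.Lib.ThUnique.CheckW
import Cfsg.Agent.Lib.ThUnique.CheckZ0
import Cfsg.Agent.Lib.ThUnique.CheckZ1
import Cfsg.Agent.Lib.ThUnique.CheckZ2
import Cfsg.Agent.Lib.ThUnique.CheckZ3
import Cfsg.Agent.Lib.ThUnique.CheckZ4
import Cfsg.Agent.Lib.ThUnique.CheckZ5
import Cfsg.Agent.Lib.ThUnique.CheckZ6
import Cfsg.Agent.Lib.ThUnique.CheckZ7

/-!
The defining relators of the Thompson group hold in a group with the given involution centraliser.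
-/

set_option autoImplicit false
set_option linter.style.haveILetI false
set_option maxRecDepth 8000

namespace CfsgLib.ThUnique

open Cfsg.Spor CfsgLib.CosetEnum CfsgLib.ThPres CfsgLib.ThRep

attribute [local irreducible] keyRun wordMat certL ctWords csWords wList

universe u

/-- letters of the seven letter certificates -/
def lm7 : List ℕ := [0, 1, 2, 3, 4, 9, 10]

/-- letters of the five letter certificate -/
def lm5 : List ℕ := [0, 1, 2, 3, 4]

/-- a relator known to hold -/
noncomputable def relGood (r : List ℕ) : Bool :=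
  (inC r && eqP r []) || (bRels ++ [eightW] ++ wRels ++ cRels).contains r

/-- the check that a certificate speaks about the letters -/
noncomputable def certGood (C : Cert) (lm : List ℕ) (n : ℕ) : Bool :=
  Nat.beq C.invs.length C.K &&
    ((List.range C.K).all fun g => Nat.blt (C.inv g) C.K && Nat.blt (lm.getD g 11) 11 &&
      Nat.beq (lm.getD (C.inv g) 11) (inv11 (lm.getD g 11))) &&
    (C.rels.all fun r => r.all fun g => Nat.blt g C.K) &&
    ((C.rels.take n).all fun r => relGood (r.map fun g => lm.getD g 11))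

/-- the relator comparing the cube with a candidate -/
def cubeRel (j : ℕ) : List ℕ := rhoW ++ rhoW ++ rhoW ++ iw11 (zList.getD j [] ++ etaW)

/-- the certificates of the eight cases -/
def certZ : List Cert := [certZ0, certZ1, certZ2, certZ3, certZ4, certZ5, certZ6, certZ7]

theorem certW_good : certGood certW lm5 14 = true ∧ certW.rels.length = 14 := by decide +kernel

theorem certA_good : certGood certA lmA 4 = true ∧ certA.rels.length = 4 := by decide +kernel

theorem certU_good : certGood certU lm5 9 = true ∧ certU.rels.length = 9 := by decide +kernel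

theorem certZ_good : (certGood certZ0 lm7 38 && ((List.range 8).all fun j =>
    (certZ.getD j certZ0).invs == certZ0.invs && Nat.beq (certZ.getD j certZ0).K 7 &&
      (certZ.getD j certZ0).rels.map (fun r => r.map fun g => lm7.getD g 11) ==
        (certZ0.rels.take 38).map (fun r => r.map fun g => lm7.getD g 11) ++ [cubeRel j] &&
      (certZ.getD j certZ0).rels.all fun r => r.all fun g => Nat.blt g 7)) = true := by decide +kernel

theorem certW_runs : ((Nat.beq (certW.run 0 (eightW ++ eightW ++ eightW)) 0 &&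
    Nat.beq (certW.run 0 (certW.revInv eightW ++ [0] ++ eightW ++ [0])) 0 &&
    Nat.beq (certW.run 0 (certW.revInv eightW ++ [2] ++ eightW ++ [2])) 0 &&
    Nat.beq (certW.run 0 ([3] ++ eightW ++ [3] ++ eightW)) 0) &&
    (certW.subs == [[0], [2], [3], [4]] && Nat.beq certW.K 5) &&
    (eightW.all fun g => Nat.blt g 5) && ((certW.revInv eightW).all fun g => Nat.blt g 5)) = true := by
  decide +kernel

theorem certZ_subs : (((List.range 8).all fun j => Nat.beq j 0 ||
    ((certZ.getD j certZ0).subs == [[0], [2], [3], [4], [5]] && Nat.beq (certZ.getD j certZ0).N 1)) &&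
    certZ0.subs == [[0], [1], [2], [3], [4]] &&
    Nat.beq (certZ0.run 0 (udwW.map fun g => [0, 1, 2, 3, 4, 7, 7, 7, 7, 5, 6].getD g 7)) 0 &&
    ((udwW.map fun g => [0, 1, 2, 3, 4, 7, 7, 7, 7, 5, 6].getD g 7).all fun g => Nat.blt g 7) &&
    (certU.subs.all fun w => w.all fun g => [0, 2, 3, 4].contains g) && certA.subs == [] &&
    Nat.beq certA.K 4 && Nat.beq certU.K 5) = true := by decide +kernel

variable {G : Type u} [Group G] {z : G}

namespace Setting

variable (S : Setting z) (b : G)

/-- the eleven letters -/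
noncomputable def gL (g : ℕ) : G := if g = 1 then b else if g < 11 then S.L g else 1

/-- the letters in both groups -/
noncomputable def pairG (g : ℕ) : G × Th := (S.gL b g, tg g)

theorem gL_of {g : ℕ} (hg : inC [g] = true) : S.gL b g = S.L g := by
  simp only [inC, List.all_cons, List.all_nil, Bool.and_true, Bool.and_eq_true, Nat.blt_eq,
    Bool.not_eq_true'] at hg
  have h1 : g ≠ 1 := fun e => by rw [e] at hg; simp at hg
  rw [gL, if_neg h1, if_pos hg.1]

theorem gL_word : ∀ {l : List ℕ}, inC l = true → prodW (S.gL b) l = prodW S.L l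
  | [], _ => rfl
  | g :: l, h => by
    rw [show g :: l = [g] ++ l from rfl, inC_append, Bool.and_eq_true] at h
    rw [prodW_cons, prodW_cons, gL_of S b h.1, gL_word h.2]

theorem pair_word : ∀ l : List ℕ, prodW (S.pairG b) l = (prodW (S.gL b) l, prodW tg l)
  | [] => rfl
  | g :: l => by rw [prodW_cons, prodW_cons, prodW_cons, pair_word l]; rfl

theorem gL_one : S.gL b 1 = b := rfl

variable {S b} {w : G}

theorem gL_inv (hb : BeeData S w b) (g : ℕ) : S.gL b g * S.gL b (inv11 g) = 1 := by
  by_cases h : g < 11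
  · by_cases h1 : g = 1
    · subst h1; exact hb.sq
    · have hi : inC [g] = true ∧ inC [inv11 g] = true ∧ inC [g, inv11 g] = true := by
        interval_cases g <;> first | omega | decide
      rw [gL_of S b hi.1, gL_of S b hi.2.1]
      simpa using S.eq_of_th (l := [g, inv11 g]) (m := []) hi.2.2 (by decide) (by simpa using tg_inv g)
  · rw [inv11, List.getD_eq_default _ _ (by simp; omega), gL, if_neg (by omega), if_neg h, one_mul]

theorem prodW_inv (hb : BeeData S w b) : ∀ l : List ℕ, prodW (S.gL b) (iw11 l) = (prodW (S.gL b) l)⁻¹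
  | [] => by simp [iw11]
  | c :: l => by
    have e : iw11 (c :: l) = iw11 l ++ [inv11 c] := by simp [iw11]
    rw [e, prodW_append, prodW_inv hb l, prodW_cons, prodW_cons, prodW_nil, mul_one,
      eq_inv_of_mul_eq_one_right (gL_inv hb c), mul_inv_rev]

theorem zc_word (hb : BeeData S w b) :
    prodW (S.gL b) [1, 0, 2, 1] = w ∧ prodW (S.gL b) [1, 2, 0, 1] = w := by
  have e0 : S.gL b 0 = z := by rw [gL_of S b (by decide), S.L_zero]
  have e2 : S.gL b 2 = S.L 2 := gL_of S b (by decide)
  constructor <;> simp only [prodW_cons, prodW_nil, mul_one, gL_one, e0, e2] <;>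
    rw [← hb.u_eq] <;> simp only [mul_assoc]
  rw [← mul_assoc (S.L 2) z, S.c_comm, mul_assoc]

theorem bRels_g (hb : BeeData S w b) : ∀ r ∈ bRels, prodW (S.gL b) r = 1 := by
  have e0 : S.gL b 0 = z := by rw [gL_of S b (by decide), S.L_zero]
  have e2 : S.gL b 2 = S.L 2 := gL_of S b (by decide)
  have e3 : S.gL b 3 = S.L 3 := gL_of S b (by decide)
  have e4 : S.gL b 4 = S.L 4 := gL_of S b (by decide)
  intro r hr
  simp only [bRels, List.mem_cons, List.not_mem_nil, or_false] at hr
  rcases hr with rfl | rfl | rfl | rfl | rfl | rfl <;>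
    simp only [List.replicate_succ, List.replicate_zero, List.flatten_cons, List.flatten_nil,
      List.cons_append, List.nil_append, prodW_cons, prodW_nil, mul_one, gL_one, e0, e2, e3, e4]
  · exact hb.sq
  · simpa only [mul_assoc] using hb.zb
  · have h := cube_conj (S.L 2) hb.cb
    have : b * S.L 2 * (b * S.L 2) * (b * S.L 2) = 1 := by
      have e : b * S.L 2 = (S.L 2)⁻¹ * (S.L 2 * b) * S.L 2 := by group
      have h' := cube_conj (S.L 2)⁻¹ hb.cb
      rw [inv_inv, ← e] at h'
      exact h'
    simpa only [mul_assoc] using this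
  · rw [show b * (S.L 3 * (b * S.L 3)) = b * (S.L 3 * b) * S.L 3 by group, ← hb.d_comm, ← mul_assoc,
      hb.sq, one_mul, S.kc.1]
  · rw [show b * (S.L 4 * (b * S.L 4)) = b * (S.L 4 * b) * S.L 4 by group, ← hb.e_comm, ← mul_assoc,
      hb.sq, one_mul, S.kc.2.1]
  · have h := hb.seven
    simp only [pow_succ, pow_zero, one_mul, mul_assoc] at h
    exact h

theorem cRels_g : ∀ r ∈ cRels, prodW (S.gL b) r = 1 ∧ prodW tg r = 1 := by
  intro r hr
  have h1 := cRels_low
  have h2 := cRels_high
  simp only [List.all_eq_true, Bool.and_eq_true] at h1 h2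
  have key : inC r = true ∧ prodW tg r = 1 := by
    rw [← List.take_append_drop 8 cRels, List.mem_append] at hr
    rcases hr with h | h
    · exact ⟨(h1 r h).1, by simpa using eqP_th (h1 r h).2⟩
    · exact ⟨(h2 r h).1, by simpa using eqA_th (h2 r h).2⟩
  refine ⟨?_, key.2⟩
  rw [gL_word S b key.1]
  simpa using S.eq_of_th key.1 (m := []) (by decide) (by simpa using key.2)

/-- the action of the exchanging element on a generator -/
theorem w_gen (hw : SwapData S w) {i : ℕ} (hi : i < 10) :
    w * prodW S.L (c1G.getD i []) * w = prodW S.L (c1I.getD i []) := by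
  obtain ⟨-, -, -, -, -, -, -, -, -, h6, h8⟩ := S.kc
  have h10 : S.L 10 = (S.L 9)⁻¹ :=
    eq_inv_of_mul_eq_one_right (by
      simpa using S.eq_of_th (l := [9, 10]) (m := []) (by decide) (by decide) (by simpa [inv11] using tg_inv 9))
  have hwi := inv2 hw.sq
  interval_cases i <;> simp only [c1G, c1I, List.getD_cons_zero, List.getD_cons_succ, prodW_cons, prodW_nil,
    mul_one, S.L_zero]
  · exact hw.a_eq
  · exact swap_comm hw.sq hw.a_eq
  · exact hw.e_eq
  · exact hw.s_eq
  · exact hw.t_eq
  · exact hw.u_eq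
  · exact hw.q_eq
  · rw [h6]
    calc w * (S.L 5)⁻¹ * w = (w⁻¹ * S.L 5 * w⁻¹)⁻¹ := by group
      _ = _ := by rw [hwi, hw.s_eq]
  · rw [h8]
    calc w * (S.L 7)⁻¹ * w = (w⁻¹ * S.L 7 * w⁻¹)⁻¹ := by group
      _ = _ := by rw [hwi, hw.t_eq]
  · rw [h10]
    calc w * (S.L 9)⁻¹ * w = (w⁻¹ * S.L 9 * w⁻¹)⁻¹ := by group
      _ = _ := by rw [hwi, hw.u_eq, mul_inv_rev, inv2 S.kc.2.1]

theorem wRels_g (hw : SwapData S w) (hb : BeeData S w b) : ∀ r ∈ wRels, prodW (S.gL b) r = 1 := by
  have key : ∀ i < 10, prodW (S.gL b) ([1, 0, 2, 1] ++ c1G.getD i [] ++ [1, 0, 2, 1] ++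
      iw11 (c1I.getD i [])) = 1 := by
    intro i hi
    have hin : inC (c1G.getD i []) = true ∧ inC (c1I.getD i []) = true := by
      interval_cases i <;> decide
    simp only [prodW_append, (zc_word hb).1, prodW_inv hb, gL_word S b hin.1, gL_word S b hin.2]
    rw [w_gen hw hi, mul_inv_cancel]
  intro r hr
  simp only [wRels, List.mem_cons, List.not_mem_nil, or_false] at hr
  rcases hr with rfl | rfl | rfl | rfl | rfl
  exacts [key 0 (by norm_num), key 1 (by norm_num), key 2 (by norm_num), key 5 (by norm_num),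
    key 6 (by norm_num)]

theorem wRels_tg : ∀ r ∈ wRels, prodW tg r = 1 := by
  intro r hr
  have h1 := wRels_th
  simp only [List.all_eq_true] at h1
  rw [← List.take_append_drop 4 wRels, List.mem_append] at hr
  rcases hr with h | h
  · simpa using eqA_th (h1 r h)
  · obtain rfl : r = wRels.getD 4 [] := by
      simpa [wRels] using h
    simpa using eqA_th wRels_q

theorem bRels_tg : ∀ r ∈ bRels, prodW tg r = 1 := fun r hr => by
  have h := bRels_th
  simp only [List.all_eq_true] at h
  simpa using eqP_th (h r hr)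

/-- the letters of a certificate in both groups -/
noncomputable def gP (S : Setting z) (b : G) (C : Cert) (lm : List ℕ) (g : ℕ) : G × Th :=
  if g < C.K then S.pairG b (lm.getD g 11) else 1

theorem gP_word {C : Cert} {lm : List ℕ} {l : List ℕ} (hl : ∀ g ∈ l, g < C.K) :
    prodW (gP S b C lm) l = prodW (S.pairG b) (l.map fun g => lm.getD g 11) := by
  rw [prodW_congr (gen := gP S b C lm) (gen' := fun g => S.pairG b (lm.getD g 11))
    fun g hg => (if_pos (hl g hg) : gP S b C lm g = _)]
  simp only [prodW, List.map_map]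
  rfl

theorem model_pair (hw : SwapData S w) (hb : BeeData S w b) {C : Cert} {lm : List ℕ} {n : ℕ}
    (h8 : prodW (S.gL b) eightW = 1 ∨ ∀ r ∈ C.rels.take n, (r.map fun g => lm.getD g 11) ≠ eightW)
    (h : certGood C lm n = true) (hn : C.rels.length ≤ n) {H : Subgroup (G × Th)}
    (hs : ∀ v ∈ C.subs, prodW (gP S b C lm) v ∈ H) : Model C H (gP S b C lm) := by
  simp only [certGood, Bool.and_eq_true, List.all_eq_true, List.mem_range, Nat.blt_eq] at h
  obtain ⟨⟨⟨hK, hI⟩, hl⟩, hR⟩ := h
  refine ⟨by simp [gP], fun g => ?_, fun r hr => ?_, hs⟩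
  · by_cases hg : g < C.K
    · obtain ⟨⟨h1, -⟩, h2⟩ := hI g hg
      simp only [gP, if_pos hg, if_pos h1, Nat.eq_of_beq_eq_true h2]
      exact Prod.ext (gL_inv hb _) (tg_inv _)
    · rw [ThPres.inv_of_ge (Nat.eq_of_beq_eq_true hK) (by omega)]
      simp [gP, hg]
  · rw [List.take_of_length_le hn] at hR h8
    rw [gP_word (hl r hr)]
    show prodW (S.pairG b) _ = 1
    rw [pair_word]
    have := hR r hr
    simp only [relGood, Bool.or_eq_true, Bool.and_eq_true, List.contains_iff_mem, List.mem_append,
      List.mem_singleton] at this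
    rcases this with ⟨h1, h2⟩ | (((h1 | h1) | h1) | h1)
    · refine Prod.ext ?_ (by simpa using eqP_th h2)
      rw [gL_word S b h1]
      simpa using S.eq_of_th h1 (m := []) (by decide) (by simpa using eqP_th h2)
    · exact Prod.ext (bRels_g hb _ h1) (bRels_tg _ h1)
    · rw [h1]
      refine Prod.ext ?_ (by simpa using eqP_th eight_th)
      rcases h8 with h8 | h8
      · exact h8
      · exact absurd h1 (h8 r hr)
    · exact Prod.ext (wRels_g hw hb _ h1) (wRels_tg _ h1)
    · exact Prod.ext (cRels_g _ h1).1 (cRels_g (S := S) (b := b) _ h1).2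

/-- elements with equal coordinates in the centraliser -/
noncomputable def diag (S : Setting z) : Subgroup (G × Th) := (S.ι.prod centA.subtype).range

theorem diag_mem {g : ℕ} (hg : inC [g] = true) : S.pairG b g ∈ diag S :=
  ⟨cW [g], Prod.ext (gL_of S b hg).symm (cW1 hg)⟩

theorem diag_one {p : G × Th} (hp : p ∈ diag S) (h : p.2 = 1) : p.1 = 1 := by
  obtain ⟨v, rfl⟩ := hp
  show S.ι v = 1
  rw [show v = 1 from Subtype.ext h, _root_.map_one]

theorem certW_model (hw : SwapData S w) (hb : BeeData S w b) : Model certW (diag S) (gP S b certW lm5) := by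
  refine model_pair hw hb (Or.inr (fun r hr => ?_)) certW_good.1 certW_good.2.le ?_
  · have h : ((certW.rels.take 14).all fun r => !((r.map fun g => lm5.getD g 11) == eightW)) = true := by
      decide +kernel
    simp only [List.all_eq_true, Bool.not_eq_true', beq_eq_false_iff_ne] at h
    exact h r hr
  · have h := certW_runs
    simp only [Bool.and_eq_true, beq_iff_eq] at h
    intro v hv
    rw [h.1.1.2.1] at hv
    have hK := Nat.eq_of_beq_eq_true h.1.1.2.2
    simp only [List.mem_cons, List.not_mem_nil, or_false] at hv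
    rcases hv with rfl | rfl | rfl | rfl <;> rw [prodW_cons, prodW_nil, mul_one, gP, hK, if_pos (by norm_num)] <;>
      exact diag_mem (by decide)

/-- the product of the four involutions has order dividing eight -/
theorem eight_one (hw : SwapData S w) (hb : BeeData S w b) : prodW (S.gL b) eightW = 1 := by
  have m := certW_model hw hb
  have h := certW_runs
  simp only [Bool.and_eq_true, beq_iff_eq, List.all_eq_true, Nat.blt_eq] at h
  obtain ⟨⟨⟨⟨⟨⟨r3, ra⟩, rc⟩, rd⟩, -, hK⟩, hl⟩, hl'⟩ := h
  have hK' := Nat.eq_of_beq_eq_true hK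
  have eid : ∀ l : List ℕ, (∀ g ∈ l, g < 5) → (l.map fun g => lm5.getD g 11) = l := fun l hl => by
    conv_rhs => rw [← List.map_id l]
    refine List.map_congr_left fun g hg => ?_
    have := hl g hg
    interval_cases g <;> rfl
  have tg8 : prodW tg eightW = 1 := by simpa using eqP_th eight_th
  have trick : ∀ l : List ℕ, (∀ g ∈ l, g < 5) → Nat.beq (certW.run 0 l) 0 = true → prodW tg l = 1 →
      prodW (S.gL b) l = 1 := by
    intro l hl5 hr ht
    have := mem_of_run_eq_zero certW_complete m (fun g hg => hK'.symm ▸ hl5 g hg) (Nat.eq_of_beq_eq_true hr)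
    rw [gP_word (fun g hg => hK'.symm ▸ hl5 g hg)] at this
    change prodW (S.pairG b) _ ∈ _ at this
    rw [eid l hl5, pair_word] at this
    exact diag_one this ht
  have app : ∀ {p q : List ℕ}, (∀ g ∈ p, g < 5) → (∀ g ∈ q, g < 5) → ∀ g ∈ p ++ q, g < 5 :=
    fun hp hq g hg => (List.mem_append.1 hg).elim (hp g) (hq g)
  have h0 : ∀ g ∈ [0], g < 5 := by decide
  have h2 : ∀ g ∈ [2], g < 5 := by decide
  have h3 : ∀ g ∈ [3], g < 5 := by decide
  have erev : prodW (S.gL b) (certW.revInv eightW) = (prodW (S.gL b) eightW)⁻¹ ∧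
      prodW tg (certW.revInv eightW) = (prodW tg eightW)⁻¹ := by
    have e : certW.revInv eightW = iw11 eightW := by decide +kernel
    exact ⟨by rw [e, prodW_inv hb], by rw [e, prodW_iw11]⟩
  have q3 := trick _ (app (app hl hl) hl) r3 (by simp [prodW_append, tg8])
  have qa := trick _ (app (app (app hl' h0) hl) h0) ra (by
    simp [prodW_append, erev.2, tg8]; simpa using tg_sq (g := 0) (by norm_num))
  have qc := trick _ (app (app (app hl' h2) hl) h2) rc (by
    simp [prodW_append, erev.2, tg8]; simpa using tg_sq (g := 2) (by norm_num))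
  have qd := trick _ (app (app (app h3 hl) h3) hl) rd (by
    simp [prodW_append, tg8]; simpa using tg_sq (g := 3) (by norm_num))
  set f := prodW (S.gL b) eightW with hf
  have e0 : S.gL b 0 = z := by rw [gL_of S b (by decide), S.L_zero]
  have e2 : S.gL b 2 = S.L 2 := gL_of S b (by decide)
  have e3 : S.gL b 3 = S.L 3 := gL_of S b (by decide)
  simp only [prodW_append, prodW_cons, prodW_nil, mul_one, erev.1, ← hf, e0, e2, e3] at q3 qa qc qd
  have hfz : Commute f z := by
    show f * z = z * f
    calc f * z = z * z * (f * z) := by rw [S.z_sq, one_mul]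
      _ = z * f * (f⁻¹ * z * f * z) := by group
      _ = _ := by rw [qa, mul_one]
  have hfc : Commute f (S.L 2) := by
    show f * S.L 2 = S.L 2 * f
    calc f * S.L 2 = S.L 2 * S.L 2 * (f * S.L 2) := by rw [S.c_sq, one_mul]
      _ = S.L 2 * f * (f⁻¹ * S.L 2 * f * S.L 2) := by group
      _ = _ := by rw [qc, mul_one]
  have hft : Commute f (S.L 7) := by
    have hall : ∀ g ∈ eightW, Commute (S.gL b g) (S.L 7) := by
      intro g hg
      have : g ∈ [1, 2, 3, 4] := by
        have hh : (eightW.all fun g => [1, 2, 3, 4].contains g) = true := by decide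
        simp only [List.all_eq_true, List.contains_iff_mem] at hh
        exact hh g hg
      obtain ⟨-, -, -, -, h37, h47, -, h27, -⟩ := S.kc
      simp only [List.mem_cons, List.not_mem_nil, or_false] at this
      rcases this with rfl | rfl | rfl | rfl
      · exact hb.t_comm
      all_goals rw [gL_of S b (by decide)]; assumption
    exact (Commute.list_prod_left _ _ (by
      intro x hx
      obtain ⟨g, hg, rfl⟩ := List.mem_map.1 hx
      exact hall g hg))
  obtain ⟨v, hv⟩ := S.lift hfz
  have t2 : (v : Th) * tg 2 = tg 2 * v := by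
    have := S.th_of_comm (v := v) (w := cW [2]) (by rw [hv]; exact hfc)
    rwa [cW1 (by decide)] at this
  have t7 : (v : Th) * tg 7 = tg 7 * v := by
    have := S.th_of_comm (v := v) (w := cW [7]) (by rw [hv]; exact hft)
    rwa [cW1 (by decide)] at this
  have v3 : v * v * v = 1 := S.inj (by rw [_root_.map_mul, _root_.map_mul, hv, q3, _root_.map_one])
  have vd : cW [3] * v * cW [3] * v = 1 := S.inj (by
    rw [_root_.map_mul, _root_.map_mul, _root_.map_mul, hv, _root_.map_one]
    exact qd)
  have vd' := congrArg Subtype.val vd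
  simp only [Subgroup.coe_mul, cW1 (show inC [3] = true by decide), Subgroup.coe_one] at vd'
  have := cand_d v.2 t2 t7 (congrArg Subtype.val v3) vd'
  rw [← hv, show v = 1 from Subtype.ext this, _root_.map_one]

/-- one conjugation step in the group -/
theorem conj_step (hw : SwapData S w) (hb : BeeData S w b) {h wd h' : List ℕ}
    (hs : stepOK h wd h' = true) :
    prodW (S.gL b) rhoW * prodW S.L h * (prodW (S.gL b) rhoW)⁻¹ = prodW S.L h' := by
  simp only [stepOK, Bool.and_eq_true, List.all_eq_true, Nat.blt_eq] at hs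
  obtain ⟨⟨⟨hh, hh'⟩, hwd⟩, e1, e2⟩ := hs
  have hflat : ∀ (T : List (List ℕ)), (∀ i < 10, inC (T.getD i []) = true) →
      inC (wd.flatMap fun i => T.getD i []) = true := by
    intro T hT
    simp only [inC, List.all_eq_true, List.mem_flatMap]
    rintro g ⟨i, hi, hg⟩
    have := hT i (hwd i hi)
    simp only [inC, List.all_eq_true] at this
    exact this g hg
  have iG := hflat c1G (by intro i hi; interval_cases i <;> decide)
  have iI := hflat c1I (by intro i hi; interval_cases i <;> decide)
  have f1 := S.eq_of_th (by rw [inC_append, inC_append, hh]; decide) iG (eqA_th e1)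
  have f2 := S.eq_of_th (by rw [inC_append, inC_append, iI]; decide) hh' (eqA_th e2)
  have act : ∀ l : List ℕ, (∀ i ∈ l, i < 10) →
      w * prodW S.L (l.flatMap fun i => c1G.getD i []) * w = prodW S.L (l.flatMap fun i => c1I.getD i []) := by
    intro l hl
    induction l with
    | nil => simp [hw.sq]
    | cons i l ih =>
      rw [List.flatMap_cons, List.flatMap_cons, prodW_append, prodW_append,
        ← ih (fun c hc => hl c (List.mem_cons_of_mem _ hc)), ← w_gen hw (hl i List.mem_cons_self)]
      calc w * (prodW S.L (c1G.getD i []) * prodW S.L (l.flatMap fun i => c1G.getD i [])) * w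
          = w * prodW S.L (c1G.getD i []) * (w * w) * prodW S.L (l.flatMap fun i => c1G.getD i []) * w := by
            rw [hw.sq]; group
        _ = _ := by group
  have eP : prodW (S.gL b) rhoW = prodW S.L [3, 2, 3] * w * prodW S.L [3, 9, 3, 4] := by
    rw [show rhoW = [3, 2, 3] ++ [1, 0, 2, 1] ++ [3, 9, 3, 4] from rfl, prodW_append, prodW_append,
      (zc_word hb).1, gL_word S b (by decide), gL_word S b (by decide)]
  have ePi : (prodW S.L [3, 9, 3, 4])⁻¹ = prodW S.L [4, 3, 10, 3] := by
    refine inv_eq_of_mul_eq_one_right ?_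
    rw [← prodW_append]
    refine (?_ : _ = prodW S.L []).trans (prodW_nil _)
    exact S.eq_of_th (l := [3, 9, 3, 4] ++ [4, 3, 10, 3]) (m := []) (by decide) (by decide)
      (by rw [show [4, 3, 10, 3] = iw11 [3, 9, 3, 4] from rfl, prodW_append, prodW_iw11]; simp [mul_assoc])
  simp only [prodW_append] at f1 f2
  rw [eP, ← f2, ← act wd hwd, ← f1, mul_inv_rev, mul_inv_rev, ePi, inv2 hw.sq,
    show (prodW S.L [3, 2, 3])⁻¹ = prodW S.L [3, 2, 3] by rw [X_word, inv2 S.X_sq]]
  group

/-- the element of the centraliser equal to the cube -/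
theorem cube_comm (hw : SwapData S w) (hb : BeeData S w b) :
    ∃ v : centA, S.ι v = prodW (S.gL b) (rhoW ++ rhoW ++ rhoW) * (prodW S.L etaW)⁻¹ ∧
      (v : Th) * tg 2 = tg 2 * v ∧ (v : Th) * tg 7 = tg 7 * v ∧
      (v : Th) * prodW tg hW = prodW tg hW * v := by
  set R := prodW (S.gL b) rhoW with hR
  set E := prodW S.L etaW with hE
  have three : ∀ {h0 h1 h2 h3 : List ℕ} {w1 w2 w3 : List ℕ}, stepOK h0 w1 h1 = true →
      stepOK h1 w2 h2 = true → stepOK h2 w3 h3 = true →
      R * R * R * prodW S.L h0 * (R * R * R)⁻¹ = prodW S.L h3 := by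
    intro h0 h1 h2 h3 w1 w2 w3 a1 a2 a3
    rw [← conj_step hw hb a3, ← conj_step hw hb a2, ← conj_step hw hb a1, ← hR]
    group
  have conjE : ∀ {h k : List ℕ}, inC h = true → inC k = true → eqA (etaW ++ h) (k ++ etaW) = true →
      E * prodW S.L h * E⁻¹ = prodW S.L k := by
    intro h k hh hk e
    have := S.eq_of_th (by rw [inC_append, hh]; decide) (by rw [inC_append, hk]; decide) (eqA_th e)
    rw [prodW_append, prodW_append] at this
    rw [this, mul_inv_cancel_right]
  have comm : ∀ {h k : List ℕ}, E * prodW S.L h * E⁻¹ = prodW S.L k →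
      R * R * R * prodW S.L h * (R * R * R)⁻¹ = prodW S.L k →
      Commute (prodW (S.gL b) (rhoW ++ rhoW ++ rhoW) * E⁻¹) (prodW S.L k) := by
    intro h k h1 h2
    rw [prodW_append, prodW_append, ← hR]
    show _ = _
    calc R * R * R * E⁻¹ * prodW S.L k = R * R * R * E⁻¹ * (E * prodW S.L h * E⁻¹) := by rw [h1]
      _ = (R * R * R * prodW S.L h * (R * R * R)⁻¹) * (R * R * R * E⁻¹) := by group
      _ = _ := by rw [h2]
  have ca := comm (h := [0]) (k := [0]) (conjE (by decide) (by decide) eta_a) (three step_a1 step_a2 step_a3)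
  have cc := comm (h := [2]) (k := [2]) (conjE (by decide) (by decide) eta_c) (three step_c1 step_c2 step_c3)
  have chh := comm (h := [4, 3, 2, 3, 9, 3, 2, 3]) (k := [4, 3, 2, 3, 9, 3, 2, 3])
    (conjE (by decide) (by decide) eta_h) (three step_h1 step_h2 step_h3)
  have ct := comm (h := [7]) (k := [8]) (conjE (by decide) (by decide) eta_t) (three step_t1 step_t2 step_t1)
  simp only [prodW_cons, prodW_nil, mul_one, S.L_zero, S.kc.2.2.2.2.2.2.2.2.2.2] at ca cc ct
  obtain ⟨v, hv⟩ := S.lift ca
  refine ⟨v, hv, ?_, ?_, ?_⟩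
  · have := S.th_of_comm (v := v) (w := cW [2]) (by rw [hv]; exact cc)
    rwa [cW1 (by decide)] at this
  · have := S.th_of_comm (v := v) (w := cW [7]) (by rw [hv]; simpa [Setting.L] using ct.inv_right.eq)
    rwa [cW1 (by decide)] at this
  · have := S.th_of_comm (v := v) (w := cW hW) (by rw [hv, S.el_word (by decide)]; exact chh)
    rwa [cW_coe (by decide)] at this

theorem b_not_comm (hb : BeeData S w b) : b * z ≠ z * b := by
  intro e
  have hzb : z * b * (z * b) = 1 := by
    rw [show z * b * (z * b) = z * (b * z) * b by group, e, ← mul_assoc, S.z_sq, one_mul, hb.sq]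
  have h1 : z * b = 1 := by
    have := hb.zb
    rwa [hzb, one_mul] at this
  have hbz : b = z := (eq_inv_of_mul_eq_one_right h1).trans (inv2 S.z_sq)
  have h2 := hb.cb
  rw [hbz, show S.L 2 * z * (S.L 2 * z) = S.L 2 * (z * S.L 2) * z by group, ← S.c_comm, ← mul_assoc (S.L 2) (S.L 2) z,
    S.c_sq, one_mul, S.z_sq, one_mul] at h2
  exact S.c_ne.1 ((eq_inv_of_mul_eq_one_left h2).trans (inv2 S.z_sq))

/-- the cube lies in the centraliser as the named element -/
theorem cube_rel (hw : SwapData S w) (hb : BeeData S w b) : prodW (S.gL b) (cubeRel 0) = 1 := by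
  obtain ⟨v, hv, t2, t7, th⟩ := cube_comm hw hb
  obtain ⟨l, hl, e⟩ := cand_w v.2 t2 t7 th
  have hz : ∃ j < 8, (v : Th) = prodW tg (zList.getD j []) := by
    obtain ⟨i, hi, rfl⟩ := List.getElem_of_mem hl
    have h8 : wList.length = 8 := by decide +kernel
    have hlow : ((List.range 4).all fun i => wList.getD i [] == zList.getD i []) = true := by decide +kernel
    simp only [List.all_eq_true, List.mem_range, beq_iff_eq] at hlow
    refine ⟨i, h8 ▸ hi, ?_⟩
    rw [e, ← List.getD_eq_getElem _ [] hi]
    rw [h8] at hi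
    by_cases h4 : i < 4
    · rw [hlow i h4]
    · interval_cases i
      exacts [eqA_th zList_w4, eqA_th zList_w5, eqA_th zList_w6, eqA_th zList_w7]
  obtain ⟨j, hj, ej⟩ := hz
  have hin : inC (zList.getD j [] ++ etaW) = true ∧ inC (zList.getD j []) = true := by
    interval_cases j <;> decide
  have hrel : prodW (S.gL b) (cubeRel j) = 1 := by
    rw [cubeRel, prodW_append, prodW_inv hb, gL_word S b hin.1, prodW_append S.L, ← S.of_th hin.2 ej, hv]
    group
  by_contra hne
  have hj0 : j ≠ 0 := fun e => hne (e ▸ hrel)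
  set C := certZ.getD j certZ0 with hC
  have hgood := certZ_good
  simp only [Bool.and_eq_true, List.all_eq_true, List.mem_range, beq_iff_eq, Nat.blt_eq] at hgood
  obtain ⟨h0, hall⟩ := hgood
  obtain ⟨⟨⟨hinv, hK⟩, hrels⟩, hlet⟩ := hall j hj
  have hK' := Nat.eq_of_beq_eq_true hK
  have hsub := certZ_subs
  simp only [Bool.and_eq_true, List.all_eq_true, List.mem_range, beq_iff_eq, Bool.or_eq_true] at hsub
  obtain ⟨hs5, hN⟩ := (hsub.1.1.1.1.1.1.1 j hj).resolve_left fun e => hj0 (Nat.eq_of_beq_eq_true e)
  rw [← hC] at hinv hrels hlet hs5 hN hK'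
  let gen : ℕ → G := fun g => if g < 7 then S.gL b (lm7.getD g 11) else 1
  have m : Model C S.ι.range gen := by
    refine ⟨by simp [gen, hK'], fun g => ?_, fun r hr => ?_, fun v hv => ?_⟩
    · have hg7 : ∀ g, C.inv g = certZ0.inv g := fun g => by rw [Cert.inv, Cert.inv, hinv]
      have hI := h0
      simp only [certGood, Bool.and_eq_true, List.all_eq_true, List.mem_range, Nat.blt_eq] at hI
      obtain ⟨⟨⟨hlen, hI⟩, -⟩, -⟩ := hI
      have hK0 : certZ0.K = 7 := rfl
      rw [hg7]
      by_cases hg : g < 7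
      · obtain ⟨⟨h1, -⟩, h2⟩ := hI g (hK0.symm ▸ hg)
        rw [hK0] at h1
        simp only [gen, if_pos hg, if_pos h1, Nat.eq_of_beq_eq_true h2]
        exact gL_inv hb _
      · rw [ThPres.inv_of_ge (Nat.eq_of_beq_eq_true hlen) (by omega)]
        simp [gen, hg]
    · have e : prodW gen r = prodW (S.gL b) (r.map fun g => lm7.getD g 11) := by
        rw [prodW_congr (gen' := fun g => S.gL b (lm7.getD g 11)) fun g hg => if_pos (hlet r hr g hg)]
        simp only [prodW, List.map_map]; rfl
      rw [e]
      have hm : (r.map fun g => lm7.getD g 11) ∈ C.rels.map (fun r => r.map fun g => lm7.getD g 11) :=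
        List.mem_map_of_mem hr
      rw [hrels, List.mem_append, List.mem_singleton] at hm
      rcases hm with hm | hm
      · obtain ⟨r0, hr0, e0⟩ := List.mem_map.1 hm
        rw [← e0]
        have hR := h0
        simp only [certGood, Bool.and_eq_true, List.all_eq_true, List.mem_range, Nat.blt_eq] at hR
        have := hR.2 r0 hr0
        simp only [relGood, Bool.or_eq_true, Bool.and_eq_true, List.contains_iff_mem, List.mem_append,
          List.mem_singleton] at this
        rcases this with ⟨h1, h2⟩ | (((h1 | h1) | h1) | h1)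
        · rw [gL_word S b h1]
          simpa using S.eq_of_th h1 (m := []) (by decide) (by simpa using eqP_th h2)
        · exact bRels_g hb _ h1
        · rw [h1]; exact eight_one hw hb
        · exact wRels_g hw hb _ h1
        · exact (cRels_g _ h1).1
      · rw [hm]; exact hrel
    · rw [hs5] at hv
      simp only [List.mem_cons, List.not_mem_nil, or_false] at hv
      rcases hv with rfl | rfl | rfl | rfl | rfl <;>
        rw [prodW_cons, prodW_nil, mul_one]
      exacts [⟨cW [0], ((gL_of S b (by decide)).symm : S.ι (cW [0]) = S.gL b 0)⟩,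
        ⟨cW [2], ((gL_of S b (by decide)).symm : S.ι (cW [2]) = S.gL b 2)⟩,
        ⟨cW [3], ((gL_of S b (by decide)).symm : S.ι (cW [3]) = S.gL b 3)⟩,
        ⟨cW [4], ((gL_of S b (by decide)).symm : S.ι (cW [4]) = S.gL b 4)⟩,
        ⟨cW [9], ((gL_of S b (by decide)).symm : S.ι (cW [9]) = S.gL b 9)⟩]
  have hb1 : b ∈ S.ι.range := by
    have hcomp : C.Complete := by
      rw [hC]
      interval_cases j
      exacts [absurd rfl hj0, certZ1_complete, certZ2_complete, certZ3_complete, certZ4_complete,
        certZ5_complete, certZ6_complete, certZ7_complete]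
    have h1 := (coreRep_run hcomp m [1] 0 hcomp.N_pos (by simp [hK'])).1
    have := mem_of_run_eq_zero hcomp m (w := [1]) (by simp [hK'])
      (by have := Nat.eq_of_beq_eq_true hN; omega)
    simpa [gen, lm7, gL_one] using this
  exact b_not_comm hb (S.comm_iff.1 hb1)

/-- the group of the five letters maps faithfully to the presented group -/
theorem five_faithful (hw : SwapData S w) (hb : BeeData S w b) {p : G × Th}
    (hp : p ∈ Subgroup.closure {y | ∃ g < certU.K, gP S b certU lm5 g = y}) (h : p.2 = 1) : p = 1 := by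
  have hsub := certZ_subs
  simp only [Bool.and_eq_true, List.all_eq_true, beq_iff_eq, List.contains_iff_mem] at hsub
  obtain ⟨⟨⟨⟨-, hsU⟩, hsA⟩, hKA⟩, hKU⟩ := hsub
  have hKA' := Nat.eq_of_beq_eq_true hKA
  have hKU' := Nat.eq_of_beq_eq_true hKU
  have h8 := eight_one hw hb
  have mA : Model certA (⊥ : Subgroup (G × Th)) (gP S b certA lmA) :=
    model_pair hw hb (Or.inl h8) certA_good.1 certA_good.2.le fun v hv => by simp [hsA] at hv
  obtain ⟨fA, cA⟩ := finite_card_le certA_complete mA 1 (by simp)
  set HA := Subgroup.closure {y | ∃ g < certA.K, gP S b certA lmA g = y}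
  have mU : Model certU HA (gP S b certU lm5) := by
    refine model_pair hw hb (Or.inl h8) certU_good.1 certU_good.2.le fun v hv => ?_
    refine Subgroup.list_prod_mem _ fun x hx => ?_
    obtain ⟨g, hg, rfl⟩ := List.mem_map.1 hx
    have := hsU v hv g hg
    simp only [List.mem_cons, List.not_mem_nil, or_false] at this
    rcases this with rfl | rfl | rfl | rfl
    exacts [Subgroup.subset_closure ⟨0, by omega, by rw [gP, gP, hKA', hKU']; rfl⟩,
      Subgroup.subset_closure ⟨1, by omega, by rw [gP, gP, hKA', hKU']; rfl⟩,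
      Subgroup.subset_closure ⟨2, by omega, by rw [gP, gP, hKA', hKU']; rfl⟩,
      Subgroup.subset_closure ⟨3, by omega, by rw [gP, gP, hKA', hKU']; rfl⟩]
  haveI := fA
  obtain ⟨fU, cU⟩ := finite_card_le certU_complete mU (certA.N * 1) cA
  set HU := Subgroup.closure {y | ∃ g < certU.K, gP S b certU lm5 g = y}
  haveI := fU
  let φ : HU →* Th := (MonoidHom.snd G Th).comp HU.subtype
  have hle : (grpIn certU lmU).map toP ≤ φ.range := by
    rw [grpIn, MonoidHom.map_closure, Subgroup.closure_le]
    rintro _ ⟨_, ⟨g, hg, rfl⟩, rfl⟩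
    refine ⟨⟨gP S b certU lm5 g, Subgroup.subset_closure ⟨g, hg, rfl⟩⟩, ?_⟩
    show (gP S b certU lm5 g).2 = toP (genIn certU lmU g)
    rw [hKU'] at hg
    rw [gP, genIn, hKU', if_pos hg, if_pos hg]
    interval_cases g
    exacts [(toP_gen (g := 0) (by norm_num)).symm, (toP_gen (g := 1) (by norm_num)).symm,
      (toP_gen (g := 2) (by norm_num)).symm, (toP_gen (g := 3) (by norm_num)).symm,
      (toP_gen (g := 4) (by norm_num)).symm]
  have big : 126 * 96 ≤ Nat.card (grpIn certU lmU) := by
    have hm := maps_ok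
    simp only [Bool.and_eq_true] at hm
    obtain ⟨⟨⟨⟨⟨⟨⟨-, -⟩, hD⟩, hT⟩, -⟩, -⟩, sD⟩, sT⟩ := hm
    obtain ⟨-, -, nD, nT, kT, -⟩ := cert_sizes
    haveI := finite_PT
    obtain ⟨fD, cD⟩ := card_step certD_complete hD sD (n := Nat.card (grpIn certU lmU)) inferInstance le_rfl
    obtain ⟨-, cT⟩ := card_step certT_complete hT sT fD cD
    have htop : grpIn certT lmT = ⊤ := by
      rw [grpIn, kT, ← closure_pGen]
      congr 1
      ext y
      refine exists_congr fun g => and_congr_right fun hg => ?_
      rw [genIn, kT, if_pos hg]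
      interval_cases g <;> rfl
    rw [htop, Subgroup.card_top, card_PT, nT, nD] at cT
    omega
  have hsurj : Function.Surjective φ.rangeRestrict := φ.rangeRestrict_surjective
  have hcard : Nat.card HU ≤ Nat.card φ.range := by
    have e1 : Nat.card ((grpIn certU lmU).map toP) = Nat.card (grpIn certU lmU) :=
      (Nat.card_congr (Subgroup.equivMapOfInjective _ toP toP_injective).toEquiv).symm
    haveI : Finite φ.range := Finite.of_surjective _ hsurj
    have e2 := Subgroup.card_le_of_le hle
    obtain ⟨nA, nU, -⟩ := cert_sizes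
    rw [nA, nU] at cU
    omega
  have hinj : Function.Injective φ.rangeRestrict :=
    (hsurj.bijective_of_nat_card_le hcard).1
  have : (⟨p, hp⟩ : HU) = 1 := hinj (Subtype.ext (by rw [_root_.map_one]; exact h))
  exact congrArg Subtype.val this

/-- the last relation -/
theorem udw_one (hw : SwapData S w) (hb : BeeData S w b) : prodW (S.gL b) udwW = 1 := by
  have h8 := eight_one hw hb
  have hgood := certZ_good
  simp only [Bool.and_eq_true, List.all_eq_true, List.mem_range, beq_iff_eq, Nat.blt_eq] at hgood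
  obtain ⟨h0, hall⟩ := hgood
  obtain ⟨⟨-, hrels⟩, hlet⟩ := hall 0 (by norm_num)
  change certZ0.rels.map _ = _ at hrels
  have hsub := certZ_subs
  simp only [Bool.and_eq_true, List.all_eq_true, beq_iff_eq, Nat.blt_eq] at hsub
  obtain ⟨⟨⟨⟨⟨⟨⟨-, hs⟩, hrun⟩, hlt⟩, -⟩, -⟩, -⟩, hKU⟩ := hsub
  have hKU' := Nat.eq_of_beq_eq_true hKU
  have hK : certZ0.K = 7 := rfl
  set HU := Subgroup.closure {y | ∃ g < certU.K, gP S b certU lm5 g = y}
  have m : Model certZ0 HU (gP S b certZ0 lm7) := by
    have hg := h0
    simp only [certGood, Bool.and_eq_true, List.all_eq_true, List.mem_range, Nat.blt_eq] at hg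
    obtain ⟨⟨⟨hlen, hI⟩, hl⟩, hR⟩ := hg
    refine ⟨by simp [gP], fun g => ?_, fun r hr => ?_, fun v hv => ?_⟩
    · by_cases hg : g < certZ0.K
      · obtain ⟨⟨h1, -⟩, h2⟩ := hI g hg
        simp only [gP, if_pos hg, if_pos h1, Nat.eq_of_beq_eq_true h2]
        exact Prod.ext (gL_inv hb _) (tg_inv _)
      · rw [ThPres.inv_of_ge (Nat.eq_of_beq_eq_true hlen) (by omega)]
        simp [gP, hg]
    · rw [gP_word (hl r hr)]
      show prodW (S.pairG b) _ = 1
      rw [pair_word]
      have hm : (r.map fun g => lm7.getD g 11) ∈ certZ0.rels.map (fun r => r.map fun g => lm7.getD g 11) :=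
        List.mem_map_of_mem hr
      rw [hrels, List.mem_append, List.mem_singleton] at hm
      rcases hm with hm | hm
      · obtain ⟨r0, hr0, e0⟩ := List.mem_map.1 hm
        rw [← e0]
        have := hR r0 hr0
        simp only [relGood, Bool.or_eq_true, Bool.and_eq_true, List.contains_iff_mem, List.mem_append,
          List.mem_singleton] at this
        rcases this with ⟨h1, h2⟩ | (((h1 | h1) | h1) | h1)
        · refine Prod.ext ?_ (by simpa using eqP_th h2)
          rw [gL_word S b h1]
          simpa using S.eq_of_th h1 (m := []) (by decide) (by simpa using eqP_th h2)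
        · exact Prod.ext (bRels_g hb _ h1) (bRels_tg _ h1)
        · rw [h1]; exact Prod.ext h8 (by simpa using eqP_th eight_th)
        · exact Prod.ext (wRels_g hw hb _ h1) (wRels_tg _ h1)
        · exact Prod.ext (cRels_g _ h1).1 (cRels_g (S := S) (b := b) _ h1).2
      · rw [hm]
        refine Prod.ext (cube_rel hw hb) ?_
        show prodW tg (cubeRel 0) = 1
        rw [cubeRel, prodW_append, eqA_th cube_th, prodW_iw11]
        simp [zList]
    · rw [hs] at hv
      simp only [List.mem_cons, List.not_mem_nil, or_false] at hv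
      rcases hv with rfl | rfl | rfl | rfl | rfl <;>
        rw [prodW_cons, prodW_nil, mul_one, gP, hK, if_pos (by norm_num)]
      exacts [Subgroup.subset_closure ⟨0, by omega, by rw [gP, hKU']; rfl⟩,
        Subgroup.subset_closure ⟨1, by omega, by rw [gP, hKU']; rfl⟩,
        Subgroup.subset_closure ⟨2, by omega, by rw [gP, hKU']; rfl⟩,
        Subgroup.subset_closure ⟨3, by omega, by rw [gP, hKU']; rfl⟩,
        Subgroup.subset_closure ⟨4, by omega, by rw [gP, hKU']; rfl⟩]
  have hmem := mem_of_run_eq_zero certZ0_complete m (fun g hg => hK.symm ▸ hlt g hg)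
    (Nat.eq_of_beq_eq_true hrun)
  rw [gP_word (fun g hg => hK.symm ▸ hlt g hg)] at hmem
  change prodW (S.pairG b) _ ∈ _ at hmem
  have eid : ((udwW.map fun g => [0, 1, 2, 3, 4, 7, 7, 7, 7, 5, 6].getD g 7).map fun g => lm7.getD g 11) =
      udwW := by decide +kernel
  rw [eid, pair_word] at hmem
  exact congrArg Prod.fst (five_faithful hw hb hmem (by simpa using eqA_th udw_th))

end Setting

end CfsgLib.ThUnique
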