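import Cfsg.Agent.Lib.ThUnique.Cand

/-!
A group with an involution centraliser isomorphic to the centraliser of the first letter.
-/

set_option autoImplicit false
set_option linter.style.haveILetI false

namespace CfsgLib.ThUnique

open Cfsg.Spor CfsgLib.CosetEnum CfsgLib.ThPres CfsgLib.ThRep

universe u

/-- an involution whose centraliser is that of the first letter, fused into the extraspecial part -/
structure Setting {G : Type u} [Group G] (z : G) where
  /-- the identification -/
  ι : centA →* G
  inj : Function.Injective ι
  range : ι.range = Subgroup.centralizer ({z} : Set G)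
  ι_a : ι (cW [0]) = z
  fused : ∃ g : G, g * ι (cW [2]) * g⁻¹ = z

variable {G : Type u} [Group G] {z : G}

namespace Setting

variable (S : Setting z)

/-- a letter -/
noncomputable def L (g : ℕ) : G := S.ι (cW [g])

theorem L_zero : S.L 0 = z := S.ι_a

theorem el_word : ∀ {l : List ℕ}, inC l = true → S.ι (cW l) = prodW S.L l
  | [], _ => by simp [cW_nil]
  | g :: l, h => by
    have h1 : inC [g] = true := by
      simp only [inC, List.all_cons, List.all_nil, Bool.and_true, Bool.and_eq_true] at h ⊢
      exact h.1
    have h2 : inC l = true := by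
      simp only [inC, List.all_cons, Bool.and_eq_true] at h
      exact h.2
    rw [show g :: l = [g] ++ l from rfl, cW_append h1 h2, _root_.map_mul, el_word h2, prodW_append,
      show prodW S.L [g] = S.L g by simp]
    rfl

theorem eq_of_th {l m : List ℕ} (hl : inC l = true) (hm : inC m = true)
    (h : prodW tg l = prodW tg m) : prodW S.L l = prodW S.L m := by
  rw [← S.el_word hl, ← S.el_word hm, cW_eq hl hm h]

/-- an equation checked in the centraliser -/
theorem rel {l m : List ℕ} (h : (inC l && inC m && eqM l m) = true) : prodW S.L l = prodW S.L m := by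
  simp only [Bool.and_eq_true] at h
  exact S.eq_of_th h.1.1 h.1.2 (eqM_th h.2)

/-- an equation checked in the point stabiliser -/
theorem relP {l m : List ℕ} (h : (inC l && inC m && eqP l m) = true) : prodW S.L l = prodW S.L m := by
  simp only [Bool.and_eq_true] at h
  exact S.eq_of_th h.1.1 h.1.2 (eqP_th h.2)

theorem ne_of_th {l m : List ℕ} (hl : inC l = true) (hm : inC m = true)
    (h : prodW tg l ≠ prodW tg m) : prodW S.L l ≠ prodW S.L m := by
  rw [← S.el_word hl, ← S.el_word hm]
  intro e
  exact h (by rw [← cW_coe hl, ← cW_coe hm, S.inj e])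

theorem comm_iff {y : G} : y ∈ S.ι.range ↔ y * z = z * y := by
  rw [S.range, Subgroup.mem_centralizer_singleton_iff]

theorem lift {y : G} (h : y * z = z * y) : ∃ v : centA, S.ι v = y := S.comm_iff.2 h

theorem comm_z {l : List ℕ} (hl : inC l = true) : prodW S.L l * z = z * prodW S.L l :=
  S.comm_iff.1 ⟨cW l, S.el_word hl⟩

theorem comm_zg {g : ℕ} (hg : inC [g] = true) : S.L g * z = z * S.L g :=
  S.comm_iff.1 ⟨cW [g], rfl⟩

/-- a commutation seen in the centraliser -/
theorem th_of_comm {v w : centA} (h : S.ι v * S.ι w = S.ι w * S.ι v) :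
    (v : Th) * w = w * v := by
  rw [← _root_.map_mul, ← _root_.map_mul] at h
  exact congrArg Subtype.val (S.inj h)

theorem th_eq {v : centA} {l : List ℕ} (hl : inC l = true) (h : S.ι v = prodW S.L l) :
    (v : Th) = prodW tg l := by
  rw [← S.el_word hl] at h
  rw [← cW_coe hl, S.inj h]

theorem of_th {v : centA} {l : List ℕ} (hl : inC l = true) (h : (v : Th) = prodW tg l) :
    S.ι v = prodW S.L l := by
  rw [← S.el_word hl]
  exact congrArg S.ι (Subtype.ext (h.trans (cW_coe hl).symm))

end Setting

end CfsgLib.ThUnique
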