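import Cfsg.Agent.Lib.ThUnique.Coset

/-!
The centralisers of c with the seventh-order and with the third-order letter.
-/

set_option autoImplicit false
set_option linter.style.haveILetI false

namespace CfsgLib.ThUnique

open Cfsg.Spor CfsgLib.CosetEnum CfsgLib.ThPres CfsgLib.ThRep

set_option maxRecDepth 8000

attribute [local irreducible] qcIdx bWords qKey qElts certL ctWords csWords bS bT

/-- the centraliser of c in the point centraliser -/
def PCc : Subgroup PT := PC ⊓ Subgroup.centralizer ({pGen 2} : Set PT)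

theorem card_PCc : Nat.card PCc ≤ 43008 := by
  haveI := finite_PT
  obtain ⟨hl, hlt, hinj, h2, -⟩ := orbit_facts
  have hmem2 : pGen 2 ∈ orbC := ⟨0, by norm_num, h2⟩
  -- the orbit is hit by conjugation, at least eighteen cosets
  have hsurj : ∀ i < 18, ∃ p ∈ PC, p⁻¹ * pGen 2 * p = qe (orb18.getD i 0) := by
    have h := tree18
    simp only [tree18OK, List.all_eq_true, List.mem_range, Bool.and_eq_true, List.contains_iff_mem] at h
    intro i hi
    obtain ⟨hw, he⟩ := h i hi
    refine ⟨prodW pGen (orb18Path.getD i []), ?_, ?_⟩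
    · rw [← closure_paLet]
      exact Subgroup.list_prod_mem _ fun y hy => by
        obtain ⟨c, hc, rfl⟩ := List.mem_map.1 hy
        exact Subgroup.subset_closure ⟨c, hw c hc, rfl⟩
    · have e := eqP_pt he
      rw [prodW_cons, prodW_append] at e
      rw [qe, mul_assoc, inv_mul_eq_iff_eq_mul]
      exact e
  choose p hp he using hsurj
  let S : Subgroup PC := (Subgroup.centralizer ({pGen 2} : Set PT)).subgroupOf PC
  have hidx : 18 ≤ S.index := by
    rw [Subgroup.index, ← Nat.card_fin 18]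
    refine Nat.card_le_card_of_injective
      (fun i : Fin 18 => ((⟨(p i i.2)⁻¹, inv_mem (hp i i.2)⟩ : PC) : PC ⧸ S)) fun a b e => ?_
    refine Fin.ext (hinj a a.2 b b.2 ?_)
    rw [QuotientGroup.eq, Subgroup.mem_subgroupOf, Subgroup.mem_centralizer_singleton_iff] at e
    simp only [Subgroup.coe_mul, Subgroup.coe_inv, inv_inv] at e
    rw [← he a a.2, ← he b b.2]
    calc (p a a.2)⁻¹ * pGen 2 * p a a.2
        = (p a a.2)⁻¹ * (pGen 2 * (p a a.2 * (p b b.2)⁻¹)) * p b b.2 := by group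
      _ = (p a a.2)⁻¹ * (p a a.2 * (p b b.2)⁻¹ * pGen 2) * p b b.2 := by rw [← e]
      _ = _ := by group
  have hmul := S.card_mul_index
  rw [card_PC] at hmul
  have heq : Nat.card S = Nat.card PCc :=
    Nat.card_congr ⟨fun x => ⟨(x : PC), (x : PC).2, x.2⟩, fun x => ⟨⟨x, x.2.1⟩, x.2.2⟩,
      fun x => rfl, fun x => rfl⟩
  nlinarith [Nat.mul_le_mul_left (Nat.card S) hidx]

/-- a member of the complement -/
noncomputable def bE (i : ℕ) : PT := prodW pGen (bWords.getD i [])

theorem comp_facts : (∀ i < 168, (∀ g ∈ bWords.getD i [], g ∈ bLet)) ∧ bE 0 = 1 ∧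
    (∀ i < 168, ∀ k < 512, bE i = qe k → i = 0) ∧ (∀ i < 168, ∀ i' < 168, bE i = bE i' → i = i') ∧
    (∀ i < 168, bE i ∈ PCc) ∧
    (∀ i < 168, ∀ i' < 168, ∃ m < 168, bE i * (bE i')⁻¹ = bE m) := by
  have h := comp_ok
  simp only [compOK, Bool.and_eq_true, List.all_eq_true, List.mem_range, Nat.blt_eq, List.contains_iff_mem,
    beq_iff_eq, Bool.or_eq_true, Bool.not_eq_true'] at h
  obtain ⟨⟨⟨⟨⟨⟨hl, h0⟩, hlet⟩, hq⟩, hd⟩, hc⟩, hn⟩ := h
  have hl' := Nat.eq_of_beq_eq_true hl
  have hlt : ∀ i < 168, ∀ g ∈ bWords.getD i [], g ∈ bLet := fun i hi g hg => by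
    rw [List.getD_eq_getElem _ _ (hl'.symm ▸ hi)] at hg
    exact hlet _ (List.getElem_mem _) g hg
  have hlt9 : ∀ i < 168, ∀ g ∈ bWords.getD i [], g < 9 := fun i hi g hg => by
    have := hlt i hi g hg
    simp [bLet] at this; omega
  have hb0 : bE 0 = 1 := by rw [bE, h0, prodW_nil]
  have hqf := q_facts
  have hqq : ∀ i < 168, ∀ k < 512, bE i = qe k → i = 0 := by
    intro i hi k hk e
    rcases hq i hi with h | h
    · exact Nat.eq_of_beq_eq_true h
    · exfalso
      have he := key_of_eq (hlt9 i hi) (hqf.2.2.2.2.2 k hk).1 e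
      rw [(hqf.2.2.2.2.2 k hk).2.1] at he
      have hk' : k < qKey.length := hqf.2.2.2.1.symm ▸ hk
      have : qKey.any (Nat.beq (keyRun (bWords.getD i []))) = true :=
        List.any_eq_true.2 ⟨qKey[k], List.getElem_mem _, by
          rw [he, List.getD_eq_getElem _ _ hk']; exact Nat.beq_refl _⟩
      rw [this] at h
      exact Bool.noConfusion h
  have hinj : ∀ i < 168, ∀ i' < 168, bE i = bE i' → i = i' := by
    intro i hi i' hi' e
    have he := key_of_eq (hlt9 i hi) (hlt9 i' hi') e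
    rw [List.getD_eq_getElem _ _ (hl'.symm ▸ hi), List.getD_eq_getElem _ _ (hl'.symm ▸ hi')] at he
    have h2 : (bWords.map keyRun)[i]'(by rw [List.length_map, hl']; exact hi) =
        (bWords.map keyRun)[i']'(by rw [List.length_map, hl']; exact hi') := by
      rw [List.getElem_map, List.getElem_map]; exact he
    exact (distinctB_spec hd).getElem_inj_iff.1 h2
  have hgen : ∀ g ∈ bLet, pGen g ∈ PCc := fun g hg => by
    refine ⟨Subgroup.mem_centralizer_singleton_iff.2 ?_, Subgroup.mem_centralizer_singleton_iff.2 ?_⟩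
    · simpa using eqP_pt (hc g hg).2
    · simpa using eqP_pt (hc g hg).1
  have hmem : ∀ i < 168, bE i ∈ PCc := fun i hi => Subgroup.list_prod_mem _ fun y hy => by
    obtain ⟨c, hc', rfl⟩ := List.mem_map.1 hy
    exact hgen c (hlt i hi c hc')
  refine ⟨hlt, hb0, hqq, hinj, hmem, ?_⟩
  haveI := finite_PT
  set B : Set PT := {x | ∃ i < 168, bE i = x}
  have hstep : ∀ g ∈ bLet, ∀ x ∈ B, x * pGen g ∈ B := by
    rintro g hg _ ⟨i, hi, rfl⟩
    obtain ⟨j, hj, rfl⟩ := List.getElem_of_mem hg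
    obtain ⟨hk, hv⟩ := hn i hi j hj
    refine ⟨_, hk, ?_⟩
    rw [bE, ← eqP_pt hv, List.getD_eq_getElem bLet _ hj, prodW_append, prodW_single]
    rfl
  have hword : ∀ w : List ℕ, (∀ g ∈ w, g ∈ bLet) → ∀ x ∈ B, x * prodW pGen w ∈ B := by
    intro w hw
    induction w with
    | nil => intro x hx; simpa using hx
    | cons g w ih =>
      intro x hx
      rw [prodW_cons, ← mul_assoc]
      exact ih (fun c hc => hw c (List.mem_cons_of_mem _ hc)) _ (hstep g (hw g List.mem_cons_self) x hx)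
  intro i hi i' hi'
  let F : B → B := fun v => ⟨v * bE i', hword _ (hlt i' hi') v v.2⟩
  have hF : Function.Injective F := fun u v e => Subtype.ext (mul_right_cancel (congrArg Subtype.val e))
  obtain ⟨⟨v, hv⟩, e⟩ := (Finite.injective_iff_surjective.1 hF) ⟨bE i, i, hi, rfl⟩
  obtain ⟨m, hm, rfl⟩ := hv
  refine ⟨m, hm, ?_⟩
  have e := congrArg Subtype.val e
  simp only [F] at e
  rw [← e, mul_inv_cancel_right]

theorem qc_facts : qcIdx.length = 256 ∧ (∀ k ∈ qcIdx, k < 512) ∧ qcIdx.Nodup ∧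
    ∀ k ∈ qcIdx, qe k * pGen 2 = pGen 2 * qe k := by
  have h := qc_ok
  simp only [qcOK, Bool.and_eq_true, List.all_eq_true, Nat.blt_eq] at h
  obtain ⟨⟨⟨hl, hinc⟩, hlt⟩, hc⟩ := h
  refine ⟨Nat.eq_of_beq_eq_true hl, hlt, ?_, fun k hk => ?_⟩
  · have key : ∀ l : List ℕ, incOK l = true → l.Pairwise (· < ·) := by
      intro l
      induction l with
      | nil => simp
      | cons a l ih =>
        intro h
        rcases l with _ | ⟨b, l⟩
        · simp
        · simp only [incOK, Bool.and_eq_true, Nat.blt_eq] at h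
          have := ih h.2
          refine List.pairwise_cons.2 ⟨fun c hc => ?_, this⟩
          rcases List.mem_cons.1 hc with rfl | hc
          · exact h.1
          · exact h.1.trans ((List.pairwise_cons.1 this).1 c hc)
    exact (key _ hinc).imp (fun h => ne_of_lt h)
  · have e := eqP_pt (hc k hk)
    rw [prodW_append, prodW_single, prodW_cons] at e
    exact e

theorem qe_mem_PC {k : ℕ} (hk : k < 512) : qe k ∈ PC := by
  rw [Subgroup.mem_centralizer_singleton_iff]
  obtain ⟨h, -⟩ : toP (qe k) ∈ centA ∧ True := ⟨qTh_le ⟨_, qe_mem hk, rfl⟩, trivial⟩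
  exact Subgroup.mem_centralizer_singleton_iff.1 (toP_cent.2 h)

/-- every element of the centraliser of c is a product -/
theorem decomp {x : PT} (hx : x ∈ PCc) : ∃ k ∈ qcIdx, ∃ i < 168, x = qe k * bE i := by
  haveI := finite_PT
  obtain ⟨hl, hlt, hnd, hcomm⟩ := qc_facts
  obtain ⟨-, -, hq0, hinj, hmem, hdiv⟩ := comp_facts
  have hk : ∀ j : Fin 256, qcIdx[(j : ℕ)]'(hl.symm ▸ j.2) ∈ qcIdx := fun j => List.getElem_mem _
  have hq : ∀ k ∈ qcIdx, qe k ∈ PCc := fun k hk =>
    ⟨qe_mem_PC (hlt k hk), Subgroup.mem_centralizer_singleton_iff.2 (hcomm k hk)⟩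
  let f : Fin 256 × Fin 168 → PCc := fun e =>
    ⟨qe (qcIdx[(e.1 : ℕ)]'(hl.symm ▸ e.1.2)) * bE e.2, mul_mem (hq _ (hk _)) (hmem _ e.2.2)⟩
  have hf : Function.Injective f := by
    rintro ⟨j, i⟩ ⟨j', i'⟩ e
    have e' : qe (qcIdx[(j : ℕ)]'(hl.symm ▸ j.2)) * bE i = qe (qcIdx[(j' : ℕ)]'(hl.symm ▸ j'.2)) * bE i' :=
      congrArg Subtype.val e
    obtain ⟨m, hm, em⟩ := hdiv i i.2 i' i'.2
    have hmq : bE m = (qe (qcIdx[(j : ℕ)]'(hl.symm ▸ j.2)))⁻¹ * qe (qcIdx[(j' : ℕ)]'(hl.symm ▸ j'.2)) := by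
      rw [← em]
      calc bE i * (bE i')⁻¹ = (qe (qcIdx[(j : ℕ)]'(hl.symm ▸ j.2)))⁻¹ *
            (qe (qcIdx[(j : ℕ)]'(hl.symm ▸ j.2)) * bE i) * (bE i')⁻¹ := by group
        _ = _ := by rw [e']; group
    obtain ⟨k', hk', ek'⟩ : ∃ k < 512, qe k = (qe (qcIdx[(j : ℕ)]'(hl.symm ▸ j.2)))⁻¹ *
        qe (qcIdx[(j' : ℕ)]'(hl.symm ▸ j'.2)) :=
      (mem_qGrp _).1 (mul_mem (inv_mem (qe_mem (hlt _ (hk j)))) (qe_mem (hlt _ (hk j'))))
    have hm0 := hq0 m hm k' hk' (hmq.trans ek'.symm)
    subst hm0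
    rw [comp_facts.2.1, eq_comm, inv_mul_eq_one] at hmq
    have hj := (hnd.getElem_inj_iff).1 (qe_inj _ (hlt _ (hk j)) _ (hlt _ (hk j')) hmq)
    rw [comp_facts.2.1, mul_inv_eq_one] at em
    exact Prod.ext (Fin.ext hj) (Fin.ext (hinj i i.2 i' i'.2 em))
  have hb := hf.bijective_of_nat_card_le
    (by rw [Nat.card_prod, Nat.card_fin, Nat.card_fin]; exact card_PCc)
  obtain ⟨⟨j, i⟩, e⟩ := hb.2 ⟨x, hx⟩
  exact ⟨_, hk j, i, i.2, (congrArg Subtype.val e).symm⟩

theorem list_spec {x : ℕ} {bs : List ℕ} {ws : List (List ℕ)} (hmod : modOK x bs = true)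
    (hlist : listOK x bs (ws.map keyRun) = true) (hws : wordsOK ws = true) (hx : x < 9) (hxc : x ∈ cLet)
    (hxx : inv11 x < 9) {p : PT} (hp : p ∈ PCc) (hpx : p * pGen x = pGen x * p) :
    ∃ w ∈ ws, p = prodW pGen w := by
  obtain ⟨k, hk, i, hi, rfl⟩ := decomp hp
  obtain ⟨-, hlt, -, -⟩ := qc_facts
  obtain ⟨hblet, -⟩ := comp_facts
  have hb9 : ∀ g ∈ bWords.getD i [], g < 9 := fun g hg => by
    have := hblet i hi g hg; simp [bLet] at this; omega
  have hkl := (q_facts.2.2.2.2.2 k (hlt k hk)).1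
  have hib : i ∈ bs := by
    simp only [modOK, List.all_eq_true, List.mem_range, Bool.or_eq_true, List.contains_iff_mem,
      Bool.not_eq_true'] at hmod
    refine (hmod i hi).resolve_right fun h => ?_
    -- the commutator lies in the normal subgroup
    have hc : bE i * pGen x * (bE i)⁻¹ * (pGen x)⁻¹ = (qe k)⁻¹ * (pGen x * qe k * (pGen x)⁻¹) := by
      calc bE i * pGen x * (bE i)⁻¹ * (pGen x)⁻¹
          = (qe k)⁻¹ * (qe k * bE i * pGen x) * (bE i)⁻¹ * (pGen x)⁻¹ := by group
        _ = (qe k)⁻¹ * (pGen x * (qe k * bE i)) * (bE i)⁻¹ * (pGen x)⁻¹ := by rw [hpx]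
        _ = _ := by group
    have hN : toP (pGen x * qe k * (pGen x)⁻¹) ∈ qTh := by
      rw [map_mul, map_mul, map_inv, toP_gen hx]
      have hn := mem_normalizer_qTh (centC_le (tg_mem_centC hxc))
      exact (Subgroup.mem_normalizer_iff.1 hn _).1 ⟨_, qe_mem (hlt k hk), rfl⟩
    obtain ⟨y, hy, ey⟩ := hN
    obtain ⟨m, hm, em⟩ := (mem_qGrp _).1 (mul_mem (inv_mem (qe_mem (hlt k hk))) hy)
    rw [toP_injective ey, ← hc] at em
    have hwl : ∀ g ∈ bWords.getD i [] ++ [x] ++ iw11 (bWords.getD i []) ++ [inv11 x], g < 9 := by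
      intro g hg
      simp only [List.mem_append, List.mem_singleton] at hg
      rcases hg with ((hg | rfl) | hg) | rfl
      · exact hb9 g hg
      · exact hx
      · simp only [iw11, List.mem_reverse, List.mem_map] at hg
        obtain ⟨c, hc', rfl⟩ := hg
        have := hblet i hi c hc'
        simp only [bLet, List.mem_cons, List.not_mem_nil, or_false] at this
        rcases this with rfl | rfl | rfl <;> decide
      · exact hxx
    have ew : prodW pGen (bWords.getD i [] ++ [x] ++ iw11 (bWords.getD i []) ++ [inv11 x]) =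
        bE i * pGen x * (bE i)⁻¹ * (pGen x)⁻¹ := by
      refine toP_injective ?_
      rw [toP_word hwl, map_mul, map_mul, map_mul, map_inv, map_inv, toP_gen hx, bE, toP_word hb9,
        prodW_append, prodW_append, prodW_append, prodW_single, prodW_single, prodW_iw11,
        eq_inv_of_mul_eq_one_right (tg_inv x)]
    have hkey := key_of_eq hwl (q_facts.2.2.2.2.2 m hm).1 (ew.trans em.symm)
    rw [(q_facts.2.2.2.2.2 m hm).2.1] at hkey
    have hm' : m < qKey.length := q_facts.2.2.2.1.symm ▸ hm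
    have : qKey.any (Nat.beq (keyRun (bWords.getD i [] ++ [x] ++ iw11 (bWords.getD i []) ++ [inv11 x]))) =
        true := List.any_eq_true.2 ⟨qKey[m], List.getElem_mem _, by
          rw [hkey, List.getD_eq_getElem _ _ hm']; exact Nat.beq_refl _⟩
    rw [this] at h
    exact Bool.noConfusion h
  simp only [listOK, List.all_eq_true, Bool.or_eq_true, Bool.not_eq_true', List.any_eq_true,
    List.mem_map] at hlist
  rcases hlist i hib k hk with h | ⟨_, ⟨w, hw, rfl⟩, h⟩
  · exfalso
    have hl1 : ∀ g ∈ qElts.getD k [] ++ bWords.getD i [] ++ [x], g < 9 := by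
      intro g hg
      simp only [List.mem_append, List.mem_singleton] at hg
      rcases hg with (hg | hg) | rfl
      exacts [hkl g hg, hb9 g hg, hx]
    have hl2 : ∀ g ∈ [x] ++ qElts.getD k [] ++ bWords.getD i [], g < 9 := by
      intro g hg
      simp only [List.mem_append, List.mem_singleton] at hg
      rcases hg with (rfl | hg) | hg
      exacts [hx, hkl g hg, hb9 g hg]
    have he := key_of_eq hl1 hl2 (by
      rw [prodW_append, prodW_append, prodW_append, prodW_append, prodW_single, mul_assoc (pGen x)]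
      exact hpx)
    rw [he, show Nat.beq _ _ = true from Nat.beq_refl _] at h
    exact Bool.noConfusion h
  · refine ⟨w, hw, ?_⟩
    simp only [wordsOK, List.all_eq_true, Bool.and_eq_true, Nat.blt_eq] at hws
    have hl : ∀ g ∈ qElts.getD k [] ++ bWords.getD i [], g < 9 := fun g hg =>
      (List.mem_append.1 hg).elim (hkl g) (hb9 g)
    have e := eq_of_key hl (hws w hw).1.1 (Nat.eq_of_beq_eq_true h)
    rwa [prodW_append] at e

theorem pcc_of {g : Th} {p : PT} (hp : p ∈ PC) (e : g = toP p) (hc : g * tg 2 = tg 2 * g) : p ∈ PCc := by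
  refine ⟨hp, Subgroup.mem_centralizer_singleton_iff.2 (toP_injective ?_)⟩
  rw [map_mul, map_mul, toP_gen (by norm_num), ← e]
  exact hc

theorem pc_comm {g : Th} {p : PT} {x : ℕ} (hx : x < 9) (e : g = toP p) (h : g * tg x = tg x * g) :
    p * pGen x = pGen x * p := toP_injective (by
  rw [map_mul, map_mul, toP_gen hx, ← e]; exact h)

/-- the centraliser of c and the third-order letter is listed -/
theorem mem_ct {g : Th} (hg : g ∈ centA) (hc : g * tg 2 = tg 2 * g) (ht : g * tg 7 = tg 7 * g) :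
    ∃ w ∈ ctWords, g = prodW tg w := by
  obtain ⟨p, hp, e⟩ := comm_ct hg hc ht
  have hw := words_ok
  simp only [Bool.and_eq_true] at hw
  obtain ⟨w, hm, e'⟩ := list_spec mod_t list_t hw.1 (by norm_num) (by decide) (by decide)
    (pcc_of hp e hc) (pc_comm (by norm_num) e ht)
  refine ⟨w, hm, ?_⟩
  have hws := hw.1
  simp only [wordsOK, List.all_eq_true, Bool.and_eq_true, Nat.blt_eq] at hws
  rw [e, e', toP_word (hws w hm).1.1]

/-- the centraliser of c and the seventh-order letter is listed -/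
theorem mem_cs {g : Th} (hg : g ∈ centA) (hc : g * tg 2 = tg 2 * g) (hs : g * tg 5 = tg 5 * g) :
    ∃ w ∈ csWords, g = prodW tg w := by
  obtain ⟨p, hp, e⟩ := comm_s hg hs
  have hw := words_ok
  simp only [Bool.and_eq_true] at hw
  obtain ⟨w, hm, e'⟩ := list_spec mod_s list_s hw.2 (by norm_num) (by decide) (by decide)
    (pcc_of hp e hc) (pc_comm (by norm_num) e hs)
  refine ⟨w, hm, ?_⟩
  have hws := hw.2
  simp only [wordsOK, List.all_eq_true, Bool.and_eq_true, Nat.blt_eq] at hws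
  rw [e, e', toP_word (hws w hm).1.1]

end CfsgLib.ThUnique
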