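import Cfsg.Agent.Lib.ThUnique.Setting
import Mathlib.GroupTheory.Sylow

/-!
The involution exchanging the first letter with c and its action on their common centraliser.
-/

set_option autoImplicit false
set_option linter.style.haveILetI false
set_option maxRecDepth 8000
set_option Elab.async false

namespace CfsgLib.ThUnique

open Cfsg.Spor CfsgLib.CosetEnum CfsgLib.ThPres CfsgLib.ThRep

attribute [local irreducible] csWords keyRun wordMat certL

universe u

/-- the fourth-order element -/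
def qW : List ℕ := [3, 2, 3, 9, 3, 2, 3]

/-- powers of the seventh-order letter -/
def sPow (i : ℕ) : List ℕ := List.replicate i 5

/-- small facts on the odd letters -/
noncomputable def oddOK : Bool :=
  eqP [8, 5, 7] [5, 5] && neK [5] [] && eqP (List.replicate 7 5) [] && eqP [7, 7, 7] [] &&
    eqP [2, 5] [5, 2] && eqP [2, 7] [7, 2] && eqP [0, 5] [5, 0] && eqP [0, 7] [7, 0] &&
    (csWords.all fun w => !Nat.beq (keyRun (w ++ [7] ++ w ++ [7] ++ w ++ [7])) (keyRun []) ||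
      (List.range 7).any fun j => Nat.beq (keyRun w) (keyRun (sPow j))) &&
    (csWords.all fun w => !Nat.beq (keyRun (w ++ [7])) (keyRun (7 :: w)) ||
      [[], [0], [2], [0, 2]].any fun v => Nat.beq (keyRun w) (keyRun v)) &&
    ((List.range 7).all fun j => eqP (sPow (5 * j % 7) ++ sPow j ++ [7]) ([7] ++ sPow (5 * j % 7))) &&
    (List.range 7).all fun i => Nat.beq i 0 || (List.range 3).any fun k =>
      eqP (List.replicate k 7 ++ sPow i) ([5] ++ List.replicate k 7) ||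
        eqP (List.replicate k 7 ++ sPow i) ([6] ++ List.replicate k 7)

theorem odd_ok : oddOK = true := by decide +kernel

theorem c_check0 : eqM (qW ++ qW) [2] = true := by decide +kernel

theorem c_check1 : eqM (qW ++ [4] ++ qW) [4] = true := by decide +kernel

theorem c_check2 : eqM ([9, 5, 9, 5, 9, 5]) [0, 2] = true := by decide +kernel

theorem c_check3 : eqM (qW ++ [5] ++ qW ++ [5] ++ qW ++ [5]) [2] = true := by decide +kernel

theorem c_check4 : eqM (qW ++ [2]) ([2] ++ qW) = true := by decide +kernel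

theorem c_check5 : eqM (qW ++ [7]) ([8] ++ qW) = true := by decide +kernel

theorem c_check6 : eqM ([0, 9] ++ qW) (qW ++ [9]) = true := by decide +kernel

theorem c_checks : (eqM [9, 9] [0, 2] && eqM [9, 4] [4, 9] && eqM [9, 2] [2, 9] && eqM [9, 7] [8, 9] &&
    eqP [4, 2] [2, 4] && eqP [4, 7] [7, 4] && eqP [4, 4] [] && neK [4] [] &&
    eqP [4, 6, 4, 5] [6, 6, 6, 4, 5, 5, 5] && eqM (qW ++ qW) [2] && eqM (qW ++ [4] ++ qW) [4] &&
    eqM ([9, 5, 9, 5, 9, 5]) [0, 2] && eqM (qW ++ [5] ++ qW ++ [5] ++ qW ++ [5]) [2] &&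
    eqM (qW ++ [2]) ([2] ++ qW) && eqM (qW ++ [7]) ([8] ++ qW) && eqM ([0, 9] ++ qW) (qW ++ [9]) &&
    eqP [0, 0] [] && eqP [2, 2] [] && neK [0] [2] && neK [2] []) = true := by
  rw [c_check0, c_check1, c_check2, c_check3, c_check4, c_check5, c_check6]
  decide +kernel

theorem word7 : (inC qW && inC q1W && inC (iw11 qW)) = true := by decide

variable {G : Type u} [Group G] {z : G}

/-- an element exchanging the first letter and c with the known action -/
structure SwapData (S : Setting z) (w : G) : Prop where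
  sq : w * w = 1
  a_eq : w * z * w = S.L 2
  s_eq : w * S.L 5 * w = S.L 5
  t_eq : w * S.L 7 * w = S.L 7
  e_eq : w * S.L 4 * w = S.L 4
  u_eq : w * S.L 9 * w = S.L 9 * S.L 4
  q_eq : w * prodW S.L qW * w = prodW S.L q1W

namespace Setting

variable (S : Setting z)

include S in
theorem z_sq : z * z = 1 := by
  have h := c_checks
  simp only [Bool.and_eq_true] at h
  have e := S.eq_of_th (l := [0, 0]) (m := []) (by decide) (by decide) (eqP_th h.1.1.1.2)
  simpa [S.L_zero] using e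

theorem c_sq : S.L 2 * S.L 2 = 1 := by
  have h := c_checks
  simp only [Bool.and_eq_true] at h
  simpa using S.eq_of_th (l := [2, 2]) (m := []) (by decide) (by decide) (eqP_th h.1.1.2)

theorem c_ne : S.L 2 ≠ z ∧ S.L 2 ≠ 1 := by
  have h := c_checks
  simp only [Bool.and_eq_true] at h
  constructor
  · have e := S.ne_of_th (l := [0]) (m := [2]) (by decide) (by decide) (neK_th h.1.2)
    simpa [S.L_zero, eq_comm] using e
  · simpa using S.ne_of_th (l := [2]) (m := []) (by decide) (by decide) (neK_th h.2)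

theorem c_comm : S.L 2 * z = z * S.L 2 := S.comm_zg (by decide)

/-- some element carries c to the first letter and the first letter to c -/
theorem exists_exchange : ∃ g : G, g * S.L 2 * g⁻¹ = z ∧ g * z * g⁻¹ = S.L 2 := by
  obtain ⟨g, hg⟩ := S.fused
  change g * S.L 2 * g⁻¹ = z at hg
  set a' := g * z * g⁻¹ with ha'
  have hcomm : a' * z = z * a' := by
    rw [ha']
    calc g * z * g⁻¹ * z = g * z * g⁻¹ * (g * S.L 2 * g⁻¹) := by rw [hg]
      _ = g * (z * S.L 2) * g⁻¹ := by group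
      _ = g * (S.L 2 * z) * g⁻¹ := by rw [S.c_comm]
      _ = g * S.L 2 * g⁻¹ * (g * z * g⁻¹) := by group
      _ = _ := by rw [hg]
  obtain ⟨v, hv⟩ := S.lift hcomm
  have hv2 : (v : Th) * v = 1 := by
    have e : S.ι (v * v) = S.ι 1 := by
      rw [_root_.map_mul, hv, _root_.map_one, ha',
        show g * z * g⁻¹ * (g * z * g⁻¹) = g * (z * z) * g⁻¹ by group, S.z_sq]
      group
    exact congrArg Subtype.val (S.inj e)
  have hv1 : (v : Th) ≠ 1 := fun e => by
    have hv' : S.ι v = 1 := by rw [show v = 1 from Subtype.ext e, _root_.map_one]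
    rw [hv, ha', conj_eq_one_iff] at hv'
    have hz1 : ∀ p : G, p * z = p := fun p => (congrArg (p * ·) hv').trans (mul_one p)
    exact S.c_ne.2 (by
      calc S.L 2 = g⁻¹ * (g * S.L 2 * g⁻¹) * g := by group
        _ = g⁻¹ * z * g := by rw [hg]
        _ = 1 := by rw [hz1, inv_mul_cancel])
  have hva : (v : Th) ≠ tg 0 := fun e => by
    have hv' : S.ι v = z := by
      rw [S.of_th (l := [0]) (by decide) (by simpa using e)]; simpa using S.L_zero
    rw [hv, ha'] at hv'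
    exact S.c_ne.1 (by
      calc S.L 2 = g⁻¹ * (g * S.L 2 * g⁻¹) * g := by group
        _ = g⁻¹ * (g * z * g⁻¹) * g := by rw [hg, hv']
        _ = z := by group)
  by_cases hq : (v : Th) ∈ qTh
  · obtain ⟨h, hh, e⟩ := q_class hq hv2 hv1 hva
    have hc : S.ι ⟨h, hh⟩ * z = z * S.ι ⟨h, hh⟩ := S.comm_iff.1 ⟨_, rfl⟩
    refine ⟨S.ι ⟨h, hh⟩ * g, ?_, ?_⟩
    · rw [show S.ι ⟨h, hh⟩ * g * S.L 2 * (S.ι ⟨h, hh⟩ * g)⁻¹ =
        S.ι ⟨h, hh⟩ * (g * S.L 2 * g⁻¹) * (S.ι ⟨h, hh⟩)⁻¹ by group, hg, hc, mul_inv_cancel_right]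
    · rw [show S.ι ⟨h, hh⟩ * g * z * (S.ι ⟨h, hh⟩ * g)⁻¹ =
        S.ι ⟨h, hh⟩ * (g * z * g⁻¹) * (S.ι ⟨h, hh⟩)⁻¹ by group, ← ha', ← hv, ← _root_.map_inv,
        ← _root_.map_mul, ← _root_.map_mul]
      refine congrArg S.ι (Subtype.ext ?_)
      rw [Subgroup.coe_mul, Subgroup.coe_mul, Subgroup.coe_inv, cW_coe (by decide), prodW_single, e]
      group
  · exfalso
    obtain ⟨h, hh, e⟩ := d_class v.2 hv2 hq
    set k : G := S.ι ⟨h, hh⟩ * g with hk
    have hd : k * z * k⁻¹ = S.L 3 := by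
      rw [hk, show S.ι ⟨h, hh⟩ * g * z * (S.ι ⟨h, hh⟩ * g)⁻¹ =
        S.ι ⟨h, hh⟩ * (g * z * g⁻¹) * (S.ι ⟨h, hh⟩)⁻¹ by group, ← ha', ← hv, ← _root_.map_inv,
        ← _root_.map_mul, ← _root_.map_mul]
      refine congrArg S.ι (Subtype.ext ?_)
      rw [Subgroup.coe_mul, Subgroup.coe_mul, Subgroup.coe_inv, cW_coe (by decide), prodW_single, e]
      group
    have hzk : k * S.L 2 * k⁻¹ = z := by
      rw [hk, show S.ι ⟨h, hh⟩ * g * S.L 2 * (S.ι ⟨h, hh⟩ * g)⁻¹ =
        S.ι ⟨h, hh⟩ * (g * S.L 2 * g⁻¹) * (S.ι ⟨h, hh⟩)⁻¹ by group, hg,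
        S.comm_iff.1 ⟨⟨h, hh⟩, rfl⟩, mul_inv_cancel_right]
    have ho := odd_ok
    simp only [oddOK, Bool.and_eq_true] at ho
    have hs2 : S.L 2 * S.L 5 = S.L 5 * S.L 2 := by
      simpa using S.eq_of_th (l := [2, 5]) (m := [5, 2]) (by decide) (by decide) (eqP_th ho.1.1.1.1.1.1.1.2)
    obtain ⟨r, hr⟩ := S.lift (y := k * S.L 5 * k⁻¹) (by
      calc k * S.L 5 * k⁻¹ * z = k * S.L 5 * k⁻¹ * (k * S.L 2 * k⁻¹) := by rw [hzk]
        _ = k * (S.L 5 * S.L 2) * k⁻¹ := by group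
        _ = k * (S.L 2 * S.L 5) * k⁻¹ := by rw [hs2]
        _ = k * S.L 2 * k⁻¹ * (k * S.L 5 * k⁻¹) := by group
        _ = _ := by rw [hzk])
    have hrd : (r : Th) * (cW [3] : centA) = (cW [3] : centA) * (r : Th) := S.th_of_comm (by
      show S.ι r * S.L 3 = S.L 3 * S.ι r
      rw [hr, ← hd]
      have hz5 := S.comm_zg (g := 5) (by decide)
      calc k * S.L 5 * k⁻¹ * (k * z * k⁻¹) = k * (S.L 5 * z) * k⁻¹ := by group
        _ = k * (z * S.L 5) * k⁻¹ := by rw [hz5]
        _ = _ := by group)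
    have h7 : S.L 5 ^ 7 = 1 := by
      have e7 := S.eq_of_th (l := List.replicate 7 5) (m := []) (by decide) (by decide)
        (eqP_th ho.1.1.1.1.1.1.1.1.1.2)
      simpa [pow_succ, mul_assoc] using e7
    have hr7 : (r : Th) ^ 7 = 1 := by
      have e' : S.ι (r ^ 7) = S.ι 1 := by rw [map_pow, hr, _root_.map_one, conj_pow, h7]; group
      simpa using congrArg Subtype.val (S.inj e')
    rw [cW_coe (by decide), prodW_single] at hrd
    have hr1 := seven_d_none r.2 hr7 hrd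
    rw [show r = 1 from Subtype.ext hr1, _root_.map_one, eq_comm, conj_eq_one_iff] at hr
    exact S.ne_of_th (l := [5]) (m := []) (by decide) (by decide) (neK_th ho.1.1.1.1.1.1.1.1.1.1.2)
      (by simpa using hr)

/-- the centraliser of both -/
def C1 : Subgroup G := Subgroup.centralizer ({z} : Set G) ⊓ Subgroup.centralizer ({S.L 2} : Set G)

theorem mem_C1 {y : G} : y ∈ S.C1 ↔ y * z = z * y ∧ y * S.L 2 = S.L 2 * y := by
  rw [C1, Subgroup.mem_inf, Subgroup.mem_centralizer_singleton_iff, Subgroup.mem_centralizer_singleton_iff]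

theorem conj_C1 {g y : G} (hg : g * S.L 2 * g⁻¹ = z) (hg' : g * z * g⁻¹ = S.L 2) (hy : y ∈ S.C1) :
    g * y * g⁻¹ ∈ S.C1 := by
  obtain ⟨h1, h2⟩ := S.mem_C1.1 hy
  refine S.mem_C1.2 ⟨?_, ?_⟩
  · calc g * y * g⁻¹ * z = g * y * g⁻¹ * (g * S.L 2 * g⁻¹) := by rw [hg]
      _ = g * (y * S.L 2) * g⁻¹ := by group
      _ = g * (S.L 2 * y) * g⁻¹ := by rw [h2]
      _ = g * S.L 2 * g⁻¹ * (g * y * g⁻¹) := by group
      _ = _ := by rw [hg]
  · calc g * y * g⁻¹ * S.L 2 = g * y * g⁻¹ * (g * z * g⁻¹) := by rw [hg']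
      _ = g * (y * z) * g⁻¹ := by group
      _ = g * (z * y) * g⁻¹ := by rw [h1]
      _ = g * z * g⁻¹ * (g * y * g⁻¹) := by group
      _ = _ := by rw [hg']

theorem word_C1 {l : List ℕ} (hl : inC l = true) (h : prodW tg l * tg 2 = tg 2 * prodW tg l) :
    prodW S.L l ∈ S.C1 := by
  refine S.mem_C1.2 ⟨S.comm_z hl, ?_⟩
  have e := S.eq_of_th (l := l ++ [2]) (m := 2 :: l)
    (by simp only [inC_append, hl]; decide)
    (by rw [show (2 :: l) = [2] ++ l from rfl, inC_append, hl]; decide) (by simpa [prodW_append] using h)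
  simpa [prodW_append] using e

theorem th_C1 {v : centA} (h : S.ι v ∈ S.C1) : (v : Th) * tg 2 = tg 2 * v := by
  have := S.th_of_comm (v := v) (w := cW [2]) (S.mem_C1.1 h).2
  rwa [cW_coe (by decide), prodW_single] at this

/-- an exchanging element normalising both odd letters -/
theorem exists_normalised [Finite G] : ∃ g : G, g * S.L 2 * g⁻¹ = z ∧ g * z * g⁻¹ = S.L 2 ∧
    g * S.L 7 * g⁻¹ = S.L 7 ∧ (g * S.L 5 * g⁻¹ = S.L 5 ∨ g * S.L 5 * g⁻¹ = S.L 6) := by
  obtain ⟨g, hg, hg'⟩ := S.exists_exchange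
  have ho := odd_ok
  simp only [oddOK, Bool.and_eq_true] at ho
  obtain ⟨⟨⟨⟨⟨⟨⟨⟨⟨⟨⟨o1, o2⟩, o3⟩, o4⟩, o5⟩, o6⟩, -⟩, -⟩, o9⟩, -⟩, o11⟩, o12⟩ := ho
  have hsC : S.L 5 ∈ S.C1 := by
    simpa using S.word_C1 (l := [5]) (by decide) (by simpa using (eqP_th o5).symm)
  have htC : S.L 7 ∈ S.C1 := by
    simpa using S.word_C1 (l := [7]) (by decide) (by simpa using (eqP_th o6).symm)
  have s7 : S.L 5 ^ 7 = 1 := by
    simpa [pow_succ, mul_assoc] using S.eq_of_th (l := List.replicate 7 5) (m := []) (by decide) (by decide) (eqP_th o3)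
  have s1 : S.L 5 ≠ 1 := by
    simpa using S.ne_of_th (l := [5]) (m := []) (by decide) (by decide) (neK_th o2)
  haveI : Fact (Nat.Prime 7) := ⟨by norm_num⟩
  set H := S.C1
  let sH : H := ⟨S.L 5, hsC⟩
  let rH : H := ⟨g * S.L 5 * g⁻¹, S.conj_C1 hg hg' hsC⟩
  have os : orderOf sH = 7 := orderOf_eq_prime (Subtype.ext s7) fun e => s1 (congrArg Subtype.val e)
  have or7 : orderOf rH = 7 := orderOf_eq_prime (Subtype.ext (by
      show (g * S.L 5 * g⁻¹) ^ 7 = 1
      rw [conj_pow, s7]; group))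
    fun e => s1 (by simpa [rH] using congrArg Subtype.val e)
  have hcard : Nat.card H ∣ 92897280 := by
    have h1 : Nat.card H ∣ Nat.card (Subgroup.centralizer ({z} : Set G)) :=
      Subgroup.card_dvd_of_le inf_le_left
    rwa [← S.range, ← Nat.card_congr (MonoidHom.ofInjective S.inj).toEquiv, card_centA] at h1
  have syl : ∀ x : H, orderOf x = 7 → ∃ P : Sylow 7 H, (P : Subgroup H) = Subgroup.zpowers x := by
    intro x hx
    have hp : IsPGroup 7 (Subgroup.zpowers x) := IsPGroup.of_card (n := 1) (by rw [Nat.card_zpowers, hx, pow_one])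
    obtain ⟨P, hP⟩ := hp.exists_le_sylow
    refine ⟨P, (Subgroup.eq_of_le_of_card_ge hP ?_).symm⟩
    obtain ⟨k, hk⟩ := IsPGroup.iff_card.1 P.isPGroup'
    have hd : 7 ^ k ∣ 92897280 := hk ▸ (Subgroup.card_subgroup_dvd_card _).trans hcard
    rw [Nat.card_zpowers, hx, hk]
    have : k ≤ 1 := by
      by_contra hk2
      have : 7 ^ 2 ∣ 92897280 := (pow_dvd_pow 7 (by omega)).trans hd
      norm_num at this
    calc 7 ^ k ≤ 7 ^ 1 := Nat.pow_le_pow_right (by norm_num) this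
      _ = 7 := pow_one 7
  obtain ⟨P, hP⟩ := syl sH os
  obtain ⟨P', hP'⟩ := syl rH or7
  obtain ⟨h, hh⟩ := MulAction.exists_smul_eq H P' P
  have hmem : MulAut.conj h rH ∈ Subgroup.zpowers sH := by
    have := congrArg (fun Q : Sylow 7 H => (Q : Subgroup H)) hh
    simp only [Sylow.coe_subgroup_smul, hP, hP'] at this
    rw [← this]
    exact Subgroup.smul_mem_pointwise_smul _ (MulAut.conj h) _ (Subgroup.mem_zpowers _)
  obtain ⟨i, hi⟩ := (mem_powers_iff_mem_zpowers (x := sH)).2 hmem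
  simp only at hi
  rw [MulAut.conj_apply] at hi
  set g2 := (h : G) * g with hg2
  have h2a : g2 * S.L 2 * g2⁻¹ = z := by
    rw [hg2, show (h : G) * g * S.L 2 * ((h : G) * g)⁻¹ = (h : G) * (g * S.L 2 * g⁻¹) * (h : G)⁻¹ by group,
      hg, (S.mem_C1.1 h.2).1, mul_inv_cancel_right]
  have h2c : g2 * z * g2⁻¹ = S.L 2 := by
    rw [hg2, show (h : G) * g * z * ((h : G) * g)⁻¹ = (h : G) * (g * z * g⁻¹) * (h : G)⁻¹ by group,
      hg', (S.mem_C1.1 h.2).2, mul_inv_cancel_right]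
  have hi' : g2 * S.L 5 * g2⁻¹ = S.L 5 ^ (i % 7) := by
    have e := congrArg Subtype.val hi
    simp only [Subgroup.coe_mul, SubmonoidClass.coe_pow, Subgroup.coe_inv, sH, rH] at e
    rw [pow_mod_seven s7, e, hg2]
    group
  have hi0 : i % 7 ≠ 0 := fun e0 => s1 (by
    rw [e0, pow_zero, conj_eq_one_iff] at hi'; exact hi')
  -- the image of the third-order letter
  set r := g2 * S.L 7 * g2⁻¹ with hr
  have hrC : r ∈ S.C1 := S.conj_C1 h2a h2c htC
  have t3 : S.L 7 * S.L 7 * S.L 7 = 1 := by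
    simpa [mul_assoc] using S.eq_of_th (l := [7, 7, 7]) (m := []) (by decide) (by decide) (eqP_th o4)
  have tst : (S.L 7)⁻¹ * S.L 5 * S.L 7 = S.L 5 ^ 2 := by
    have e := S.eq_of_th (l := [8, 5, 7]) (m := [5, 5]) (by decide) (by decide) (eqP_th o1)
    have e8 : S.L 8 = (S.L 7)⁻¹ := by
      rw [L, L, ← _root_.map_inv]
      exact congrArg S.ι (cW_single_inv (by decide) (by decide) rfl)
    simpa [e8, pow_two, mul_assoc] using e
  have rsr : r⁻¹ * S.L 5 * r = S.L 5 ^ 2 := by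
    have hp : ∀ n : ℕ, r⁻¹ * (S.L 5 ^ (i % 7)) ^ n * r = ((S.L 5 ^ (i % 7)) ^ n) ^ 2 := fun n => by
      rw [← hi', hr, conj_pow, conj_pow, ← pow_mul, mul_comm n 2, pow_mul, ← tst, ]
      have : ((S.L 7)⁻¹ * S.L 5 * S.L 7) ^ n = (S.L 7)⁻¹ * S.L 5 ^ n * S.L 7 := by
        clear * -
        induction n with
        | zero => simp
        | succ m ih => rw [pow_succ, ih, pow_succ]; group
      rw [this]
      group
    obtain ⟨j, hj⟩ : ∃ j, i % 7 * j % 7 = 1 := by
      have : ∀ k < 7, k ≠ 0 → ∃ j < 7, k * j % 7 = 1 := by decide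
      obtain ⟨j, -, hj⟩ := this _ (Nat.mod_lt _ (by norm_num)) hi0
      exact ⟨j, hj⟩
    have e := hp j
    rwa [← pow_mul, pow_mod_seven' s7 (i % 7 * j), hj, pow_one] at e
  obtain ⟨v, hv⟩ := S.lift (y := r * (S.L 7)⁻¹) (S.mem_C1.1 (mul_mem hrC (inv_mem htC))).1
  obtain ⟨w, hw, hvw⟩ := mem_cs v.2 (S.th_C1 (by rw [hv]; exact mul_mem hrC (inv_mem htC))) (by
    have hc := S.th_of_comm (v := v) (w := cW [5]) (by
      show S.ι v * S.L 5 = S.L 5 * S.ι v
      rw [hv]
      calc r * (S.L 7)⁻¹ * S.L 5 = r * ((S.L 7)⁻¹ * S.L 5 * S.L 7) * (S.L 7)⁻¹ := by group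
        _ = r * (r⁻¹ * S.L 5 * r) * (S.L 7)⁻¹ := by rw [tst, rsr]
        _ = _ := by group)
    rwa [cW_coe (by decide), prodW_single] at hc)
  have hwl : (∀ c ∈ w, c < 9) ∧ inC w = true := by
    have hws := words_ok
    simp only [Bool.and_eq_true, wordsOK, List.all_eq_true, Nat.blt_eq] at hws
    exact ⟨(hws.2 w hw).1.1, (hws.2 w hw).1.2⟩
  simp only [List.all_eq_true, Bool.or_eq_true, Bool.not_eq_true', List.any_eq_true, List.mem_range] at o9
  have hr3 : r * r * r = 1 := by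
    rw [hr, show g2 * S.L 7 * g2⁻¹ * (g2 * S.L 7 * g2⁻¹) * (g2 * S.L 7 * g2⁻¹) =
      g2 * (S.L 7 * S.L 7 * S.L 7) * g2⁻¹ by group, t3]; group
  obtain ⟨j, hj, hjw⟩ : ∃ j < 7, (v : Th) = prodW tg (sPow j) := by
    rcases o9 w hw with h9 | ⟨j, hj, h9⟩
    · exfalso
      have hl : ∀ c ∈ w ++ [7] ++ w ++ [7] ++ w ++ [7], c < 9 := by
        intro c hc
        simp only [List.mem_append, List.mem_singleton] at hc
        rcases hc with ((((hc | rfl) | hc) | rfl) | hc) | rfl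
        all_goals first | exact hwl.1 _ hc | norm_num
      refine eqP_ne (l := w ++ [7] ++ w ++ [7] ++ w ++ [7]) (m := [])
        (by simp only [List.all_eq_true, Nat.blt_eq]; exact hl) (by simp) h9 ?_
      have h' : S.ι ((v * cW [7]) * (v * cW [7]) * (v * cW [7])) = S.ι 1 := by
        simp only [_root_.map_mul, hv, _root_.map_one, show S.ι (cW [7]) = S.L 7 from rfl,
          inv_mul_cancel_right]
        exact hr3
      have h'' := congrArg Subtype.val (S.inj h')
      simpa [prodW_append, cW1 (show inC [7] = true by decide), hvw, mul_assoc] using h''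
    · refine ⟨j, hj, hvw.trans ?_⟩
      refine eqP_th ?_
      simp only [eqP, Bool.and_eq_true, List.all_eq_true, Nat.blt_eq]
      exact ⟨⟨hwl.1, fun c hc => by rw [sPow, List.mem_replicate] at hc; omega⟩, h9⟩
  have hsp : ∀ n, inC (sPow n) = true ∧ prodW S.L (sPow n) = S.L 5 ^ n := fun n => by
    refine ⟨?_, ?_⟩
    · exact List.all_eq_true.2 fun c hc => by rw [sPow, List.mem_replicate] at hc; rw [hc.2]; rfl
    · simp [sPow, prodW, List.map_replicate, List.prod_replicate]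
  have hrj : r = S.L 5 ^ j * S.L 7 := by
    rw [← (hsp j).2, ← S.of_th (hsp j).1 hjw, hv, inv_mul_cancel_right]
  simp only [List.all_eq_true, List.mem_range] at o11
  have e11 := S.eq_of_th (l := sPow (5 * j % 7) ++ sPow j ++ [7]) (m := [7] ++ sPow (5 * j % 7))
    (by simp only [inC_append, (hsp _).1]; decide) (by simp only [inC_append, (hsp _).1]; decide)
    (eqP_th (o11 j hj))
  rw [prodW_append, prodW_append, prodW_append, prodW_single, (hsp _).2, (hsp _).2] at e11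
  set g3 := S.L 5 ^ (5 * j % 7) * g2 with hg3
  have sn := S.mem_C1.1 (pow_mem hsC (5 * j % 7))
  have h3a : g3 * S.L 2 * g3⁻¹ = z := by
    rw [hg3, show ∀ p : G, p * g2 * S.L 2 * (p * g2)⁻¹ = p * (g2 * S.L 2 * g2⁻¹) * p⁻¹ from fun p => by group,
      h2a, sn.1, mul_inv_cancel_right]
  have h3c : g3 * z * g3⁻¹ = S.L 2 := by
    rw [hg3, show ∀ p : G, p * g2 * z * (p * g2)⁻¹ = p * (g2 * z * g2⁻¹) * p⁻¹ from fun p => by group,
      h2c, sn.2, mul_inv_cancel_right]
  have h3t : g3 * S.L 7 * g3⁻¹ = S.L 7 := by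
    rw [hg3, show ∀ p : G, p * g2 * S.L 7 * (p * g2)⁻¹ = p * r * p⁻¹ from fun p => by rw [hr]; group,
      hrj, ← mul_assoc, e11, mul_inv_cancel_right]
  have h3s : g3 * S.L 5 * g3⁻¹ = S.L 5 ^ (i % 7) := by
    rw [hg3, show ∀ p : G, p * g2 * S.L 5 * (p * g2)⁻¹ = p * (g2 * S.L 5 * g2⁻¹) * p⁻¹ from fun p => by group,
      hi', ← pow_add, add_comm, pow_add, mul_inv_cancel_right]
  simp only [List.all_eq_true, List.mem_range, Bool.or_eq_true, List.any_eq_true] at o12
  rcases o12 (i % 7) (Nat.mod_lt _ (by norm_num)) with h0 | ⟨k, hk, hks⟩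
  · exact absurd (Nat.eq_of_beq_eq_true h0) hi0
  have htp : inC (List.replicate k 7) = true ∧ prodW S.L (List.replicate k 7) = S.L 7 ^ k :=
    ⟨List.all_eq_true.2 fun c hc => by rw [List.mem_replicate] at hc; rw [hc.2]; rfl, by simp [prodW, List.map_replicate, List.prod_replicate]⟩
  have tn := S.mem_C1.1 (pow_mem htC k)
  refine ⟨S.L 7 ^ k * g3, ?_, ?_, ?_, ?_⟩
  · rw [show S.L 7 ^ k * g3 * S.L 2 * (S.L 7 ^ k * g3)⁻¹ = S.L 7 ^ k * (g3 * S.L 2 * g3⁻¹) * (S.L 7 ^ k)⁻¹ by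
      group, h3a, tn.1, mul_inv_cancel_right]
  · rw [show S.L 7 ^ k * g3 * z * (S.L 7 ^ k * g3)⁻¹ = S.L 7 ^ k * (g3 * z * g3⁻¹) * (S.L 7 ^ k)⁻¹ by
      group, h3c, tn.2, mul_inv_cancel_right]
  · rw [show S.L 7 ^ k * g3 * S.L 7 * (S.L 7 ^ k * g3)⁻¹ = S.L 7 ^ k * (g3 * S.L 7 * g3⁻¹) * (S.L 7 ^ k)⁻¹ by
      group, h3t, (Commute.self_pow (S.L 7) k).symm.eq, mul_inv_cancel_right]
  · have key : ∀ σ, inC [σ] = true → eqP (List.replicate k 7 ++ sPow (i % 7)) ([σ] ++ List.replicate k 7) = true →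
        S.L 7 ^ k * g3 * S.L 5 * (S.L 7 ^ k * g3)⁻¹ = S.L σ := fun σ hσ h => by
      have e := S.eq_of_th (l := List.replicate k 7 ++ sPow (i % 7)) (m := [σ] ++ List.replicate k 7)
        (by rw [inC_append, htp.1, (hsp _).1]; rfl) (by rw [inC_append, hσ, htp.1]; rfl) (eqP_th h)
      rw [prodW_append, prodW_append, prodW_single, htp.2, (hsp _).2] at e
      rw [show S.L 7 ^ k * g3 * S.L 5 * (S.L 7 ^ k * g3)⁻¹ = S.L 7 ^ k * (g3 * S.L 5 * g3⁻¹) * (S.L 7 ^ k)⁻¹ by
        group, h3s, e, mul_inv_cancel_right]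
    rcases hks with h | h
    exacts [Or.inl (key 5 (by decide) h), Or.inr (key 6 (by decide) h)]
where
  pow_mod_seven {x : G} {n : ℕ} (h : x ^ 7 = 1) : x ^ (n % 7) = x ^ n := by
    conv_rhs => rw [← Nat.div_add_mod n 7, pow_add, pow_mul, h, one_pow, one_mul]
  pow_mod_seven' {x : G} (h : x ^ 7 = 1) (n : ℕ) : x ^ n = x ^ (n % 7) := by
    conv_lhs => rw [← Nat.div_add_mod n 7, pow_add, pow_mul, h, one_pow, one_mul]

/-- the exchanging involution -/
theorem exists_swap [Finite G] : ∃ w : G, SwapData S w := by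
  obtain ⟨g, hga, hgc, hgt, hgs⟩ := S.exists_normalised
  have hk := c_checks
  simp only [Bool.and_eq_true] at hk
  obtain ⟨⟨⟨⟨⟨⟨⟨⟨⟨⟨⟨⟨⟨⟨⟨⟨⟨⟨⟨k1, k2⟩, k3⟩, k4⟩, k5⟩, k6⟩, k7⟩, k8⟩, k9⟩, k10⟩, k11⟩, k12⟩, k13⟩, k14⟩, k15⟩,
    k16⟩, -⟩, -⟩, -⟩, -⟩ := hk
  have hwq := word7
  simp only [Bool.and_eq_true] at hwq
  have cj : ∀ p q : G, g * (p * q) * g⁻¹ = g * p * g⁻¹ * (g * q * g⁻¹) := fun p q => by group
  have T8 : S.L 8 = (S.L 7)⁻¹ := by
    rw [L, L, ← _root_.map_inv]
    exact congrArg S.ι (cW_single_inv (by decide) (by decide) rfl)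
  have S6 : S.L 6 = (S.L 5)⁻¹ := by
    rw [L, L, ← _root_.map_inv]
    exact congrArg S.ι (cW_single_inv (by decide) (by decide) rfl)
  have hgT : g * S.L 8 * g⁻¹ = S.L 8 := by
    rw [T8, show g * (S.L 7)⁻¹ * g⁻¹ = (g * S.L 7 * g⁻¹)⁻¹ by group, hgt]
  obtain ⟨σ, τ, hst, hσ, hτ⟩ : ∃ σ τ, ((σ = 5 ∧ τ = 6) ∨ (σ = 6 ∧ τ = 5)) ∧
      g * S.L 5 * g⁻¹ = S.L σ ∧ g * S.L 6 * g⁻¹ = S.L τ := by
    rcases hgs with h | h
    · exact ⟨5, 6, Or.inl ⟨rfl, rfl⟩, h, by
        rw [S6, show g * (S.L 5)⁻¹ * g⁻¹ = (g * S.L 5 * g⁻¹)⁻¹ by group, h]⟩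
    · exact ⟨6, 5, Or.inr ⟨rfl, rfl⟩, h, by
        rw [S6, show g * (S.L 5)⁻¹ * g⁻¹ = (g * S.L 5 * g⁻¹)⁻¹ by group, h, S6, inv_inv]⟩
  have img : ∀ l : List ℕ, inC l = true → prodW tg l * tg 2 = tg 2 * prodW tg l →
      ∃ v : centA, S.ι v = g * prodW S.L l * g⁻¹ ∧ (v : Th) * tg 2 = tg 2 * v := fun l hl hc => by
    have hC := S.conj_C1 hga hgc (S.word_C1 hl hc)
    obtain ⟨v, hv⟩ := S.lift (S.mem_C1.1 hC).1
    exact ⟨v, hv, S.th_C1 (hv ▸ hC)⟩
  obtain ⟨y, hy, hyc⟩ := img [4] (by decide) (by simpa using eqP_th k5)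
  obtain ⟨v, hv, hvc⟩ := img [9] (by decide) (by simpa using eqM_th k3)
  obtain ⟨q, hq, hqc⟩ := img qW hwq.1.1 (by simpa [prodW_append] using eqM_th k14)
  rw [prodW_single] at hy hv
  have th2 : ∀ (x x' : centA) (m : List ℕ), inC m = true → S.ι x * S.ι x' = prodW S.L m →
      (x : Th) * x' = prodW tg m := fun x x' m hm h =>
    S.th_eq (v := x * x') hm (by rw [_root_.map_mul, h])
  have hyt : (y : Th) * tg 7 = tg 7 * y := by
    have e := S.th_of_comm (v := y) (w := cW [7]) (by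
      show S.ι y * S.L 7 = S.L 7 * S.ι y
      rw [hy, ← hgt, ← cj, ← cj]
      refine congrArg (fun p => g * p * g⁻¹) ?_
      simpa using S.eq_of_th (l := [4, 7]) (m := [7, 4]) (by decide) (by decide) (eqP_th k6))
    rwa [cW_coe (by decide), prodW_single] at e
  have inv_t : ∀ (x : centA) (l : List ℕ), inC l = true → S.ι x = g * prodW S.L l * g⁻¹ →
      prodW tg (l ++ [7]) = prodW tg (8 :: l) → (x : Th) * tg 7 = tg 8 * x := fun x l hl hx h => by
    have e : S.ι (x * cW [7]) = S.ι (cW [8] * x) := by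
      simp only [_root_.map_mul]
      show S.ι x * S.L 7 = S.L 8 * S.ι x
      rw [hx, ← hgt, ← hgT, ← cj, ← cj]
      refine congrArg (fun p => g * p * g⁻¹) ?_
      have e' := S.eq_of_th (l := l ++ [7]) (m := [8] ++ l) (by rw [inC_append, hl]; decide)
        (by rw [inC_append, hl]; decide) h
      simpa [prodW_append] using e'
    have e2 := congrArg Subtype.val (S.inj e)
    simpa [Subgroup.coe_mul, cW1 (show inC [7] = true by decide), cW1 (show inC [8] = true by decide)] using e2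
  have hvt := inv_t v [9] (by decide) (by simpa using hv) (by simpa using eqM_th k4)
  have hqt := inv_t q qW hwq.1.1 hq (by
    have e := eqM_th k15
    simpa [prodW_append] using e)
  have hy2 : (y : Th) * y = 1 := by
    have := th2 y y [] (by decide) (by
      rw [hy, ← cj, show S.L 4 * S.L 4 = 1 by
        simpa using S.eq_of_th (l := [4, 4]) (m := []) (by decide) (by decide) (eqP_th k7)]
      simp)
    simpa using this
  have hy1 : (y : Th) ≠ 1 := fun e => by
    rw [show y = 1 from Subtype.ext e, _root_.map_one, eq_comm, conj_eq_one_iff] at hy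
    exact S.ne_of_th (l := [4]) (m := []) (by decide) (by decide) (neK_th k8) (by simpa using hy)
  have hv2 : (v : Th) * v = tg 0 * tg 2 := by
    have := th2 v v [2, 0] (by decide) (by
      rw [hv, ← cj, show S.L 9 * S.L 9 = S.L 0 * S.L 2 by
        simpa using S.eq_of_th (l := [9, 9]) (m := [0, 2]) (by decide) (by decide) (eqM_th k1)]
      rw [cj, S.L_zero, hgc, hga]; simp [S.L_zero])
    rw [this]
    simp only [prodW_cons, prodW_nil, mul_one]
    exact tg_comm0 (by decide)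
  have hvy : (v : Th) * y = y * v := by
    refine S.th_of_comm ?_
    rw [hv, hy, ← cj, ← cj]
    refine congrArg (fun p => g * p * g⁻¹) ?_
    simpa using S.eq_of_th (l := [9, 4]) (m := [4, 9]) (by decide) (by decide) (eqM_th k2)
  have hσl : inC [σ] = true ∧ inC [τ] = true := by rcases hst with ⟨rfl, rfl⟩ | ⟨rfl, rfl⟩ <;> decide
  have hrel : (y : Th)⁻¹ * tg τ * y * tg σ = tg τ * tg τ * tg τ * y * (tg σ * tg σ * tg σ) := by
    have e : S.ι (y⁻¹ * cW [τ] * y * cW [σ]) =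
        S.ι (cW [τ] * cW [τ] * cW [τ] * y * (cW [σ] * cW [σ] * cW [σ])) := by
      simp only [_root_.map_mul, _root_.map_inv]
      show (S.ι y)⁻¹ * S.L τ * S.ι y * S.L σ = S.L τ * S.L τ * S.L τ * S.ι y * (S.L σ * S.L σ * S.L σ)
      have e4 : (S.L 4)⁻¹ = S.L 4 := inv_eq_of_mul_eq_one_right (by
        simpa using S.eq_of_th (l := [4, 4]) (m := []) (by decide) (by decide) (eqP_th k7))
      rw [hy, ← hσ, ← hτ, show (g * S.L 4 * g⁻¹)⁻¹ = g * (S.L 4)⁻¹ * g⁻¹ by group, e4]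
      simp only [← cj]
      refine congrArg (fun p => g * p * g⁻¹) ?_
      simpa [mul_assoc] using S.eq_of_th (l := [4, 6, 4, 5]) (m := [6, 6, 6, 4, 5, 5, 5]) (by decide) (by decide)
        (eqP_th k9)
    have e2 := congrArg Subtype.val (S.inj e)
    simpa [Subgroup.coe_mul, Subgroup.coe_inv, cW1 hσl.1, cW1 hσl.2] using e2
  obtain ⟨hye, hσ5⟩ := cand_e y.2 hyc hyt hy2 hy1 hst hrel v.2 hvc hvt hv2 hvy
  subst hσ5
  have ye : g * S.L 4 * g⁻¹ = S.L 4 := by
    rw [← hy, S.of_th (l := [4]) (by decide) (by simpa using hye)]; simp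
  have triple : ∀ (x : centA) (l m m' : List ℕ), inC l = true → inC m = true → inC m' = true →
      S.ι x = g * prodW S.L l * g⁻¹ → g * prodW S.L m * g⁻¹ = prodW S.L m' →
      prodW tg (l ++ [5] ++ l ++ [5] ++ l ++ [5]) = prodW tg m →
      ((x : Th) * tg 5) * ((x : Th) * tg 5) * ((x : Th) * tg 5) = prodW tg m' := by
    intro x l m m' hl hm hm' hx hmm h
    have e : S.ι ((x * cW [5]) * (x * cW [5]) * (x * cW [5])) = prodW S.L m' := by
      simp only [_root_.map_mul]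
      show (S.ι x * S.L 5) * (S.ι x * S.L 5) * (S.ι x * S.L 5) = _
      rw [hx, ← hσ, ← cj, ← cj, ← cj, ← hmm]
      refine congrArg (fun p => g * p * g⁻¹) ?_
      have e' := S.eq_of_th (l := l ++ [5] ++ l ++ [5] ++ l ++ [5]) (m := m)
        (by simp only [inC_append, hl]; decide) hm h
      simpa [prodW_append, mul_assoc] using e'
    have := S.th_eq hm' e
    simpa [Subgroup.coe_mul, cW1 (show inC [5] = true by decide)] using this
  have hqs := triple q qW [2] [0] hwq.1.1 (by decide) (by decide) hq (by simp [hga, S.L_zero])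
    (eqM_th k13)
  simp only [prodW_single] at hqs
  have hq2 : (q : Th) * q = tg 0 := by
    have := th2 q q [0] (by decide) (by
      rw [hq, ← cj, show prodW S.L qW * prodW S.L qW = S.L 2 by
        simpa [prodW_append] using S.eq_of_th (l := qW ++ qW) (m := [2])
          (by simp only [inC_append, hwq.1.1]; decide) (by decide) (eqM_th k10)]
      simp [hga, S.L_zero])
    simpa using this
  have hqe : (q : Th) * tg 4 * q = tg 4 := by
    have e : S.ι (q * cW [4] * q) = S.ι (cW [4]) := by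
      simp only [_root_.map_mul]
      show S.ι q * S.L 4 * S.ι q = S.L 4
      rw [hq, ← ye, ← cj, ← cj]
      refine congrArg (fun p => g * p * g⁻¹) ?_
      simpa [prodW_append, mul_assoc] using S.eq_of_th (l := qW ++ [4] ++ qW) (m := [4])
        (by simp only [inC_append, hwq.1.1]; decide) (by decide) (eqM_th k11)
    have := congrArg Subtype.val (S.inj e)
    simpa [Subgroup.coe_mul, cW1 (show inC [4] = true by decide)] using this
  have hqv := cand_q q.2 hqc hqt hq2 hqe hqs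
  have qeq : g * prodW S.L qW * g⁻¹ = prodW S.L q1W := by rw [← hq, S.of_th hwq.1.2 hqv]
  have hvs := triple v [9] [0, 2] [2, 0] (by decide) (by decide) (by decide) (by simpa using hv)
    (by simp only [prodW_cons, prodW_nil, mul_one]; rw [cj, S.L_zero, hgc, hga])
    (by simpa using eqM_th k12)
  have hve : (v : Th) * tg 4 = tg 4 * v := by rw [← hye]; exact hvy
  have hvq : tg 2 * (v : Th) * prodW tg q1W = prodW tg q1W * v := by
    rw [← hqv]
    have e : S.ι (cW [2] * v * q) = S.ι (q * v) := by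
      simp only [_root_.map_mul]
      show S.L 2 * S.ι v * S.ι q = S.ι q * S.ι v
      rw [hv, hq, ← hgc, ← cj, ← cj, ← cj]
      refine congrArg (fun p => g * p * g⁻¹) ?_
      simpa [prodW_append, mul_assoc, S.L_zero] using S.eq_of_th (l := [0, 9] ++ qW) (m := qW ++ [9])
        (by simp only [inC_append, hwq.1.1]; decide) (by simp only [inC_append, hwq.1.1]; decide) (eqM_th k16)
    have := congrArg Subtype.val (S.inj e)
    simpa [Subgroup.coe_mul, cW1 (show inC [2] = true by decide)] using this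
  have hvu := cand_u v.2 hvc hvt hv2 hve hvq (by
    rw [hvs]; simp only [prodW_cons, prodW_nil, mul_one]; exact tg_comm0 (by decide))
  have ueq : g * S.L 9 * g⁻¹ = S.L 9 * S.L 4 := by
    rw [← hv, S.of_th (l := [9, 4]) (by decide) (by simpa using hvu)]; simp
  -- the square
  have g2z : g * g * z * (g * g)⁻¹ = z := by
    rw [show g * g * z * (g * g)⁻¹ = g * (g * z * g⁻¹) * g⁻¹ by group, hgc, hga]
  have g2c : g * g * S.L 2 * (g * g)⁻¹ = S.L 2 := by
    rw [show g * g * S.L 2 * (g * g)⁻¹ = g * (g * S.L 2 * g⁻¹) * g⁻¹ by group, hga, hgc]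
  have g2x : ∀ x, g * x * g⁻¹ = x → g * g * x = x * (g * g) := fun x h => by
    calc g * g * x = g * (g * x * g⁻¹) * g⁻¹ * (g * g) := by group
      _ = _ := by rw [h, h]
  obtain ⟨m, hm⟩ := S.lift (mul_inv_eq_iff_eq_mul.1 g2z)
  have hmc : S.ι m ∈ S.C1 := by
    rw [hm]; exact S.mem_C1.2 ⟨mul_inv_eq_iff_eq_mul.1 g2z, mul_inv_eq_iff_eq_mul.1 g2c⟩
  have hms : (m : Th) * (cW [5] : centA) = (cW [5] : centA) * (m : Th) := S.th_of_comm (by
    show S.ι m * S.L 5 = S.L 5 * S.ι m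
    rw [hm]; exact g2x _ hσ)
  have hmt : (m : Th) * (cW [7] : centA) = (cW [7] : centA) * (m : Th) := S.th_of_comm (by
    show S.ι m * S.L 7 = S.L 7 * S.ι m
    rw [hm]; exact g2x _ hgt)
  rw [cW_coe (by decide), prodW_single] at hms hmt
  obtain ⟨w, hw, hmw⟩ := mem_cs m.2 (S.th_C1 hmc) hms
  have hwl : (∀ c ∈ w, c < 9) := by
    have hws := words_ok
    simp only [Bool.and_eq_true, wordsOK, List.all_eq_true, Nat.blt_eq] at hws
    exact (hws.2 w hw).1.1
  have ho := odd_ok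
  simp only [oddOK, Bool.and_eq_true] at ho
  have o10 := ho.1.1.2
  simp only [List.all_eq_true, Bool.or_eq_true, Bool.not_eq_true', List.any_eq_true] at o10
  obtain ⟨p, hp, hgg⟩ : ∃ p ∈ [[], [0], [2], [0, 2]], g * g = prodW S.L p := by
    rcases o10 w hw with h | ⟨p, hp, h⟩
    · exfalso
      refine eqP_ne (l := w ++ [7]) (m := 7 :: w) (by simpa using hwl) (by simpa using hwl) h ?_
      simpa [prodW_append, ← hmw] using hmt
    · have hpl : inC p = true ∧ (∀ c ∈ p, c < 9) := by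
        simp only [List.mem_cons, List.not_mem_nil, or_false] at hp
        rcases hp with rfl | rfl | rfl | rfl <;> exact ⟨by decide, by simp⟩
      refine ⟨p, hp, ?_⟩
      rw [← hm]
      refine S.of_th hpl.1 (hmw.trans (eqP_th ?_))
      simp only [eqP, Bool.and_eq_true, List.all_eq_true, Nat.blt_eq]
      exact ⟨⟨hwl, hpl.2⟩, h⟩
  have gfix : g * (g * g) * g⁻¹ = g * g := by group
  have hLa : ∀ n, inC [n] = true → z * S.L n = S.L n * z := fun n hn => (S.comm_zg hn).symm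
  have build : ∀ f : G, f * f = 1 → (∀ x, x * z = z * x → f * x * f⁻¹ = g * x * g⁻¹) → SwapData S f := by
    intro f hf hcj
    have fi : f⁻¹ = f := inv_eq_of_mul_eq_one_right hf
    have k : ∀ x, x * z = z * x → f * x * f = g * x * g⁻¹ := fun x hx => by rw [← hcj x hx, fi]
    exact ⟨hf, by rw [k z rfl, hgc], by rw [k _ (S.comm_zg (by decide)), hσ],
      by rw [k _ (S.comm_zg (by decide)), hgt], by rw [k _ (S.comm_zg (by decide)), ye],
      by rw [k _ (S.comm_zg (by decide)), ueq], by rw [k _ (S.comm_z hwq.1.1), qeq]⟩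
  simp only [List.mem_cons, List.not_mem_nil, or_false] at hp
  rcases hp with rfl | rfl | rfl | rfl
  · exact ⟨g, build g (by simpa using hgg) fun x _ => rfl⟩
  · exfalso
    rw [hgg] at gfix
    simp [S.L_zero, hgc] at gfix
    exact S.c_ne.1 gfix
  · exfalso
    rw [hgg] at gfix
    simp [hga] at gfix
    exact S.c_ne.1 gfix.symm
  · refine ⟨g * z, build _ ?_ fun x hx => ?_⟩
    · simp only [prodW_cons, prodW_nil, mul_one, S.L_zero] at hgg
      calc g * z * (g * z) = g * z * g⁻¹ * (g * g) * z := by group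
        _ = S.L 2 * (z * S.L 2) * z := by rw [hgc, hgg]
        _ = S.L 2 * S.L 2 * (z * z) := by rw [← S.c_comm]; simp only [mul_assoc]
        _ = _ := by rw [S.c_sq, S.z_sq, mul_one]
    · rw [mul_inv_rev, show g * z * x * (z⁻¹ * g⁻¹) = g * (z * x * z⁻¹) * g⁻¹ by group, ← hx,
        mul_inv_cancel_right]

end Setting

end CfsgLib.ThUnique
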