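import Cfsg.Agent.Lib.ThUnique.Classes
import Mathlib.GroupTheory.Sylow

/-!
The presented Thompson group has one class of involutions.
-/

set_option autoImplicit false
set_option linter.style.haveILetI false
set_option maxRecDepth 8000

namespace CfsgLib.ThUnique

open Cfsg.Spor CfsgLib.CosetEnum CfsgLib.ThPres CfsgLib.ThRep

attribute [local irreducible] keyRun wordMat certL ctWords csWords

/-- a word moving e to the first letter -/
def mWord : List ℕ := [1, 0, 2, 1, 3, 4, 10, 3, 4, 1, 0, 2, 1, 3, 2, 3]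

theorem class_checks : (eqP [0, 1, 0, 1, 0, 1] [] && eqP [1, 2, 1, 2, 1, 2] [] && eqP [3, 4, 3, 4, 3, 4] [] &&
    eqM (mWord ++ [4]) ([0] ++ mWord)) = true := by decide +kernel

theorem braid {G : Type*} [Group G] {a b : G} (ha : a * a = 1) (hb : b * b = 1)
    (h : a * b * a * b * a * b = 1) : IsConj a b := by
  rw [isConj_iff]
  refine ⟨a * b, ?_⟩
  rw [mul_inv_rev, inv_eq_of_mul_eq_one_right ha, inv_eq_of_mul_eq_one_right hb]
  calc a * b * a * (b * a) = a * b * a * b * a * b * b⁻¹ := by group
    _ = b := by rw [h, one_mul, inv_eq_of_mul_eq_one_right hb]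

/-- every involution is conjugate to the first letter -/
theorem th_class {v : Th} (hv : orderOf v = 2) : IsConj (tg 0) v := by
  haveI : Finite Th := Nat.finite_of_card_ne_zero (by rw [card_Th]; norm_num)
  have hc := class_checks
  simp only [Bool.and_eq_true] at hc
  obtain ⟨⟨⟨hab, hbc⟩, hde⟩, hm⟩ := hc
  have sq : ∀ g < 5, tg g * tg g = 1 := fun g hg => tg_sq hg
  have ab : IsConj (tg 0) (tg 1) := braid (sq 0 (by norm_num)) (sq 1 (by norm_num))
    (by simpa [mul_assoc] using eqP_th hab)
  have bc : IsConj (tg 1) (tg 2) := braid (sq 1 (by norm_num)) (sq 2 (by norm_num))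
    (by simpa [mul_assoc] using eqP_th hbc)
  have de : IsConj (tg 3) (tg 4) := braid (sq 3 (by norm_num)) (sq 4 (by norm_num))
    (by simpa [mul_assoc] using eqP_th hde)
  have ea : IsConj (tg 4) (tg 0) := by
    rw [isConj_iff]
    refine ⟨prodW tg mWord, ?_⟩
    have e := eqM_th hm
    rw [prodW_append, prodW_append] at e
    simp only [prodW_single] at e
    rw [e, mul_inv_cancel_right]
  -- move v into the centraliser
  have h2 : v * v = 1 := by rw [← pow_two, ← hv, pow_orderOf_eq_one]
  have h1 : v ≠ 1 := fun e => by rw [e, orderOf_one] at hv; norm_num at hv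
  haveI : Fact (Nat.Prime 2) := ⟨Nat.prime_two⟩
  obtain ⟨P, hP⟩ := (IsPGroup.of_card (n := 1) (show Nat.card (Subgroup.zpowers v) = 2 ^ 1 by
    rw [Nat.card_zpowers, hv, pow_one])).exists_le_sylow
  obtain ⟨S⟩ : Nonempty (Sylow 2 centA) := inferInstance
  have hidx : ¬ 2 ∣ ((S : Subgroup centA).map centA.subtype).index := by
    rw [Subgroup.index_map_subtype]
    have hi : centA.index = 976841775 := by
      have h := centA.card_mul_index
      rw [card_centA, card_Th] at h
      exact Nat.eq_of_mul_eq_mul_left (by norm_num : 0 < 92897280) (h.trans (by norm_num))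
    have hS : ¬ 2 ∣ (S : Subgroup centA).index := S.not_dvd_index
    rw [hi]
    intro hd
    rcases (Nat.prime_two.dvd_mul).1 hd with h | h
    · exact hS h
    · norm_num at h
  have hp : IsPGroup 2 ((S : Subgroup centA).map centA.subtype) := S.isPGroup'.map _
  obtain ⟨g, hg⟩ := MulAction.exists_smul_eq Th P (hp.toSylow hidx)
  have hmem : MulAut.conj g v ∈ centA := by
    have h : MulAut.conj g v ∈ ((g • P : Sylow 2 Th) : Subgroup Th) := by
      rw [Sylow.coe_subgroup_smul]
      exact Subgroup.smul_mem_pointwise_smul _ (MulAut.conj g) _ (hP (Subgroup.mem_zpowers _))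
    rw [hg] at h
    exact Subgroup.map_subtype_le _ h
  set u := MulAut.conj g v with hu
  have u2 : u * u = 1 := by rw [hu, ← map_mul, h2, map_one]
  have u1 : u ≠ 1 := fun e => h1 ((MulAut.conj g).injective (e.trans (map_one _).symm))
  have key : IsConj (tg 0) u := by
    by_cases hua : u = tg 0
    · rw [hua]
    · by_cases hq : u ∈ qTh
      · obtain ⟨h, -, e⟩ := q_class hq u2 u1 hua
        exact (ab.trans bc).trans (isConj_iff.2 ⟨h⁻¹, by rw [inv_inv, e]⟩)
      · obtain ⟨h, -, e⟩ := d_class hmem u2 hq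
        exact (de.trans ea).symm.trans (isConj_iff.2 ⟨h⁻¹, by rw [inv_inv, e]⟩)
  exact key.trans (isConj_iff.2 ⟨g⁻¹, by rw [hu, MulAut.conj_apply]; group⟩)

end CfsgLib.ThUnique
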