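import Cfsg.Agent.Lib.ThUnique.Embed
import Cfsg.Agent.Lib.ThUnique.ThClasses
import Cfsg.Agent.Lib.ThUnique.NoCommute
import Cfsg.Agent.Lib.Invol.StronglyEmbedded
import Cfsg.Agent.Lib.Hall.Basic
import Cfsg.Agent.Lib.OddOrder.Solvable
import Cfsg.Agent.Lib.ThUnique.Card589

/-!
A group with the given involution centraliser is the Thompson group.
-/

set_option autoImplicit false
set_option maxRecDepth 20000

namespace CfsgLib.ThUnique

open Cfsg.Spor CfsgLib.CosetEnum CfsgLib.ThPres

attribute [local irreducible] keyRun certL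

universe u

namespace Setting

theorem card_cent {G : Type u} [Group G] {z : G} (S : Setting z) :
    Nat.card (Subgroup.centralizer ({z} : Set G)) = 92897280 := by
  rw [← S.range, ← Nat.card_congr (MonoidHom.ofInjective S.inj).toEquiv, card_centA]

theorem orderOf_z {G : Type u} [Group G] {z : G} (S : Setting z) : orderOf z = 2 := by
  haveI : Fact (Nat.Prime 2) := ⟨Nat.prime_two⟩
  exact orderOf_eq_prime (by rw [pow_two]; exact S.z_sq) S.z_ne

theorem range_eq_top {G : Type u} [Group G] [Finite G] {z : G} (S : Setting z) {f : Th →* G}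
    (hf : Function.Injective f) (h0 : f (tg 0) = z)
    (hHL : Subgroup.centralizer ({z} : Set G) ≤ f.range) : f.range = ⊤ := by
  classical
  set L := f.range with hLd
  by_contra hne
  have hC := S.card_cent
  have ht := S.orderOf_z
  have htL : z ∈ L := hHL (Subgroup.mem_centralizer_singleton_iff.2 rfl)
  have hcardL : Nat.card L = 90745943887872000 := by
    rw [← Nat.card_congr (MonoidHom.ofInjective hf).toEquiv]; exact card_Th
  have classes : ∀ v ∈ L, orderOf v = 2 → ∃ k ∈ L, k * v * k⁻¹ = z := by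
    intro v hv hv2
    obtain ⟨x, rfl⟩ := hv
    obtain ⟨k, hk⟩ := isConj_iff.1 (th_class (v := x) (by rwa [orderOf_injective f hf] at hv2)).symm
    exact ⟨f k, ⟨k, rfl⟩, by rw [← map_inv, ← map_mul, ← map_mul, hk, h0]⟩
  have cent_le : ∀ v ∈ L, orderOf v = 2 → Subgroup.centralizer ({v} : Set G) ≤ L := by
    intro v hv hv2 c hc
    obtain ⟨k, hk, ek⟩ := classes v hv hv2
    have hc' : k * c * k⁻¹ ∈ Subgroup.centralizer ({z} : Set G) := by
      rw [Subgroup.mem_centralizer_singleton_iff, ← ek]
      calc k * c * k⁻¹ * (k * v * k⁻¹) = k * (c * v) * k⁻¹ := by group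
        _ = k * (v * c) * k⁻¹ := by rw [Subgroup.mem_centralizer_singleton_iff.1 hc]
        _ = _ := by group
    rw [show c = k⁻¹ * (k * c * k⁻¹) * k by group]
    exact mul_mem (mul_mem (inv_mem hk) (hHL hc')) hk
  have heven : Even (Nat.card L) := by rw [hcardL]; decide
  have hse : Cfsg.IsStronglyEmbedded L := (CfsgLib.Invol.strongly_iff_centralizer_fusion hne heven).2
    ⟨fun v hv hv2 => cent_le v hv hv2, fun v hv w hw hv2 hw2 _ => by
      obtain ⟨k, hk, ek⟩ := classes v hv hv2
      obtain ⟨k', hk', ek'⟩ := classes w hw hw2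
      refine ⟨k'⁻¹ * k, mul_mem (inv_mem hk') hk, ?_⟩
      rw [show k'⁻¹ * k * v * (k'⁻¹ * k)⁻¹ = k'⁻¹ * (k * v * k⁻¹) * k' by group, ek, ← ek']
      group⟩
  obtain ⟨u, hu2, huL⟩ := CfsgLib.Invol.strongly_exists_invol_not_mem hse
  set D0 := L ⊓ L.map (MulAut.conj u).toMonoidHom with hD0
  have hodd : Odd (Nat.card D0) := hse.2.2 u huL
  set D := D0.subgroupOf L with hD
  have hDodd : Odd (Nat.card D) := by
    rw [hD, Nat.card_congr (Subgroup.subgroupOfEquivOfLe inf_le_left).toEquiv]; exact hodd
  let tL : L := ⟨z, htL⟩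
  have hcount : Nat.card (MulAction.orbit (ConjAct L) tL) = 976841775 := by
    have h1 := Subgroup.card_eq_card_quotient_mul_card_subgroup (MulAction.stabilizer (ConjAct L) tL)
    rw [← Nat.card_congr (MulAction.orbitEquivQuotientStabilizer (ConjAct L) tL)] at h1
    have h2 : Nat.card (MulAction.stabilizer (ConjAct L) tL) = 92897280 := by
      rw [← hC]
      refine Nat.card_congr
        { toFun := fun c => ⟨((ConjAct.ofConjAct (c : ConjAct L) : L) : G), ?_⟩
          invFun := fun c => ⟨ConjAct.toConjAct ⟨(c : G), hHL c.2⟩, ?_⟩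
          left_inv := fun c => rfl
          right_inv := fun c => rfl }
      · refine Subgroup.mem_centralizer_singleton_iff.2 ?_
        have hc : (c : ConjAct L) • tL = tL := c.2
        rw [ConjAct.smul_def] at hc
        exact mul_inv_eq_iff_eq_mul.1 (congrArg Subtype.val hc)
      · rw [MulAction.mem_stabilizer_iff, ConjAct.smul_def, ConjAct.ofConjAct_toConjAct]
        exact mul_inv_eq_iff_eq_mul.2 (Subtype.ext (Subgroup.mem_centralizer_singleton_iff.1 c.2))
    rw [h2, show Nat.card (ConjAct L) = 90745943887872000 from hcardL] at h1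
    omega
  have hdiv : 976841775 ∣ Nat.card D := by
    let DC : Subgroup (ConjAct L) := D.map ConjAct.toConjAct.toMonoidHom
    have hDC : Nat.card DC = Nat.card D := Subgroup.card_map_of_injective ConjAct.toConjAct.injective
    have horb : MulAction.orbit DC tL = MulAction.orbit (ConjAct L) tL := by
      refine Set.Subset.antisymm ?_ ?_
      · rintro _ ⟨g, rfl⟩; exact ⟨(g : ConjAct L), rfl⟩
      · rintro w ⟨g, rfl⟩
        have ht2L : orderOf tL = 2 := by rw [← Subgroup.orderOf_coe]; exact ht
        have hw : orderOf (((g • tL : L)) : G) = 2 := by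
          rw [Subgroup.orderOf_coe, ConjAct.smul_def, ← MulAut.conj_apply, MulEquiv.orderOf_eq, ht2L]
        obtain ⟨m, hm', em⟩ := CfsgLib.Invol.strongly_inter_transitive hse hu2 huL ht htL hw (g • tL : L).2
        have hmL : m ∈ L := hm'.1
        refine ⟨⟨ConjAct.toConjAct (⟨m, hmL⟩ : L), ⟨⟨m, hmL⟩, hm', rfl⟩⟩, ?_⟩
        refine Subtype.ext ?_
        show ((ConjAct.toConjAct (⟨m, hmL⟩ : L) • tL : L) : G) = _
        rw [ConjAct.toConjAct_smul]
        exact em
    have h1 := Subgroup.card_eq_card_quotient_mul_card_subgroup (MulAction.stabilizer DC tL)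
    rw [← Nat.card_congr (MulAction.orbitEquivQuotientStabilizer DC tL), horb, hcount, hDC] at h1
    exact ⟨_, h1⟩
  have hDd : Nat.card D ∣ 90745943887872000 := hcardL ▸ Subgroup.card_subgroup_dvd_card D
  have hod : Nat.card D ∣ 2769346432125 := by
    have hc : Nat.Coprime (Nat.card D) (2 ^ 15) := (Nat.coprime_two_right.2 hDodd).pow_right 15
    refine hc.dvd_of_dvd_mul_left ?_
    norm_num
    exact hDd
  obtain ⟨q, hq⟩ := hdiv
  have hq' : q ∣ 2835 := Nat.dvd_of_mul_dvd_mul_left (by norm_num : 0 < 976841775)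
    (by rw [← hq]; norm_num; exact hod)
  haveI : Group.IsSolvable D := CfsgLib.OddOrder.solvable_of_odd (Nat.card D) D rfl hDodd
  have hmn : Nat.card D = 589 * (1658475 * q) := by rw [hq]; ring
  have hcop : Nat.Coprime 589 (1658475 * q) :=
    (show Nat.Coprime 589 4701776625 by norm_num).coprime_dvd_right (by
      rw [show (4701776625 : ℕ) = 1658475 * 2835 by norm_num]; exact Nat.mul_dvd_mul_left _ hq')
  obtain ⟨K, hK⟩ := CfsgLib.Hall.exists_hall hmn hcop
  obtain ⟨x, y, hx, hy, hxy⟩ := card_589' hK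
  let j : K →* Th := (MonoidHom.ofInjective hf).symm.toMonoidHom.comp (D.subtype.comp K.subtype)
  have hj : Function.Injective j :=
    (MonoidHom.ofInjective hf).symm.injective.comp (D.subtype_injective.comp K.subtype_injective)
  exact no_commute_19_31 (by rw [orderOf_injective j hj, hx]) (by rw [orderOf_injective j hj, hy])
    (by rw [← map_mul, ← map_mul, hxy])

/-- a finite group with this setting is the Thompson group -/
theorem iso_th {G : Type u} [Group G] [Finite G] {z : G} (S : Setting z) : Cfsg.Spor.IsoTh G := by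
  obtain ⟨f, hf, h0, hle⟩ := S.exists_embedding
  exact ⟨((MulEquiv.subgroupCongr (S.range_eq_top hf h0 hle)).trans Subgroup.topEquiv).symm.trans
    (MonoidHom.ofInjective hf).symm⟩

theorem facts {G : Type u} [Group G] [Finite G] {z : G} (S : Setting z) :
    IsSimpleGroup G ∧ Nat.card G = 90745943887872000 ∧
      (∀ x y : G, orderOf x = 2 → orderOf y = 2 → IsConj x y) ∧ Cfsg.Spor.IsoTh G := by
  obtain ⟨e⟩ := S.iso_th
  haveI := simple_Th
  have hc : ∀ x : G, orderOf x = 2 → IsConj (e.symm (tg 0)) x := fun x hx => by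
    have h := th_class (v := e x) (by rw [MulEquiv.orderOf_eq]; exact hx)
    simpa using e.symm.toMonoidHom.map_isConj h
  exact ⟨e.isSimpleGroup, (Nat.card_congr e.toEquiv).trans card_Th,
    fun x y hx hy => (hc x hx).symm.trans (hc y hy), ⟨e⟩⟩

end Setting

end CfsgLib.ThUnique
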